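import Cfsg.Agent.H619.BD.PermBlock
import Cfsg.Agent.H90.R4.HS_m3
import Cfsg.Agent.Blocks.PrincipalSection
import Cfsg.Agent.H436.Krein_m3
import Cfsg.Agent.S0157
import Cfsg.Agent.H619.R4.SporBase
import Cfsg.Agent.H825.HT.Tools
import Cfsg.Agent.S4483
import Cfsg.Agent.H187.FiTwoZ.Base
import Cfsg.Agent.H589.BD.Kill_m3
import Cfsg.Agent.H603.SporElim
import Cfsg.Agent.H487.SchurMult
import Cfsg.Agent.S2049
import Cfsg.Agent.S2050
import Cfsg.Agent.S2051
import Cfsg.Agent.S2052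
import Cfsg.Agent.S2056
import Cfsg.Agent.S2057
import Cfsg.Agent.S2075
import Cfsg.Agent.S2076
import Cfsg.Agent.S2077
import Cfsg.Agent.S2078
import Cfsg.Agent.S2082
import Cfsg.Agent.S2083
import Cfsg.Agent.H816.IMM
import Cfsg.Agent.H877.BSgnDeg
import Cfsg.Agent.S2034
import Cfsg.Agent.S2035
import Cfsg.Agent.S2036
import Cfsg.Agent.S2037
import Cfsg.Agent.S2038
import Cfsg.Agent.S2039
import Cfsg.Agent.S2040
import Cfsg.Agent.S2041
import Cfsg.Agent.S2042
import Cfsg.Agent.S2043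
import Cfsg.Agent.S2044
import Cfsg.Agent.S2045
import Cfsg.Agent.S2046
import Cfsg.Agent.S2047
import Cfsg.Agent.S2048
import Cfsg.Agent.S2053
import Cfsg.Agent.S2054
import Cfsg.Agent.S2055
import Cfsg.Agent.S2058
import Cfsg.Agent.S2059
import Cfsg.Agent.S2060
import Cfsg.Agent.S2061
import Cfsg.Agent.S2062
import Cfsg.Agent.S2063
import Cfsg.Agent.S2064
import Cfsg.Agent.S2065
import Cfsg.Agent.S2066
import Cfsg.Agent.S2067
import Cfsg.Agent.S2068
import Cfsg.Agent.S2069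
import Cfsg.Agent.S2070
import Cfsg.Agent.S2071
import Cfsg.Agent.S2072
import Cfsg.Agent.S2073
import Cfsg.Agent.S2074
import Cfsg.Agent.S2079
import Cfsg.Agent.S2080
import Cfsg.Agent.S2081
import Cfsg.Agent.S2084
import Cfsg.Agent.S2085
import Cfsg.Agent.H819.K4.HSCol
import Cfsg.Agent.H843.IMC.Frame3_m3
import Cfsg.Agent.H719.BD.Beta
import Mathlib.RingTheory.Polynomial.Cyclotomic.Factorization
import Cfsg.Agent.H116.RatB0.RowRgd
import Cfsg.Agent.Nodes.HasRGD
import Cfsg.Agent.KFacts.RgdAutFacts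
import Cfsg.Agent.H554.RGNo
import Cfsg.Agent.H410.BR.OmInst_mg_m3
import Cfsg.Agent.H146.KW.CycGL_m3
import Cfsg.Agent.GenOrth.Normal
import Cfsg.Agent.S0286
import Cfsg.Agent.S0287
import Cfsg.Agent.S0288
import Cfsg.Agent.H410.BR.OmCard_m3
import Mathlib.GroupTheory.Nilpotent
import Mathlib.GroupTheory.Sylow
import Cfsg.Agent.KFacts.RgdFilt
import Cfsg.Agent.H314.RatB.OPlus
import Cfsg.Agent.H116.RatB0.StB0
import Cfsg.Agent.H934.IdxCl
import Cfsg.Agent.H726.BD.Chev
import Cfsg.Agent.H589.BD.Ex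
import Cfsg.Agent.Nodes.RGDClass
import Cfsg.Agent.H719.BD.PsuNum
import Mathlib.Tactic
import Cfsg.Agent.KFacts.SuzTwoB
import Cfsg.Agent.S1680
import Cfsg.Agent.H300.K4.JTwo_m3
import Cfsg.Agent.H345.K4.Co1
import Cfsg.Agent.H345.K4.Co2
import Cfsg.Agent.H494.R4.TitsAct
import Cfsg.Agent.H90.K4.JThree
import Cfsg.Agent.H492.K4J4
import Cfsg.Agent.H187.FiTwoZ.FiTwo
import Cfsg.Agent.H678.DG.FiPts
import Cfsg.Agent.LThreeM.FiRow_mg
import Cfsg.Agent.H755.CC.Fi24
import Cfsg.Agent.H713.Two.Ru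
import Cfsg.Agent.H38.K4.HN
import Cfsg.Agent.H492.ThRat
import Cfsg.Agent.H997.PF.OutPart
import Cfsg.Agent.H419.Spor.Baby
import Cfsg.Agent.S2227
import Mathlib.GroupTheory.Perm.Centralizer
import Cfsg.Agent.LieClassical.HermSiegel
import Cfsg.Agent.LieClassical.HermCount
import Cfsg.Agent.Nodes.WittInst
import Cfsg.Agent.S0279
import Mathlib
import Cfsg.Agent.H589.BD.Defs
import Cfsg.Agent.H332.EB.Two_m3
import Cfsg.Agent.H684.CoverCount_m3
import Cfsg.Agent.H685.R4.Base_m3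
import Cfsg.Agent.S0887
import Cfsg.Agent.H979.LieSplit
import Cfsg.Agent.H694.EB.Low
import Cfsg.Agent.H894.CompSimp_m3
import Cfsg.Agent.H654.BD.OwnBlk_m3
import Cfsg.Agent.H638.FD.Rows
import Cfsg.Agent.H947.PQ.Own_m3
import Cfsg.Agent.H625.R4.Tools
import Cfsg.Agent.S4613
import Cfsg.Agent.H766.PQ.Alt
import Cfsg.Agent.H481.TBound
import Cfsg.Agent.S2119
import Cfsg.Agent.Schreier.ChevIso_m3
import Cfsg.Agent.H158.DlRows_m3
import Cfsg.Agent.S2116
import Cfsg.Agent.H262.ElFourA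
import Cfsg.Agent.H152.AbClassical
import Cfsg.Agent.H454.SpExt
import Cfsg.Agent.H376.SpEmb
import Cfsg.Agent.S0814
import Cfsg.Agent.S0245
import Cfsg.Agent.S0246
import Cfsg.Agent.H659.BFC
import Cfsg.Agent.H779.DP.PSU
import Cfsg.Agent.H131.ClassTwo
import Cfsg.Agent.H954.OutAllL
import Cfsg.Agent.FastGrp
import Cfsg.Agent.Prune
set_option linter.all false

section
prune_inst 0x7f00000000000000000000000000000000000000000000000000000000000000000000000000000000000000000000000000000000000000000000000000000000000000000000000000000000000000003fffffffffffffffffffffffffffbeffbdffffffff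

section
prune_inst 0xdcfcf9aba839dedfff7e3fa690cdf811c08fffa4dff94bffe0e19f2bdf230009c563a509e090fe0ed6c21410a87843fb7eeeffe06bdc7ffffd1ff45ffbee0ff5f7bd0051d488340f340ffe63f0778e7f000000000000000000000000000000000200000000

-- part: H728/DL/Rank
section
prune_inst 0x2303045007c20120000000594d3201e22b6000420002b000090a00d420d8b7b0280c00761a6900c021242a8850030000811100090420000000e000000011c00a08000d2003250ad0cb6001900b086000000000000000000000000000000041000000000000
set_option linter.all false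
open scoped Cfsg.Agent.FastGrp

-- part: H619/BD/RankB0
section
/-!
# Constituents of a permutation character in the principal block (S4932, helper619)

If no proper subset (with the trivial character) of the constituents has degree divisible by the `p`-part of `|X|`, all
constituents are in the principal `p`-block.
-/

set_option autoImplicit false

universe u v

namespace Cfsg.Agent.H619.BD

open Cfsg Cfsg.Agent.Characters Cfsg.Agent.Characters.Core Cfsg.Agent.Blocks Cfsg.Agent.Blocks.LocalRing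
open Cfsg.Agent.H690.Spor Cfsg.Agent.H619.R4
open scoped ComplexConjugate

variable {p : ℕ} {M : Ideal AlgInt} {G : Type u} [Group G] [Finite G]

/-- **All constituents in the principal block.** -/
theorem all_mem_principal (hM : IsPModular p M) {X : Type v} [MulAction G X] [Finite X] (x₀ : X)
    (htr : ∀ x : X, ∃ g : G, g • x₀ = x) {n : ℕ} (χ : Fin (n + 1) → IrrCharacter G)
    (h0 : (χ 0 : G → ℂ) = fun _ => 1)
    (hπ : ∀ g : G, (Nat.card (MulAction.fixedBy X g) : ℂ) = ∑ i, (χ i : G → ℂ) g) {d : Fin (n + 1) → ℕ}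
    (hd : ∀ i, (χ i : G → ℂ) 1 = d i) {e : ℕ} (he : p ^ e ∣ ∑ i, d i)
    (hT : ∀ T : Finset (Fin (n + 1)), 0 ∈ T → (∑ i ∈ T, d i) % p ^ e = 0 → T = Finset.univ) (i : Fin (n + 1)) :
    χ i ∈ principalBlock M G := by
  classical
  have hp : p.Prime := prime hM
  have := isPrime hM
  have : Nonempty X := ⟨x₀⟩
  have hcard : Nat.card X = ∑ i, d i := by
    have h1 := hπ 1
    rw [MulAction.fixedBy_one_eq_univ] at h1
    have h2 : Nat.card (Set.univ : Set X) = Nat.card X := Nat.card_univ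
    rw [h2] at h1
    simp only [hd] at h1
    exact_mod_cast h1
  have h1 := perm_block_dvd hM (PrincipalSection.isPBlock_principalBlock (K := G) (M := M)) x₀ htr χ hπ
  have h2 : p ^ e ∣ p ^ (Nat.card X).factorization p := by
    refine pow_dvd_pow p ?_
    rw [← hp.pow_dvd_iff_le_factorization Nat.card_pos.ne', hcard]
    exact he
  have h3 : ∑ i with χ i ∈ principalBlock M G, charDegree (χ i : G → ℂ) =
      ∑ i with χ i ∈ principalBlock M G, d i :=
    Finset.sum_congr rfl fun i _ => Blocks.Basic.charDegree_of_eq (hd i)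
  rw [h3] at h1
  have h4 := hT (Finset.univ.filter fun i => χ i ∈ principalBlock M G) (by
    rw [Finset.mem_filter]
    refine ⟨Finset.mem_univ _, ?_⟩
    have h5 : χ 0 = ⟨fun _ => 1, isIrr_one⟩ := Subtype.ext h0
    rw [h5]
    exact PrincipalSection.one_mem_principalBlock) (Nat.mod_eq_zero_of_dvd (h2.trans h1))
  have h5 : i ∈ Finset.univ.filter fun i => χ i ∈ principalBlock M G := by rw [h4]; exact Finset.mem_univ i
  exact (Finset.mem_filter.1 h5).2

end Cfsg.Agent.H619.BD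
end

-- part: H619/BD/SchemeDec
section
/-!
# The decomposition of a multiplicity free permutation character (S4932, helper619)

For a symmetric association scheme (`H816.IMEig.Col`) the spherical functions give all constituents of the
permutation character; with `all_mem_principal` all of them are in the principal `p`-block when no proper subset
has degree divisible by the `p`-part of `|X|`.
-/

set_option autoImplicit false
set_option linter.unusedSectionVars false

universe u v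

namespace Cfsg.Agent.H619.BD

open Cfsg Cfsg.Agent.Characters Cfsg.Agent.Characters.Core Module
open Cfsg.Agent.Blocks Cfsg.Agent.Blocks.LocalRing
open Cfsg.Agent.H816.IMEig Cfsg.Agent.H816.IMEig.Col
open scoped ComplexConjugate

variable {G : Type u} [Group G]

/-- **A character is the sum of distinct constituents with the right degree.** -/
theorem eq_sum_of_constituents [Finite G] {π : G → ℂ} (hπ : IsCharacter G π) {n : ℕ} (χ : Fin n → IrrCharacter G)
    (hc : ∀ i, ∃ c, IsCharacter G c ∧ π = (χ i : G → ℂ) + c) (hinj : Function.Injective χ)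
    (h1 : π 1 = ∑ i, (χ i : G → ℂ) 1) (g : G) : π g = ∑ i, (χ i : G → ℂ) g := by
  classical
  have := Fintype.ofFinite G
  have := finite_irr (G := G)
  have := Fintype.ofFinite (IrrCharacter G)
  obtain ⟨m, hm⟩ := exists_nat_comb hπ
  -- the multiplicities are positive
  have hpos : ∀ i, 1 ≤ m (χ i) := by
    intro i
    obtain ⟨c, hcc, hci⟩ := hc i
    obtain ⟨k, hk⟩ := exists_nat_comb hcc
    have h2 : classInner π (χ i : G → ℂ) = 1 + (k (χ i) : ℂ) := by
      rw [hci, classInner_add_left, classInner_irr_self (χ i).2, hk, classInner_sum_nsmul_irr]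
    rw [hm, classInner_sum_nsmul_irr] at h2
    have h3 : m (χ i) = 1 + k (χ i) := by exact_mod_cast h2
    omega
  let d : IrrCharacter G → ℕ := fun ψ => charDegree (ψ : G → ℂ)
  have hd : ∀ ψ : IrrCharacter G, (ψ : G → ℂ) 1 = d ψ := by
    intro ψ
    obtain ⟨n, hn, h⟩ := isIrr_apply_one ψ.2
    show (ψ : G → ℂ) 1 = ((charDegree (ψ : G → ℂ) : ℕ) : ℂ)
    rw [Blocks.Basic.charDegree_of_eq h, h]
  have hdpos : ∀ ψ : IrrCharacter G, 0 < d ψ := by
    intro ψ
    obtain ⟨n, hn, h⟩ := isIrr_apply_one ψ.2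
    show 0 < charDegree (ψ : G → ℂ)
    rw [Blocks.Basic.charDegree_of_eq h]
    exact hn
  let e : IrrCharacter G → ℕ := fun ψ => if ψ ∈ Finset.univ.image χ then 1 else 0
  have hle : ∀ ψ, e ψ ≤ m ψ := by
    intro ψ
    by_cases hψ : ψ ∈ Finset.univ.image χ
    · obtain ⟨i, -, rfl⟩ := Finset.mem_image.1 hψ
      show (if χ i ∈ Finset.univ.image χ then 1 else 0) ≤ m (χ i)
      rw [if_pos hψ]
      exact hpos i
    · show (if ψ ∈ Finset.univ.image χ then 1 else 0) ≤ m ψ
      rw [if_neg hψ]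
      exact Nat.zero_le _
  have hsum : ∀ f : IrrCharacter G → ℂ, ∑ i, f (χ i) = ∑ ψ, (e ψ : ℂ) * f ψ := by
    intro f
    have h3 : ∑ ψ, (e ψ : ℂ) * f ψ = ∑ ψ ∈ Finset.univ.image χ, f ψ := by
      have h4 : ∀ ψ, (e ψ : ℂ) * f ψ = if ψ ∈ Finset.univ.image χ then f ψ else 0 := by
        intro ψ
        show ((if ψ ∈ Finset.univ.image χ then 1 else 0 : ℕ) : ℂ) * f ψ = _
        split_ifs <;> simp
      rw [Finset.sum_congr rfl fun ψ _ => h4 ψ, Finset.sum_ite_mem, Finset.univ_inter]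
    rw [h3, Finset.sum_image fun a _ b _ hab => hinj hab]
  have hdeg : ∑ ψ, m ψ * d ψ = ∑ ψ, e ψ * d ψ := by
    have h4 : π 1 = ∑ ψ, (m ψ : ℂ) * (d ψ : ℂ) := by
      rw [hm, Finset.sum_apply]
      refine Finset.sum_congr rfl fun ψ _ => ?_
      rw [Pi.smul_apply, nsmul_eq_mul, hd]
    have h5 : ∑ i, (χ i : G → ℂ) 1 = ∑ ψ, (e ψ : ℂ) * (d ψ : ℂ) := by
      rw [hsum fun ψ => (ψ : G → ℂ) 1]
      exact Finset.sum_congr rfl fun ψ _ => by rw [hd]
    rw [h4, h5] at h1
    exact_mod_cast h1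
  have heq : ∀ ψ, e ψ = m ψ := by
    have h6 := (Finset.sum_eq_sum_iff_of_le (s := Finset.univ) (f := fun ψ => e ψ * d ψ) (g := fun ψ => m ψ * d ψ)
      fun ψ _ => Nat.mul_le_mul_right _ (hle ψ)).1 hdeg.symm
    intro ψ
    exact Nat.eq_of_mul_eq_mul_right (hdpos ψ) (h6 ψ (Finset.mem_univ ψ))
  rw [hsum fun ψ => (ψ : G → ℂ) g, hm, Finset.sum_apply]
  refine Finset.sum_congr rfl fun ψ _ => ?_
  rw [Pi.smul_apply, nsmul_eq_mul, heq ψ]

section scheme

variable {X : Type v} [MulAction G X] {ι : Type} [Fintype ι] [DecidableEq ι] {c : X → X → ι} {o : ι}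

/-- The character of the permutation representation. -/
theorem prep_character [Fintype X] [DecidableEq X] (g : G) :
    (prep G X).character g = (Nat.card (MulAction.fixedBy X g) : ℂ) := by
  show LinearMap.trace ℂ (X → ℂ) (prep G X g) = _
  rw [LinearMap.trace_eq_matrix_trace ℂ (Pi.basisFun ℂ X), Matrix.trace]
  have h2 : ∀ x, (LinearMap.toMatrix (Pi.basisFun ℂ X) (Pi.basisFun ℂ X) (prep G X g)).diag x =
      if g • x = x then 1 else 0 := by
    intro x
    rw [Matrix.diag_apply, LinearMap.toMatrix_apply, Pi.basisFun_apply, Pi.basisFun_repr, prep_apply]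
    by_cases hx : g • x = x
    · have hx' : g⁻¹ • x = x := by rw [inv_smul_eq_iff, hx]
      rw [if_pos hx, hx', Pi.single_eq_same]
    · have hx' : g⁻¹ • x ≠ x := fun h => hx (by rw [inv_smul_eq_iff] at h; exact h.symm)
      rw [if_neg hx, Pi.single_eq_of_ne hx']
  simp only [h2]
  rw [Finset.sum_boole, Nat.card_eq_fintype_card, Fintype.card_subtype]
  rfl

/-- **The constituent belonging to a spherical function.** -/
theorem exists_constituent [Finite G] [Finite X] (h : Col G X ι c o) {x₀ z₀ : X} {t : ι → ι → ℕ} {θ : ℂ}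
    {ω : ι → ℂ} (ht : ∀ u w, Nat.card {y // c x₀ y = u ∧ c z₀ y = w} = t u w) (hE : Eig (c x₀ z₀) o t θ ω)
    {f : ℕ} (hf : (f : ℂ) * ∑ u, ((∑ w, t u w : ℕ) : ℂ) * ω u ^ 2 = (Nat.card X : ℂ)) :
    ∃ χ : IrrCharacter G, (χ : G → ℂ) 1 = f ∧ ∃ c' : G → ℂ, IsCharacter G c' ∧
      (fun g : G => (Nat.card (MulAction.fixedBy X g) : ℂ)) = (χ : G → ℂ) + c' := by
  classical
  have := Fintype.ofFinite X
  have hX : (Nat.card X : ℂ) ≠ 0 := by
    have : Nonempty X := ⟨x₀⟩
    exact_mod_cast (Nat.card_pos (α := X)).ne'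
  have hS : SS t ω ≠ 0 := by
    intro h0
    unfold SS at h0
    rw [h0, mul_zero] at hf
    exact hX hf.symm
  obtain ⟨U', hU'⟩ := exists_isCompl_sub (h.sub ω)
  refine ⟨⟨_, isIrrCharacter_of_rep _ (h.irr ht hE)⟩, ?_, U'.toRepresentation.character, isCharacter_of_rep _, ?_⟩
  · show (h.sub ω).toRepresentation.character 1 = f
    rw [Representation.char_one]
    have h1 := h.finrank_mul ht hE hS
    rw [← Nat.card_eq_fintype_card, ← hf] at h1
    exact mul_right_cancel₀ hS h1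
  · have h3 := character_eq_add_of_isCompl (h.sub ω) U' hU'
    rw [← h3]
    funext g
    exact (prep_character g).symm

end scheme

/-- **All constituents of a multiplicity free permutation character in the principal block**, from the list of
degrees; `d 0 = 1` belongs to the trivial character. -/
theorem all_degrees {p : ℕ} [Finite G] {X : Type v} [MulAction G X] [Finite X] (x₀ : X) (htr : ∀ x : X, ∃ g : G, g • x₀ = x) {n : ℕ} {d : Fin (n + 1) → ℕ} (hd0 : d 0 = 1)
    (hd : ∀ i, ∃ χ : IrrCharacter G, (χ : G → ℂ) 1 = d i ∧ ∃ c' : G → ℂ, IsCharacter G c' ∧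
      (fun g : G => (Nat.card (MulAction.fixedBy X g) : ℂ)) = (χ : G → ℂ) + c')
    (hinj : Function.Injective d) (hs : ∑ i, d i = Nat.card X) {e : ℕ} (he : p ^ e ∣ ∑ i, d i)
    (hT : ∀ T : Finset (Fin (n + 1)), 0 ∈ T → (∑ i ∈ T, d i) % p ^ e = 0 → T = Finset.univ) (i : Fin (n + 1)) :
    ∃ χ : IrrCharacter G, (∀ M : Ideal AlgInt, IsPModular p M → χ ∈ principalBlock M G) ∧
      charDegree (χ : G → ℂ) = d i ∧ ∀ g, conj ((χ : G → ℂ) g) = (χ : G → ℂ) g := by
  classical
  have := Fintype.ofFinite G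
  have := Fintype.ofFinite X
  have hne : Nonempty X := ⟨x₀⟩
  choose χ hχ1 hχc using hd
  have hχinj : Function.Injective χ := by
    intro a b hab
    apply hinj
    have h1 := hχ1 a
    rw [hab, hχ1 b] at h1
    exact_mod_cast h1.symm
  have hπc : IsCharacter G (fun g : G => (Nat.card (MulAction.fixedBy X g) : ℂ)) :=
    Cfsg.Agent.S0157.isCharacter_fixedBy X
  have hπ1 : (fun g : G => (Nat.card (MulAction.fixedBy X g) : ℂ)) 1 = ∑ i, (χ i : G → ℂ) 1 := by
    show (Nat.card (MulAction.fixedBy X (1 : G)) : ℂ) = _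
    rw [MulAction.fixedBy_one_eq_univ]
    have h2 : Nat.card (Set.univ : Set X) = Nat.card X := Nat.card_univ
    rw [h2, ← hs, Nat.cast_sum]
    exact Finset.sum_congr rfl fun i _ => (hχ1 i).symm
  have hsum := eq_sum_of_constituents hπc χ hχc hχinj hπ1
  -- the trivial character is one of them, of degree one
  have hpre : MulAction.IsPretransitive G X := ⟨fun x y => by
    obtain ⟨g, hg⟩ := htr x
    obtain ⟨k, hk⟩ := htr y
    exact ⟨k * g⁻¹, by rw [mul_smul, ← hg, inv_smul_smul, hk]⟩⟩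
  have h10 : (χ 0 : G → ℂ) = fun _ => 1 := by
    have h3 : classInner (fun g : G => (Nat.card (MulAction.fixedBy X g) : ℂ)) 1 = 1 := by
      have h4 := Cfsg.Agent.S0157.avg_fixedBy (G := G) X
      rw [Cfsg.Agent.S0157.card_orbits_of_pretransitive G X] at h4
      simpa only [classInner, _root_.Nat.card_eq_fintype_card, _root_.Fintype.card_ofFinset, _root_.MulAction.mem_fixedBy, _root_.Pi.one_apply, _root_.map_one, _root_.mul_one, _root_.Nat.cast_one] using h4
    have h5 : (fun g : G => (Nat.card (MulAction.fixedBy X g) : ℂ)) = ∑ i, (χ i : G → ℂ) := by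
      funext g
      rw [Finset.sum_apply]
      exact hsum g
    rw [h5, classInner_sum_left] at h3
    have h6 : ∃ i, (χ i : G → ℂ) = 1 := by
      by_contra hcon
      push Not at hcon
      rw [Finset.sum_eq_zero fun i _ => classInner_irr_ne (χ i).2 isIrr_one (hcon i)] at h3
      exact zero_ne_one h3
    obtain ⟨i, hi⟩ := h6
    have h7 : d i = 1 := by
      have h8 := hχ1 i
      rw [hi] at h8
      have : (1 : ℂ) = (d i : ℂ) := h8
      exact_mod_cast this.symm
    have h9 : i = 0 := hinj (by rw [h7, hd0])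
    rw [← h9, hi]
    rfl
  have hmem : ∀ M : Ideal AlgInt, IsPModular p M → χ i ∈ principalBlock M G := fun M hM =>
    all_mem_principal hM x₀ htr χ h10 hsum hχ1 he hT i
  refine ⟨χ i, hmem, Blocks.Basic.charDegree_of_eq (hχ1 i), ?_⟩
  -- real: the conjugate is a constituent of the same degree
  intro g
  have hconj : ∃ j, χ j = ⟨_, isIrr_conj (χ i).2⟩ := by
    by_contra hcon
    push Not at hcon
    have h5 : (fun g : G => (Nat.card (MulAction.fixedBy X g) : ℂ)) = ∑ i, (χ i : G → ℂ) := by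
      funext g
      rw [Finset.sum_apply]
      exact hsum g
    have h6 : classInner (fun g : G => (Nat.card (MulAction.fixedBy X g) : ℂ)) (fun g => conj ((χ i : G → ℂ) g)) = 0 := by
      rw [h5, classInner_sum_left]
      refine Finset.sum_eq_zero fun j _ => classInner_irr_ne (χ j).2 (isIrr_conj (χ i).2) fun h => hcon j ?_
      exact Subtype.ext h
    have h7 : classInner (fun g : G => (Nat.card (MulAction.fixedBy X g) : ℂ)) (χ i : G → ℂ) = 1 := by
      rw [h5, classInner_sum_left, Finset.sum_eq_single i]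
      · exact classInner_irr_self (χ i).2
      · intro j _ hj
        exact classInner_irr_ne (χ j).2 (χ i).2 fun h => hj (hχinj (Subtype.ext h))
      · intro h
        exact absurd (Finset.mem_univ i) h
    have h8 : classInner (fun g : G => (Nat.card (MulAction.fixedBy X g) : ℂ)) (fun g => conj ((χ i : G → ℂ) g)) =
        conj (classInner (fun g : G => (Nat.card (MulAction.fixedBy X g) : ℂ)) (χ i : G → ℂ)) := by
      simp only [classInner, map_mul, map_sum, map_inv₀, Complex.conj_natCast]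
    rw [h8, h7, map_one] at h6
    exact one_ne_zero h6
  obtain ⟨j, hj⟩ := hconj
  have h9 : j = i := by
    apply hinj
    have h10 := hχ1 j
    rw [hj] at h10
    have h11 : conj ((χ i : G → ℂ) 1) = (d j : ℂ) := h10
    rw [hχ1 i, Complex.conj_natCast] at h11
    exact_mod_cast h11.symm
  rw [h9] at hj
  exact (congrFun (congrArg Subtype.val hj) g).symm

end Cfsg.Agent.H619.BD
end

-- part: H619/BD/KData
section
/-!
# Data for `Kill p S` for the sporadic groups (S4932, helper619)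

* `B0D p S d` : an irreducible character of degree `d` in the principal `p`-block of `S`;
* `KD p S` : `KCom p S ∨ KZer p S`, the data used by `kill_common` and `kill_zero` (`H589.BD.Crit`), for `|Out S| ≤ 2`;
* `B0D.of_real` : real characters of odd degree, `p = 2` (S4483);
* `B0D.rank_three`, `B0D.scheme` : constituents of permutation characters;
* `KD.common`, `KD.zero`, `KD.congr`.
-/

set_option autoImplicit false

open Cfsg

namespace Cfsg.Agent.H619.BD

open Cfsg.Agent.Characters Cfsg.Agent.Characters.Core Cfsg.Agent.Blocks Cfsg.Agent.Blocks.LocalRing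
open Cfsg.Agent.H619.R4
open scoped ComplexConjugate

universe u v

/-- An irreducible character of degree `d` in the principal `p`-block. -/
def B0D (p : ℕ) (S : Type*) [Group S] (d : ℕ) : Prop :=
  ∃ χ : IrrCharacter S, (∀ M : Ideal AlgInt, IsPModular p M → χ ∈ principalBlock M S) ∧
    charDegree (χ : S → ℂ) = d

/-- Two degrees with a common prime. -/
def KCom (p : ℕ) (S : Type*) [Group S] : Prop :=
  ∃ a b r : ℕ, B0D p S a ∧ B0D p S b ∧ 1 < a ∧ 1 < b ∧ r.Prime ∧ r ≠ p ∧ r ∣ a ∧ r ∣ b ∧ a ≠ b ∧ a ≠ 2 * b ∧ b ≠ 2 * a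

/-- One degree of `r`-defect zero and an element of order divisible by `p r`. -/
def KZer (p : ℕ) (S : Type*) [Group S] : Prop :=
  ∃ a r : ℕ, B0D p S a ∧ 1 < a ∧ r.Prime ∧ r ≠ p ∧ r ≠ 2 ∧ r ^ (Nat.card S).factorization r ∣ a ∧
    ∃ u : S, p * r ∣ orderOf u

/-- The data for `Kill p S`. -/
def KD (p : ℕ) (S : Type*) [Group S] : Prop := KCom p S ∨ KZer p S

theorem B0D.congr {p : ℕ} {S T : Type*} [Group S] [Group T] [Finite S] (e : S ≃* T) {d : ℕ} (h : B0D p S d) :
    B0D p T d := by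
  obtain ⟨χ, h1, h2⟩ := h
  have : Finite T := Finite.of_equiv _ e.toEquiv
  refine ⟨⟨(χ : S → ℂ) ∘ e.symm.toMonoidHom, isIrr_comp e.symm.toMonoidHom e.symm.surjective χ.2⟩, fun M hM => ?_, ?_⟩
  · have := isPrime hM
    exact Cfsg.Agent.H133.PB.mem_principalBlock_comp e.symm.toMonoidHom e.symm.surjective (h1 M hM)
  · rw [← h2]
    show charDegree ((χ : S → ℂ) ∘ e.symm.toMonoidHom) = charDegree (χ : S → ℂ)
    unfold charDegree
    rw [Function.comp_apply, map_one]

theorem KCom.congr {p : ℕ} {S T : Type*} [Group S] [Group T] [Finite S] (e : S ≃* T) (h : KCom p S) : KCom p T := by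
  obtain ⟨a, b, r, h1, h2, h3⟩ := h
  exact ⟨a, b, r, h1.congr e, h2.congr e, h3⟩

theorem KZer.congr {p : ℕ} {S T : Type*} [Group S] [Group T] [Finite S] (e : S ≃* T) (h : KZer p S) : KZer p T := by
  obtain ⟨a, r, h1, h2, h3, h4, h5, h6, u, hu⟩ := h
  refine ⟨a, r, h1.congr e, h2, h3, h4, h5, ?_, e u, ?_⟩
  · rw [← Nat.card_congr e.toEquiv]
    exact h6
  · rw [MulEquiv.orderOf_eq e u]
    exact hu

theorem KD.congr {p : ℕ} {S T : Type*} [Group S] [Group T] [Finite S] (e : S ≃* T) (h : KD p S) : KD p T :=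
  h.imp (fun h => h.congr e) fun h => h.congr e

/-- **A real character of odd degree is in the principal `2`-block.** -/
theorem B0D.of_real {S : Type*} [Group S] [Finite S] {d : ℕ} (h : RC S d) (hd : Odd d) : B0D 2 S d := by
  obtain ⟨χ, h1, h2⟩ := h
  exact ⟨χ, fun M hM => (Cfsg.Agent.S4483.result M hM).1 χ h1 (by rw [h2]; exact hd), h2⟩

/-- A rational character of odd degree is in the principal `2`-block. -/
theorem B0D.of_rat {S : Type*} [Group S] [Finite S] {χ : S → ℂ} (hχ : IsIrrCharacter S χ) (hr : ∀ g, ∃ q : ℚ, χ g = q)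
    {d : ℕ} (h1 : χ 1 = d) (hd : Odd d) : B0D 2 S d := by
  refine B0D.of_real ⟨⟨χ, hχ⟩, fun g => ?_, Cfsg.Agent.Blocks.Basic.charDegree_of_eq h1⟩ hd
  obtain ⟨q, hq⟩ := hr g
  show (χ g).im = 0
  rw [hq]
  exact Complex.ratCast_im q

/-- `kill_common` data. -/
theorem KD.common {p : ℕ} {S : Type*} [Group S] {a b : ℕ} (r : ℕ) (ha : B0D p S a) (hb : B0D p S b) (h1 : 1 < a)
    (h2 : 1 < b) (hr : r.Prime) (hrp : r ≠ p) (ra : r ∣ a) (rb : r ∣ b) (h3 : a ≠ b) (h4 : a ≠ 2 * b) (h5 : b ≠ 2 * a) :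
    KD p S := Or.inl ⟨a, b, r, ha, hb, h1, h2, hr, hrp, ra, rb, h3, h4, h5⟩

/-- `kill_zero` data. -/
theorem KD.zero {p : ℕ} {S : Type*} [Group S] {a : ℕ} (r : ℕ) (ha : B0D p S a) (h1 : 1 < a)
    (hr : r.Prime) (hrp : r ≠ p) (hr2 : r ≠ 2) (hd : r ^ (Nat.card S).factorization r ∣ a) (u : S)
    (hu : p * r ∣ orderOf u) : KD p S := Or.inr ⟨a, r, ha, h1, hr, hrp, hr2, hd, u, hu⟩

/-- `p = 2`: two real odd degrees. -/
theorem KD.real {S : Type*} [Group S] [Finite S] {a b : ℕ} (r : ℕ) (ha : RC S a) (hb : RC S b) (oa : Odd a) (ob : Odd b)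
    (h1 : 1 < a) (h2 : 1 < b) (hr : r.Prime) (hrp : r ≠ 2) (ra : r ∣ a) (rb : r ∣ b) (h3 : a ≠ b) : KD 2 S := by
  refine KD.common r (B0D.of_real ha oa) (B0D.of_real hb ob) h1 h2 hr hrp ra rb h3 ?_ ?_
  · rintro rfl
    exact (Nat.not_odd_iff_even.2 (even_two_mul b)) oa
  · rintro rfl
    exact (Nat.not_odd_iff_even.2 (even_two_mul a)) ob

/-- An element of order `2 r` from the centralizer of an involution. -/
theorem exists_order {G : Type*} [Group G] [Finite G] {t : G} (ht : orderOf t = 2) {r : ℕ} (hr : r.Prime) (hr2 : r ≠ 2)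
    (hd : r ∣ Nat.card (Subgroup.centralizer ({t} : Set G))) : ∃ u : G, 2 * r ∣ orderOf u := by
  have : Fact r.Prime := ⟨hr⟩
  obtain ⟨⟨y, hy⟩, hy2⟩ := exists_prime_orderOf_dvd_card' r hd
  rw [Subgroup.orderOf_mk] at hy2
  have hc : Commute t y := (Subgroup.mem_centralizer_singleton_iff.1 hy).symm
  have hcop : (orderOf t).Coprime (orderOf y) := by
    rw [ht, hy2]
    exact (Nat.coprime_primes Nat.prime_two hr).2 (Ne.symm hr2)
  refine ⟨t * y, ?_⟩
  rw [hc.orderOf_mul_eq_mul_orderOf_of_coprime hcop, ht, hy2]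

/-- `p = 2`: a real odd degree of `r`-defect zero and an involution with `r ∣ |C(t)|`. -/
theorem KD.invol {S : Type*} [Group S] [Finite S] {a : ℕ} (r : ℕ) (ha : RC S a) (oa : Odd a) (h1 : 1 < a)
    (hr : r.Prime) (hr2 : r ≠ 2) (hd : r ^ (Nat.card S).factorization r ∣ a) {t : S} (ht : orderOf t = 2)
    (hc : r ∣ Nat.card (Subgroup.centralizer ({t} : Set S))) : KD 2 S := by
  obtain ⟨u, hu⟩ := exists_order ht hr hr2 hc
  exact KD.zero r (B0D.of_real ha oa) h1 hr hr2 hr2 hd u hu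

/-- The exponent of `r` in the order. -/
theorem factorization_card {S : Type*} [Group S] {n r k : ℕ} (hc : Nat.card S = n) (hr : r.Prime) (h0 : n ≠ 0)
    (h1 : r ^ k ∣ n) (h2 : ¬ r ^ (k + 1) ∣ n) : (Nat.card S).factorization r = k := by
  rw [hc]
  apply le_antisymm
  · by_contra hcon
    exact h2 ((hr.pow_dvd_iff_le_factorization h0).2 (by omega))
  · exact (hr.pow_dvd_iff_le_factorization h0).1 h1

/-- **Association schemes: all constituents are in the principal block.** -/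
theorem B0D.scheme {p : ℕ} {G : Type u} [Group G] [Finite G] {X : Type v} [MulAction G X] [Finite X] (x₀ : X)
    (htr : ∀ x : X, ∃ g : G, g • x₀ = x) {n : ℕ} {d : Fin (n + 1) → ℕ} (hd0 : d 0 = 1)
    (hd : ∀ i, ∃ χ : IrrCharacter G, (χ : G → ℂ) 1 = d i ∧ ∃ c' : G → ℂ, IsCharacter G c' ∧
      (fun g : G => (Nat.card (MulAction.fixedBy X g) : ℂ)) = (χ : G → ℂ) + c')
    (hinj : Function.Injective d) (hs : ∑ i, d i = Nat.card X) {e : ℕ} (he : p ^ e ∣ ∑ i, d i)
    (hT : ∀ T : Finset (Fin (n + 1)), 0 ∈ T → (∑ i ∈ T, d i) % p ^ e = 0 → T = Finset.univ) (i : Fin (n + 1)) :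
    B0D p G (d i) := by
  obtain ⟨χ, h1, h2, -⟩ := all_degrees x₀ htr hd0 hd hinj hs he hT i
  exact ⟨χ, h1, h2⟩

end Cfsg.Agent.H619.BD
end

-- part: H728/DL/Rank
section
/-!
# Constituents of rank 3 permutation characters in the principal block, known eigenvalues (S4932, helper728)

* `Pair G X f g` : the permutation character on `X` is `1 + χ₁ + χ₂`, `χ₁, χ₂` real of degrees `f ≠ g`;
* `pair_exact` : from `R3` and the two eigenvalues; `pair_of` : from a class of 3-transpositions;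
* `Pair.b0d` : both constituents are in the principal `p`-block, `Pair.rc` : they are real.
-/

set_option autoImplicit false

open Cfsg

namespace Cfsg.Agent.H728.DL

open Cfsg.Agent.Characters Cfsg.Agent.Characters.Core Cfsg.Agent.Blocks Cfsg.Agent.Blocks.LocalRing
open Cfsg.Agent.H619.R4 Cfsg.Agent.H619.BD Cfsg.Agent.H690.Spor.RankThree
open scoped ComplexConjugate

universe u v

/-- the permutation character on `X` is `1 + χ₁ + χ₂`, `χ₁, χ₂` real of degrees `f`, `g` -/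
def Pair (G : Type u) [Group G] (X : Type v) [MulAction G X] (f g : ℕ) : Prop :=
  ∃ χ₁ χ₂ : IrrCharacter G, (χ₁ : G → ℂ) 1 = f ∧ (χ₂ : G → ℂ) 1 = g ∧
    (∀ x, conj ((χ₁ : G → ℂ) x) = (χ₁ : G → ℂ) x) ∧ (∀ x, conj ((χ₂ : G → ℂ) x) = (χ₂ : G → ℂ) x) ∧
    ∀ x : G, (Nat.card (MulAction.fixedBy X x) : ℂ) = 1 + (χ₁ : G → ℂ) x + (χ₂ : G → ℂ) x

variable {G : Type u} [Group G] {X : Type v} [MulAction G X]

theorem pair_exact [Finite G] {R : X → X → Prop} {k l : ℕ} (h : _root_.Cfsg.Agent.H690.Spor.RankThree.R3 G X R k l) {x₀ y₀ : X} (hxy : x₀ ≠ y₀)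
    (hR : ¬ R x₀ y₀) {b : ℕ} (hb : R3.com R x₀ y₀ = b) {r s : ℤ} (hrs : r ≠ s) (h2 : r * s = b - k)
    (h1 : (k : ℤ) * (r + s + b) = k * k - k - l * b) {f g : ℕ}
    (hf : (f : ℤ) * (r - s) = -(s * (k + l) + k)) (hg : (g : ℤ) * (r - s) = r * (k + l) + k) (hfg : f ≠ g) :
    Pair G X f g := by
  classical
  have hfX : Finite X := Nat.finite_of_card_ne_zero (by rw [h.cardn]; omega)
  have := Fintype.ofFinite X
  obtain ⟨χ₁, χ₂, f', g', e1, e2, e3, e4, hπ, -⟩ := Cfsg.Agent.H113.PSU.Rank3.frame_exact h hxy hR hb hrs h2 h1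
  have hd : r - s ≠ 0 := sub_ne_zero.2 hrs
  have ef : f' = f := by
    have := mul_right_cancel₀ hd (e3.trans hf.symm)
    exact_mod_cast this
  have eg : g' = g := by
    have := mul_right_cancel₀ hd (e4.trans hg.symm)
    exact_mod_cast this
  subst ef eg
  have hsum : ∀ x, conj ((χ₁ : G → ℂ) x + (χ₂ : G → ℂ) x) = (χ₁ : G → ℂ) x + (χ₂ : G → ℂ) x := by
    intro x
    have h1 : (χ₁ : G → ℂ) x + (χ₂ : G → ℂ) x = (Nat.card (MulAction.fixedBy X x) : ℂ) - 1 := by
      rw [hπ x]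
      ring
    rw [h1, map_sub, map_one, Complex.conj_natCast]
  have hne1 : (χ₁ : G → ℂ) 1 ≠ (χ₂ : G → ℂ) 1 := by
    rw [e1, e2]
    exact_mod_cast hfg
  exact ⟨χ₁, χ₂, e1, e2, real_of_sum hne1 hsum,
    real_of_sum hne1.symm (fun x => by rw [add_comm]; exact hsum x), hπ⟩

theorem Pair.rc {f g : ℕ} (h : Pair G X f g) : RC G f ∧ RC G g := by
  obtain ⟨χ₁, χ₂, e1, e2, r1, r2, -⟩ := h
  exact ⟨⟨χ₁, fun x => Complex.conj_eq_iff_im.1 (r1 x), Blocks.Basic.charDegree_of_eq e1⟩,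
    ⟨χ₂, fun x => Complex.conj_eq_iff_im.1 (r2 x), Blocks.Basic.charDegree_of_eq e2⟩⟩

/-- **Both constituents are in the principal block.** -/
theorem Pair.b0d [Finite G] [Finite X] {a b : ℕ} (h : Pair G X a b) (x₀ : X) (htr : ∀ x : X, ∃ g : G, g • x₀ = x)
    {p e : ℕ} (he : p ^ e ∣ 1 + a + b) (h1 : 1 % p ^ e ≠ 0) (h2 : (1 + a) % p ^ e ≠ 0) (h3 : (1 + b) % p ^ e ≠ 0) :
    B0D p G a ∧ B0D p G b := by
  classical
  obtain ⟨χ₁, χ₂, e1, e2, r1, r2, hπ⟩ := h
  let χ : Fin 3 → IrrCharacter G := ![⟨fun _ => 1, isIrr_one⟩, χ₁, χ₂]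
  let dg : Fin 3 → ℕ := ![1, a, b]
  have key : ∀ M : Ideal AlgInt, IsPModular p M → ∀ i, χ i ∈ principalBlock M G := fun M hM =>
    all_mem_principal (e := e) hM x₀ htr χ rfl (fun g => by
      rw [hπ g, Fin.sum_univ_three]
      rfl) (d := dg) (fun i => by
        fin_cases i
        · simp [χ, dg]
        · exact e1
        · exact e2) (by
        rw [Fin.sum_univ_three]
        exact he) (by
        intro T h0 hT
        have h4 : ∑ i ∈ T, dg i = 1 + (if (1 : Fin 3) ∈ T then a else 0) + if (2 : Fin 3) ∈ T then b else 0 := by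
          have h5 : ∑ i ∈ T, dg i = ∑ i : Fin 3, if i ∈ T then dg i else 0 := by
            rw [Finset.sum_ite_mem, Finset.univ_inter]
          rw [h5, Fin.sum_univ_three, if_pos h0]
          rfl
        rw [h4] at hT
        by_cases h5 : (1 : Fin 3) ∈ T <;> by_cases h6 : (2 : Fin 3) ∈ T
        · rw [Finset.eq_univ_iff_forall]
          intro i
          fin_cases i
          · exact h0
          · exact h5
          · exact h6
        · rw [if_pos h5, if_neg h6, add_zero] at hT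
          exact absurd hT h2
        · rw [if_neg h5, if_pos h6, add_zero] at hT
          exact absurd hT h3
        · rw [if_neg h5, if_neg h6] at hT
          exact absurd hT h1)
  exact ⟨⟨χ₁, fun M hM => key M hM 1, Blocks.Basic.charDegree_of_eq e1⟩,
    ⟨χ₂, fun M hM => key M hM 2, Blocks.Basic.charDegree_of_eq e2⟩⟩

open Cfsg.Agent.Fischer.Abstract Cfsg.Agent.LThreeM.SrgFix Cfsg.Agent.H187.FiTwoZ

/-- the rank 3 action on a class of 3-transpositions, for a subgroup with the same orbits on pairs -/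
theorem pair_of [Finite G] (R : Rank3 G X) (N : Subgroup G) (hN : Same N X) {k l m : ℕ}
    (hk : (nb R R.x0).ncard = k) (hm : (cn R R.x0 R.b).ncard = m)
    (hn : Nat.card X = 1 + k + l) (hk0 : 0 < k) (hl0 : 0 < l) {r s : ℤ} (hrs : r ≠ s) (h2 : r * s = m - k)
    (h1 : (k : ℤ) * (r + s + m) = k * k - k - l * m) {f g : ℕ}
    (hf : (f : ℤ) * (r - s) = -(s * (k + l) + k)) (hg : (g : ℤ) * (r - s) = r * (k + l) + k) (hfg : f ≠ g) :
    Pair N X f g := by
  have hb : R3.com (Adj R) R.x0 R.b = m := by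
    rw [← hm]
    refine Nat.card_congr (Equiv.subtypeEquivRight fun z => ?_)
    exact ⟨fun h => ⟨h.1, adj_symm R h.2⟩, fun h => ⟨h.1, adj_symm R h.2⟩⟩
  exact pair_exact (r3 R N hN hk hn hk0 hl0) R.b_ne_x0.symm (fun h => R.not_com_x0_b h.2) hb hrs h2 h1 hf hg hfg

/-- the subgroup `N` is transitive -/
theorem trans_of (R : Rank3 G X) (N : Subgroup G) (hN : Same N X) (x : X) : ∃ g : N, g • R.x0 = x := by
  obtain ⟨g, hg⟩ := R.trans x
  obtain ⟨h, hh, h1, -⟩ := hN g R.x0 R.x0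
  exact ⟨⟨h, hh⟩, by rw [Subgroup.mk_smul, h1, hg]⟩

end Cfsg.Agent.H728.DL
end
end

-- part: H619/BD/TameSpor_mg
section
set_option linter.all false
open scoped Cfsg.Agent.FastGrp

-- part: H51/BD/OddRow
section
/-!
# `Tame` for `He`, `Ru`, `ON`, `Ly`, `HN`, `Th` (S4932, helper51)

* `tame_of_table` : the row at an odd prime from the order, the Schur multiplier and `#Out S ∣ 2`;
* `tame_he`, `tame_on`, `tame_ly` : all primes;
* `tame_ru`, `tame_hn`, `tame_th` : all odd primes.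
-/

set_option autoImplicit false

namespace Cfsg.Agent.H51.BD

open Cfsg Cfsg.Agent.H589.BD Cfsg.Agent.H585.BD

universe u v

theorem card_out_congr {G : Type u} {H : Type v} [Group G] [Group H] (e : G ≃* H) :
    Nat.card (Out G) = Nat.card (Out H) := by
  refine Nat.card_congr (QuotientGroup.congr (Inn G) (Inn H) (MulAut.congr e) ?_).toEquiv
  ext a
  constructor
  · rintro ⟨_, ⟨g, rfl⟩, rfl⟩
    refine ⟨e g, ?_⟩
    apply MulEquiv.ext
    intro y
    change e g * y * (e g)⁻¹ = e (g * e.symm y * g⁻¹)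
    rw [map_mul, map_mul, map_inv, e.apply_symm_apply]
  · rintro ⟨h, rfl⟩
    refine ⟨MulAut.conj (e.symm h), ⟨_, rfl⟩, ?_⟩
    apply MulEquiv.ext
    intro y
    change e (e.symm h * e.symm y * (e.symm h)⁻¹) = h * y * h⁻¹
    rw [map_mul, map_mul, map_inv, e.apply_symm_apply, e.apply_symm_apply]

/-- The 12-th powers of the odd primes dividing a number below `47 ^ 12`. -/
def noTwelve (N : ℕ) : Bool :=
  N != 0 && decide (N < 47 ^ 12) && [3, 5, 7, 11, 13, 17, 19, 23, 29, 31, 37, 41, 43].all fun p => N % p ^ 12 != 0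

theorem noTwelve_spec {N : ℕ} (h : noTwelve N = true) {p : ℕ} (hp : p.Prime) (h2 : p ≠ 2) : ¬ p ^ 12 ∣ N := by
  rintro hd
  simp only [noTwelve, Bool.and_eq_true, bne_iff_ne, ne_eq, decide_eq_true_eq, List.all_eq_true] at h
  obtain ⟨⟨h0, h1⟩, h3⟩ := h
  have h4 : p ^ 12 ≤ N := Nat.le_of_dvd (Nat.pos_of_ne_zero h0) hd
  have h5 : p < 47 := lt_of_pow_lt_pow_left₀ 12 (by norm_num) (h4.trans_lt h1)
  have h6 : p ∈ [3, 5, 7, 11, 13, 17, 19, 23, 29, 31, 37, 41, 43] := by
    interval_cases p <;> first | exact absurd rfl h2 | decide | (exfalso; revert hp; norm_num)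
  exact h3 p h6 (Nat.mod_eq_zero_of_dvd hd)

/-- The row at an odd prime. -/
theorem tame_of_table {S : Type u} [Group S] (hZ : Subgroup.center S = ⊥) {T : Type v} [Group T] (e : S ≃* T) {c n : ℕ} (hc : Nat.card T = c)
    (hn : n ≠ 0) (hm : HasCyclicSchurMultiplier T n) (ho : Nat.card (Out T) ∣ 2) (hN : noTwelve (c * n) = true)
    {p : ℕ} (hp : p.Prime) (h2 : p ≠ 2) : Tame p S := by
  have : Fact p.Prime := ⟨hp⟩
  have : Finite T := Nat.finite_of_card_ne_zero (by
    rintro h0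
    rw [← hc, h0, zero_mul] at hN
    exact absurd hN (by decide))
  have : Finite S := Finite.of_equiv T e.symm.toEquiv
  refine tame_of_cyclic hZ hn (H487.HasSchurMultiplier.congr_left hm e.symm) ?_ ?_
  · rw [Nat.card_congr e.toEquiv, hc]
    exact noTwelve_spec hN hp h2
  · intro h
    rw [card_out_congr e] at h
    exact h2 ((Nat.prime_dvd_prime_iff_eq hp Nat.prime_two).1 (h.trans ho))

variable {S : Type u} [Group S] [IsSimpleGroup S] (hna : ¬ IsMulCommutative S)

include hna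

theorem tame_he (h : Spor.IsoHe S) {p : ℕ} (hp : p.Prime) : Tame p S := by
  obtain ⟨e⟩ := h
  have hc : Nat.card Spor.He = 4030387200 := NotCT.Orders.he ⟨MulEquiv.refl _⟩
  have ho : Nat.card (Out Spor.He) = 2 := S2075.result
  by_cases h2 : p = 2
  · subst h2
    have : Fact (Nat.Prime 2) := ⟨hp⟩
    have hS : Nat.card S = 4030387200 := by rw [Nat.card_congr e.toEquiv, hc]
    have hO : Nat.card (Out S) = 2 := by rw [card_out_congr e, ho]
    have : Finite S := Nat.finite_of_card_ne_zero (by rw [hS]; norm_num)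
    have : Finite (Out S) := Nat.finite_of_card_ne_zero (by rw [hO]; norm_num)
    refine tame_over_card (center_simple hna) (noCover_of_cyclic (H487.HasSchurMultiplier.congr_left S2049.result e.symm) (by norm_num))
      (outAb_of_card (by rw [hO]; norm_num)) ?_
    rw [hS, hO]
    norm_num
  · exact tame_of_table (center_simple hna) e hc one_ne_zero S2049.result (by rw [ho]) (by decide +kernel) hp h2

theorem tame_on (h : Spor.IsoON S) {p : ℕ} (hp : p.Prime) : Tame p S := by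
  obtain ⟨e⟩ := h
  have hc : Nat.card Spor.ON = 460815505920 := NotCT.Orders.on ⟨MulEquiv.refl _⟩
  have ho : Nat.card (Out Spor.ON) = 2 := S2078.result
  by_cases h2 : p = 2
  · subst h2
    have : Fact (Nat.Prime 2) := ⟨hp⟩
    have hS : Nat.card S = 460815505920 := by rw [Nat.card_congr e.toEquiv, hc]
    have hO : Nat.card (Out S) = 2 := by rw [card_out_congr e, ho]
    have : Finite S := Nat.finite_of_card_ne_zero (by rw [hS]; norm_num)
    have : Finite (Out S) := Nat.finite_of_card_ne_zero (by rw [hO]; norm_num)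
    refine tame_over_card (center_simple hna) (noCover_of_cyclic (H487.HasSchurMultiplier.congr_left S2052.result e.symm) (by norm_num))
      (outAb_of_card (by rw [hO]; norm_num)) ?_
    rw [hS, hO]
    norm_num
  · exact tame_of_table (center_simple hna) e hc (by norm_num) S2052.result (by rw [ho]) (by decide +kernel) hp h2

theorem tame_ly (h : Spor.IsoLy S) {p : ℕ} (hp : p.Prime) : Tame p S := by
  obtain ⟨e⟩ := h
  have hc : Nat.card Spor.Ly = 51765179004000000 := NotCT.Orders.ly ⟨MulEquiv.refl _⟩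
  have ho : Nat.card (Out Spor.Ly) = 1 := S2076.result
  by_cases h2 : p = 2
  · subst h2
    have : Fact (Nat.Prime 2) := ⟨hp⟩
    have hS : Nat.card S = 51765179004000000 := by rw [Nat.card_congr e.toEquiv, hc]
    refine tame_of_cyclic (center_simple hna) one_ne_zero (H487.HasSchurMultiplier.congr_left S2050.result e.symm) ?_ ?_
    · rw [hS]; norm_num
    · unfold OutPrime
      rw [card_out_congr e, ho]
      norm_num
  · exact tame_of_table (center_simple hna) e hc one_ne_zero S2050.result (by rw [ho]; norm_num) (by decide +kernel) hp h2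

theorem tame_ru (h : Spor.IsoRu S) {p : ℕ} (hp : p.Prime) (h2 : p ≠ 2) : Tame p S := by
  obtain ⟨e⟩ := h
  exact tame_of_table (center_simple hna) e (NotCT.Orders.ru ⟨MulEquiv.refl _⟩) (by norm_num) S2051.result (by rw [S2077.result]; norm_num)
    (by decide +kernel) hp h2

theorem tame_hn (h : Spor.IsoHN S) {p : ℕ} (hp : p.Prime) (h2 : p ≠ 2) : Tame p S := by
  obtain ⟨e⟩ := h
  exact tame_of_table (center_simple hna) e (NotCT.Orders.hn ⟨MulEquiv.refl _⟩) one_ne_zero S2056.result (by rw [S2082.result])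
    (by decide +kernel) hp h2

theorem tame_th (h : Spor.IsoTh S) {p : ℕ} (hp : p.Prime) (h2 : p ≠ 2) : Tame p S := by
  obtain ⟨e⟩ := h
  exact tame_of_table (center_simple hna) e (NotCT.Orders.th ⟨MulEquiv.refl _⟩) one_ne_zero S2057.result (by rw [S2083.result]; norm_num)
    (by decide +kernel) hp h2

end Cfsg.Agent.H51.BD
end

-- part: H619/BD/TameSpor
section
/-!
# `Tame` for the sporadic groups (S4932, helper619)

* `M11`, `M23`, `M24`, `J1`, `Co3` : all primes;
* `M12`, `M22`, `J2`, `J3`, `J4`, `HS`, `McL`, `Suz`, `Co1`, `Co2`, `Fi22` : odd primes;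
* `Fi23`, `Fi24'`, `B`, `M` : primes `≥ 5`.
-/

set_option autoImplicit false

namespace Cfsg.Agent.H619.BD

open Cfsg Cfsg.Agent.H589.BD Cfsg.Agent.H585.BD Cfsg.Agent.H51.BD

universe u v

/-- All primes. -/
theorem tame_all {S : Type u} [Group S] (hZ : Subgroup.center S = ⊥) {T : Type v} [Group T] (e : S ≃* T) {c n : ℕ}
    (hc : Nat.card T = c) (hn : n ≠ 0) (hm : HasCyclicSchurMultiplier T n) (ho : Nat.card (Out T) = 1)
    (hN : noTwelve (c * n) = true) (h2 : ¬ 2 ^ 12 ∣ c * n) {p : ℕ} (hp : p.Prime) : Tame p S := by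
  rcases eq_or_ne p 2 with rfl | hp2
  · have : Fact (Nat.Prime 2) := ⟨hp⟩
    have : Finite T := Nat.finite_of_card_ne_zero (by
      rintro h0
      rw [← hc, h0, zero_mul] at hN
      exact absurd hN (by decide))
    have : Finite S := Finite.of_equiv T e.symm.toEquiv
    refine tame_of_cyclic hZ hn (H487.HasSchurMultiplier.congr_left hm e.symm) ?_ ?_
    · rw [Nat.card_congr e.toEquiv, hc]
      exact h2
    · unfold OutPrime
      rw [card_out_congr e, ho]
      norm_num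
  · exact tame_of_table hZ e hc hn hm (by rw [ho]; norm_num) hN hp hp2

/-- The primes `≥ 5`. -/
theorem tame_five {S : Type u} [Group S] (hZ : Subgroup.center S = ⊥) {T : Type v} [Group T] [Finite T] (e : S ≃* T)
    {n : ℕ} (hn : n ≠ 0) (hm : HasCyclicSchurMultiplier T n) (ho : Nat.card (Out T) ∣ 2) {p : ℕ} (hp : p.Prime)
    (h5 : 5 ≤ p) (hN : ¬ p ^ 12 ∣ Nat.card T * n) : Tame p S := by
  have : Fact p.Prime := ⟨hp⟩
  have : Finite S := Finite.of_equiv T e.symm.toEquiv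
  refine tame_of_cyclic hZ hn (H487.HasSchurMultiplier.congr_left hm e.symm) ?_ ?_
  · rw [Nat.card_congr e.toEquiv]
    exact hN
  · intro h
    rw [card_out_congr e] at h
    have := (Nat.prime_dvd_prime_iff_eq hp Nat.prime_two).1 (h.trans ho)
    omega

theorem no12_fi24 {p : ℕ} (hp : p.Prime) (h5 : 5 ≤ p) : ¬ p ^ 12 ∣ 1255205709190661721292800 * 3 := by
  intro h
  have h2 : p ^ 12 ≤ 1255205709190661721292800 * 3 := Nat.le_of_dvd (by norm_num) h
  have h3 : p < 113 := by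
    by_contra hcon
    have h4 : 113 ^ 12 ≤ p ^ 12 := Nat.pow_le_pow_left (by omega) 12
    have h5 := h4.trans h2
    norm_num at h5
  clear h2
  interval_cases p <;> first | (revert h; decide +kernel) | (exfalso; revert hp; norm_num)

variable {S : Type u} [Group S] [IsSimpleGroup S] (hna : ¬ IsMulCommutative S)

include hna

theorem tame_m11 (h : Spor.IsoM11 S) {p : ℕ} (hp : p.Prime) : Tame p S := by
  obtain ⟨e⟩ := h
  exact tame_all (center_simple hna) e (NotCT.Orders.m11 ⟨MulEquiv.refl _⟩) one_ne_zero S2034.result S2060.result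
    (by decide +kernel) (by norm_num) hp

theorem tame_m23 (h : Spor.IsoM23 S) {p : ℕ} (hp : p.Prime) : Tame p S := by
  obtain ⟨e⟩ := h
  exact tame_all (center_simple hna) e (NotCT.Orders.m23 ⟨MulEquiv.refl _⟩) one_ne_zero S2037.result S2063.result
    (by decide +kernel) (by norm_num) hp

theorem tame_m24 (h : Spor.IsoM24 S) {p : ℕ} (hp : p.Prime) : Tame p S := by
  obtain ⟨e⟩ := h
  exact tame_all (center_simple hna) e (NotCT.Orders.m24 ⟨MulEquiv.refl _⟩) one_ne_zero S2038.result S2064.result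
    (by decide +kernel) (by norm_num) hp

theorem tame_j1 (h : Spor.IsoJ1 S) {p : ℕ} (hp : p.Prime) : Tame p S := by
  obtain ⟨e⟩ := h
  exact tame_all (center_simple hna) e (NotCT.Orders.j1 ⟨MulEquiv.refl _⟩) one_ne_zero S2039.result S2065.result
    (by decide +kernel) (by norm_num) hp

theorem tame_co3 (h : Spor.IsoCo3 S) {p : ℕ} (hp : p.Prime) : Tame p S := by
  obtain ⟨e⟩ := h
  exact tame_all (center_simple hna) e (NotCT.Orders.co3 ⟨MulEquiv.refl _⟩) one_ne_zero S2045.result S2071.result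
    (by decide +kernel) (by norm_num) hp

section odd

variable {p : ℕ} (hp : p.Prime) (h2 : p ≠ 2)

include hp h2

theorem tame_m12 (h : Spor.IsoM12 S) : Tame p S := by
  obtain ⟨e⟩ := h
  exact tame_of_table (center_simple hna) e (NotCT.Orders.m12 ⟨MulEquiv.refl _⟩) (by norm_num) S2035.result
    (by rw [S2061.result]) (by decide +kernel) hp h2

theorem tame_m22 (h : Spor.IsoM22 S) : Tame p S := by
  obtain ⟨e⟩ := h
  exact tame_of_table (center_simple hna) e (NotCT.Orders.m22 ⟨MulEquiv.refl _⟩) (by norm_num) S2036.result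
    (by rw [S2062.result]) (by decide +kernel) hp h2

theorem tame_j2 (h : Spor.IsoJ2 S) : Tame p S := by
  obtain ⟨e⟩ := h
  exact tame_of_table (center_simple hna) e (NotCT.Orders.j2 ⟨MulEquiv.refl _⟩) (by norm_num) S2040.result
    (by rw [S2066.result]) (by decide +kernel) hp h2

theorem tame_j3 (h : Spor.IsoJ3 S) : Tame p S := by
  obtain ⟨F, _, _, ω, hF, hω, ⟨e⟩⟩ := h
  exact tame_of_table (center_simple hna) e (NotCT.Orders.j3 ⟨F, _, _, ω, hF, hω, ⟨MulEquiv.refl _⟩⟩) (by norm_num)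
    (S2041.result hF ω hω) (by rw [S2067.result hF ω hω]) (by decide +kernel) hp h2

theorem tame_j4 (h : Spor.IsoJ4 S) : Tame p S := by
  obtain ⟨e⟩ := h
  exact tame_of_table (center_simple hna) e (NotCT.Orders.j4 ⟨MulEquiv.refl _⟩) one_ne_zero S2042.result
    (by rw [S2068.result]; norm_num) (by decide +kernel) hp h2

theorem tame_co1 (h : Spor.IsoCo1 S) : Tame p S := by
  obtain ⟨e⟩ := h
  exact tame_of_table (center_simple hna) e (NotCT.Orders.co1 ⟨MulEquiv.refl _⟩) (by norm_num) S2043.result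
    (by rw [S2069.result]; norm_num) (by decide +kernel) hp h2

theorem tame_co2 (h : Spor.IsoCo2 S) : Tame p S := by
  obtain ⟨e⟩ := h
  exact tame_of_table (center_simple hna) e (NotCT.Orders.co2 ⟨MulEquiv.refl _⟩) one_ne_zero S2044.result
    (by rw [S2070.result]; norm_num) (by decide +kernel) hp h2

theorem tame_hs (h : Spor.IsoHS S) : Tame p S := by
  obtain ⟨e⟩ := h
  exact tame_of_table (center_simple hna) e (NotCT.Orders.hs ⟨MulEquiv.refl _⟩) (by norm_num) S2046.result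
    (by rw [S2072.result]) (by decide +kernel) hp h2

theorem tame_mcl (h : Spor.IsoMcL S) : Tame p S := by
  obtain ⟨e⟩ := h
  exact tame_of_table (center_simple hna) e (NotCT.Orders.mcl ⟨MulEquiv.refl _⟩) (by norm_num) S2047.result
    (by rw [S2073.result]) (by decide +kernel) hp h2

theorem tame_suz (h : Spor.IsoSuz S) : Tame p S := by
  obtain ⟨e⟩ := h
  exact tame_of_table (center_simple hna) e (NotCT.Orders.suz ⟨MulEquiv.refl _⟩) (by norm_num) S2048.result
    (by rw [S2074.result]) (by decide +kernel) hp h2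

theorem tame_fi22 (h : Spor.IsoFi22 S) : Tame p S := by
  obtain ⟨e⟩ := h
  exact tame_of_table (center_simple hna) e (NotCT.Orders.fi22 ⟨MulEquiv.refl _⟩) (by norm_num) S2053.result
    (by rw [S2079.result]) (by decide +kernel) hp h2

end odd

section five

variable {p : ℕ} (hp : p.Prime) (h5 : 5 ≤ p)

include hp h5

theorem tame_fi23 (h : Spor.IsoFi23 S) : Tame p S := by
  obtain ⟨e⟩ := h
  have hc : Nat.card Spor.Fi23 = 4089470473293004800 := NotCT.Orders.fi23 ⟨MulEquiv.refl _⟩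
  have : Finite Spor.Fi23 := Nat.finite_of_card_ne_zero (by rw [hc]; norm_num)
  refine tame_five (center_simple hna) e one_ne_zero S2054.result (by rw [S2080.result]; norm_num) hp h5 ?_
  rw [hc]
  intro h
  have h2 : p ^ 12 ≤ 4089470473293004800 * 1 := Nat.le_of_dvd (by norm_num) h
  have h3 : p < 37 := by
    by_contra hcon
    have h4 : 37 ^ 12 ≤ p ^ 12 := Nat.pow_le_pow_left (by omega) 12
    have h6 := h4.trans h2
    norm_num at h6
  clear h2
  interval_cases p <;> first | (revert h; decide +kernel) | (exfalso; revert hp; norm_num)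

theorem tame_fi24 (h : Spor.IsoFi24' S) : Tame p S := by
  obtain ⟨e⟩ := h
  have hc : Nat.card Spor.Fi24' = 1255205709190661721292800 := NotCT.Orders.fi24 ⟨MulEquiv.refl _⟩
  have : Finite Spor.Fi24' := Nat.finite_of_card_ne_zero (by rw [hc]; norm_num)
  refine tame_five (center_simple hna) e (by norm_num) S2055.result (by rw [S2081.result]) hp h5 ?_
  rw [hc]
  exact no12_fi24 hp h5

theorem tame_b (h : Spor.IsoB S) : Tame p S := by
  have hcS := Cfsg.Agent.H995.IMB.card_of h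
  obtain ⟨e⟩ := h
  have hc : Nat.card Spor.BabyMonster = 4154781481226426191177580544000000 := by
    rw [← Nat.card_congr e.toEquiv, hcS]
  have : Finite Spor.BabyMonster := Nat.finite_of_card_ne_zero (by rw [hc]; norm_num)
  refine tame_five (center_simple hna) e (by norm_num) S2058.result (by rw [S2084.result]; norm_num) hp h5 ?_
  rw [hc]
  intro h
  have h1 : p ∣ 4154781481226426191177580544000000 := by
    have h2 : p ∣ 4154781481226426191177580544000000 * 2 := (dvd_pow_self p (by norm_num)).trans h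
    rcases hp.dvd_mul.1 h2 with h3 | h3
    · exact h3
    · have := Nat.le_of_dvd (by norm_num) h3
      omega
  have h2 := Cfsg.Agent.H995.IMB.mem_ps hp h1
  unfold Cfsg.Agent.H995.IMB.ps at h2
  simp only [List.mem_cons, List.not_mem_nil, or_false] at h2
  rcases h2 with rfl | rfl | rfl | rfl | rfl | rfl | rfl | rfl | rfl | rfl | rfl
  · omega
  · omega
  all_goals revert h; decide +kernel

theorem tame_m (h : Spor.IsoM S) : Tame p S := by
  have hcS := Cfsg.Agent.H816.IMM.card_eq h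
  obtain ⟨e⟩ := h
  have hc : Nat.card Spor.Monster = 808017424794512875886459904961710757005754368000000000 := by
    rw [← Nat.card_congr e.toEquiv, hcS]
  have : Finite Spor.Monster := Nat.finite_of_card_ne_zero (by rw [hc]; norm_num)
  refine tame_five (center_simple hna) e one_ne_zero S2059.result (by rw [S2085.result]; norm_num) hp h5 ?_
  rw [hc, mul_one]
  intro h
  have h2 := Cfsg.Agent.H816.IMM.prime_mem hp ((dvd_pow_self p (by norm_num)).trans h)
  simp only [List.mem_cons, List.not_mem_nil, or_false] at h2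
  rcases h2 with rfl | rfl | rfl | rfl | rfl | rfl | rfl | rfl | rfl | rfl | rfl | rfl | rfl | rfl | rfl
  · omega
  · omega
  all_goals revert h; decide +kernel

end five

end Cfsg.Agent.H619.BD
end

-- part: H680/BD/HS
section
/-!
# S4932, sporadic rows: `HS`, `p = 2` (helper680, task 5012)

Rational characters of degrees 77 and 175.
-/

set_option autoImplicit false

namespace Cfsg.Agent.H680.BD

open Cfsg Cfsg.Agent.H619.BD Cfsg.Agent.H619.R4

universe u

theorem kd_hs {S : Type u} [Group S] (h : Spor.IsoHS S) : KD 2 S := by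
  obtain ⟨e⟩ := h
  obtain ⟨⟨f⟩, -⟩ := Cfsg.Agent.HN.AutHS.nonempty_Q
  have hc : Nat.card Spor.HS = 44352000 := Cfsg.Agent.H665.SporCo.card_HS
  have : Finite Spor.HS := Nat.finite_of_card_ne_zero (by rw [hc]; norm_num)
  obtain ⟨χ, h1, h2, h3, -⟩ := Cfsg.Agent.H819.K4.HSCol.exists_175
  have b175 : B0D 2 Spor.HS 175 := (B0D.of_rat h1 h3 h2 (by decide)).congr f
  have b77 : B0D 2 Spor.HS 77 := B0D.of_real Cfsg.Agent.H90.R4.HS.rc77 (by decide)
  have k : KD 2 Spor.HS := KD.common 7 b77 b175 (by norm_num) (by norm_num) (by norm_num) (by norm_num) (by norm_num)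
    (by norm_num) (by norm_num) (by norm_num) (by norm_num)
  exact k.congr e.symm

end Cfsg.Agent.H680.BD
end

-- part: H728/DL/Rank2
section
/-!
# `Pair` from a rank 3 action with the divisor search of `H672.SporIM` (S4932, helper728)
-/

set_option autoImplicit false

open Cfsg

namespace Cfsg.Agent.H728.DL

open Cfsg.Agent.Characters Cfsg.Agent.Characters.Core Cfsg.Agent.Blocks
open Cfsg.Agent.H619.R4 Cfsg.Agent.H619.BD Cfsg.Agent.H690.Spor.RankThree Cfsg.Agent.H672.SporIM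
open scoped ComplexConjugate

universe u v

variable {G : Type u} [Group G] {X : Type v} [MulAction G X]

theorem Pair.symm {f g : ℕ} (h : Pair G X f g) : Pair G X g f := by
  obtain ⟨χ₁, χ₂, e1, e2, r1, r2, h⟩ := h
  exact ⟨χ₂, χ₁, e2, e1, r2, r1, fun x => by rw [h x]; ring⟩

theorem pair_of_R3 [Finite G] {R : X → X → Prop} {k l : ℕ}
    (h : R3 G X R k l) {n s P : ℕ} (hn : Nat.card G = n) (hs : k + l = s) (hP : (1 + k + l) * k * l = P)
    (L : List (ℕ × ℕ)) (Q : List ℕ) (hL : ∀ x ∈ L, x.1.Prime) (hQ : ∀ x ∈ Q, x.Prime) (hQn : Q.Nodup)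
    (hPM : P = (L.map fun x => x.1 ^ x.2).prod * (L.map fun x => x.1 ^ x.2).prod * Q.prod)
    (hodd : Odd s ∨ ¬ s / 2 ∣ n) (sols : List (ℕ × ℕ))
    (hchk : (divList L).all (chkD s P n sols) = true) :
    ∃ x ∈ sols, Pair G X x.1 x.2 := by
  classical
  have hq := squarefree_prod hQ hQn
  have hfX : Finite X := Nat.finite_of_card_ne_zero (by rw [h.cardn]; omega)
  have := Fintype.ofFinite X
  obtain ⟨χ₁, χ₂, f, g, D, h1, h2, hπ, h3, h4, h5⟩ := h.frame
  have hd1 : charDegree (χ₁ : G → ℂ) = f := Blocks.Basic.charDegree_of_eq h1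
  have hd2 : charDegree (χ₂ : G → ℂ) = g := Blocks.Basic.charDegree_of_eq h2
  have hf : f ∣ n := by rw [← hd1, ← hn]; exact Cfsg.Agent.Blocks.Knorr.charDegree_dvd χ₁.2
  have hg : g ∣ n := by rw [← hd2, ← hn]; exact Cfsg.Agent.Blocks.Knorr.charDegree_dvd χ₂.2
  have hne : f ≠ g := by
    rintro rfl
    rcases hodd with h6 | h6
    · rw [← hs, ← h3] at h6
      exact (Nat.not_even_iff_odd.2 h6) ⟨f, rfl⟩
    · apply h6
      rw [← hs, ← h3, show (f + f) / 2 = f by omega]
      exact hf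
  obtain ⟨d, rfl⟩ := h5 hne
  have hM : 0 < (L.map fun x => x.1 ^ x.2).prod := by
    apply Nat.pos_of_ne_zero
    intro h0
    rw [h0, zero_mul, zero_mul] at hPM
    rw [hPM] at hP
    have := Nat.mul_pos (Nat.mul_pos (show 0 < 1 + k + l by omega) h.k0) h.l0
    omega
  have hP0 : 0 < P := by
    rw [← hP]
    exact Nat.mul_pos (Nat.mul_pos (by omega) h.k0) h.l0
  have hd : 0 < d := by
    apply Nat.pos_of_ne_zero
    rintro rfl
    rw [mul_zero, mul_zero, hP] at h4
    omega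
  have h6 : f * g * (d * d) = P := by rw [h4, hP]
  have h7 : d ∣ (L.map fun x => x.1 ^ x.2).prod := by
    apply dvd_of_sq_dvd hq hM
    rw [← hPM, ← h6]
    exact Dvd.intro_left _ rfl
  have h8 := List.all_eq_true.1 hchk d (mem_divList hL h7)
  have hsum : ∀ x, conj ((χ₁ : G → ℂ) x + (χ₂ : G → ℂ) x) = (χ₁ : G → ℂ) x + (χ₂ : G → ℂ) x := by
    intro x
    have h1 : (χ₁ : G → ℂ) x + (χ₂ : G → ℂ) x = (Nat.card (MulAction.fixedBy X x) : ℂ) - 1 := by
      rw [hπ x]
      ring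
    rw [h1, map_sub, map_one, Complex.conj_natCast]
  have hne1 : (χ₁ : G → ℂ) 1 ≠ (χ₂ : G → ℂ) 1 := by
    rw [h1, h2]
    exact_mod_cast hne
  have hpair : Pair G X f g := ⟨χ₁, χ₂, h1, h2, real_of_sum hne1 hsum,
    real_of_sum hne1.symm (fun x => by rw [add_comm]; exact hsum x), hπ⟩
  rcases lt_or_gt_of_ne hne with hlt | hlt
  · exact ⟨(g, f), chkD_spec h8 hlt (by omega) (by rw [mul_comm g f]; exact h6) hd hg hf, hpair.symm⟩
  · exact ⟨(f, g), chkD_spec h8 hlt (by omega) h6 hd hf hg, hpair⟩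

end Cfsg.Agent.H728.DL
end

private theorem dce_f1b0fc604470 : _root_.True := by
  try have : _root_.True := by simp only [_root_.Cfsg.Agent.H51.BD.noTwelve.eq_1]
  exact _root_.True.intro
end

-- part: H674/BD/Rows
section
prune_inst 0x40000000000002000040000000000000000000000000000000000009000000000000000000000000000008100000200000000000000000000000000000000000000000000000000000000000000000000000000000000000000000000000000
set_option linter.all false
open scoped Cfsg.Agent.FastGrp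

-- part: H719/BD/Lin
section
/-!
# Small degrees in the principal block from a linear action (helper719, for S4932)

`G` a finite group acting faithfully on a finite vector space `V` over `K`, `p` a prime divisor of `|G|` with
`p ∤ |K|`, `k` the order of `|K|` modulo `p`: there is a subgroup `H` (the centralizer of an irreducible submodule of an
element of order `p`) of index divisible by `p` and at most `|V| ^ k`.
-/

set_option autoImplicit false

namespace Cfsg.Agent.H719.BD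

open Cfsg Polynomial

universe u v

section poly

variable {K : Type*} [Field K] {V : Type*} [AddCommGroup V] [Module K V]

/-- an irreducible factor with a nontrivial kernel -/
theorem exists_factor (A : Module.End K V) (g : K[X]) (hg : g ≠ 0) {w : V} (hw : w ≠ 0) (h : aeval A g w = 0) :
    ∃ f : K[X], Irreducible f ∧ f ∣ g ∧ ∃ v : V, v ≠ 0 ∧ aeval A f v = 0 := by
  induction g using WfDvdMonoid.induction_on_irreducible generalizing w with
  | zero => exact absurd rfl hg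
  | unit u hu =>
    exfalso
    obtain ⟨c, hc, rfl⟩ := Polynomial.isUnit_iff.1 hu
    rw [aeval_C, Module.algebraMap_end_apply] at h
    rcases smul_eq_zero.1 h with h | h
    · exact hc.ne_zero h
    · exact hw h
  | mul a i ha hi ih =>
    by_cases h1 : aeval A a w = 0
    · obtain ⟨f, h2, h3, h4⟩ := ih ha hw h1
      exact ⟨f, h2, h3.trans (dvd_mul_left _ _), h4⟩
    · refine ⟨i, hi, dvd_mul_right _ _, _, h1, ?_⟩
      rw [map_mul, Module.End.mul_apply] at h
      exact h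

/-- **A small invariant subspace.** -/
theorem exists_small_sub [Finite K] {p : ℕ} [hp : Fact p.Prime] (hpK : ¬ p ∣ Nat.card K) {k : ℕ}
    (hk : 0 < k) (hpk : p ∣ Nat.card K ^ k - 1)
    (A : Module.End K V) (hA : A ^ p = 1) (hA1 : A ≠ 1) :
    ∃ v : V, A v ≠ v ∧ ∀ g : K[X], aeval A g v ∈ Submodule.span K (Set.range fun i : Fin k => (A ^ (i : ℕ)) v) := by
  classical
  have : Fintype K := Fintype.ofFinite K
  obtain ⟨w, hw⟩ : ∃ w, A w ≠ w := by
    by_contra hcon
    push Not at hcon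
    exact hA1 (LinearMap.ext hcon)
  have hcyc : cyclotomic p K * (X - 1) = X ^ p - 1 := cyclotomic_prime_mul_X_sub_one K p
  have hw' : A w - w ≠ 0 := sub_ne_zero.2 hw
  have h0 : aeval A (cyclotomic p K) (A w - w) = 0 := by
    have h1 : aeval A (cyclotomic p K * (X - 1)) = 0 := by
      rw [hcyc]
      simp [hA]
    rw [map_mul] at h1
    have h2 := LinearMap.congr_fun h1 w
    rw [Module.End.mul_apply] at h2
    simpa only [_root_.map_sub, _root_.Polynomial.aeval_sub, _root_.Polynomial.aeval_X, _root_.map_one, _root_.LinearMap.sub_apply, _root_.Module.End.one_apply, _root_.LinearMap.zero_apply] using h2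
  obtain ⟨f, hf, hfd, v, hv, hfv⟩ := exists_factor A _ (cyclotomic_ne_zero p K) hw' h0
  -- the degree of `f`
  obtain ⟨r, e, hr, hcard⟩ : ∃ r e : ℕ, r.Prime ∧ Fintype.card K = r ^ e := by
    obtain ⟨r, hr⟩ := CharP.exists K
    obtain ⟨n, hrp, hn⟩ := FiniteField.card K r
    exact ⟨r, n, hrp, hn⟩
  have hrF : Fact r.Prime := ⟨hr⟩
  have hcop : r.Coprime p := by
    rw [Nat.coprime_primes hr hp.out]
    rintro rfl
    apply hpK
    rw [Nat.card_eq_fintype_card, hcard]
    refine dvd_pow_self r ?_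
    rintro rfl
    have h2 := Fintype.one_lt_card (α := K)
    rw [hcard, pow_zero] at h2
    exact absurd h2 (lt_irrefl _)
  have hdeg := natDegree_of_dvd_cyclotomic_of_irreducible hcard hcop hfd hf
  have hle : f.natDegree ≤ k := by
    rw [hdeg]
    refine orderOf_le_of_pow_eq_one hk ?_
    apply Units.ext
    rw [Units.val_pow_eq_pow_val, ZMod.coe_unitOfCoprime, Units.val_one]
    rw [Nat.card_eq_fintype_card, hcard] at hpk
    have h1 : (((r ^ e) ^ k - 1 : ℕ) : ZMod p) = 0 := (ZMod.natCast_eq_zero_iff _ _).2 hpk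
    rw [Nat.cast_sub (Nat.one_le_pow _ _ (pow_pos hr.pos _)), Nat.cast_one, sub_eq_zero] at h1
    rw [← Nat.cast_pow]
    exact h1
  refine ⟨v, ?_, ?_⟩
  · intro hAv
    -- `f (1) v = 0`
    have h1 : aeval A f v = f.eval 1 • v := by
      have := Module.End.aeval_apply_of_hasEigenvector (f := A) (p := f) (μ := 1) (x := v)
        ⟨by rw [Module.End.mem_eigenspace_iff, one_smul]; exact hAv, hv⟩
      exact this
    rw [h1] at hfv
    rcases smul_eq_zero.1 hfv with h2 | h2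
    · have h3 : eval 1 (cyclotomic p K) = 0 := by
        obtain ⟨g, hg⟩ := hfd
        rw [hg, eval_mul, h2, zero_mul]
      rw [eval_one_cyclotomic_prime] at h3
      apply hpK
      have h4 : (p : K) = 0 := h3
      have h5 : CharP K r := charP_of_card_eq_prime_pow hcard
      have h6 := (CharP.cast_eq_zero_iff K r p).1 h4
      have h7 := (Nat.prime_dvd_prime_iff_eq hr hp.out).1 h6
      rw [h7] at hcop
      exact absurd hcop (by rw [Nat.coprime_self]; exact hp.out.one_lt.ne')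
    · exact hv h2
  · intro g
    have hc : f.leadingCoeff ≠ 0 := leadingCoeff_ne_zero.2 hf.ne_zero
    set f₀ : K[X] := f * C f.leadingCoeff⁻¹ with hf₀
    have hmon : f₀.Monic := monic_mul_leadingCoeff_inv hf.ne_zero
    have hdeg₀ : f₀.natDegree = f.natDegree := by
      rw [hf₀, natDegree_mul_C (inv_ne_zero hc)]
    have h0v : aeval A f₀ v = 0 := by
      rw [hf₀, mul_comm, map_mul, Module.End.mul_apply, hfv, map_zero]
    have h1 : aeval A g v = aeval A (g %ₘ f₀) v := by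
      have h2 := modByMonic_add_div g f₀
      conv_lhs => rw [← h2]
      rw [map_add, LinearMap.add_apply, mul_comm, map_mul, Module.End.mul_apply, h0v, map_zero, add_zero]
    have hlt : (g %ₘ f₀).natDegree < k ∨ g %ₘ f₀ = 0 := by
      by_cases hz : g %ₘ f₀ = 0
      · exact Or.inr hz
      · left
        have h3 : (g %ₘ f₀).natDegree < f₀.natDegree :=
          natDegree_lt_natDegree hz (degree_modByMonic_lt g hmon)
        omega
    rcases hlt with hlt | hz
    · rw [h1, aeval_eq_sum_range' hlt, LinearMap.sum_apply]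
      refine Submodule.sum_mem _ fun i hi => ?_
      rw [LinearMap.smul_apply]
      exact Submodule.smul_mem _ _ (Submodule.subset_span ⟨⟨i, Finset.mem_range.1 hi⟩, rfl⟩)
    · rw [h1, hz, map_zero, LinearMap.zero_apply]
      exact Submodule.zero_mem _

end poly

section grp

variable {K : Type*} [Field K] {V : Type*} [AddCommGroup V] [Module K V]

/-- the pointwise stabiliser of a tuple of vectors -/
def fixT {G : Type*} [Group G] (ρ : G →* (V →ₗ[K] V)) {k : ℕ} (u : Fin k → V) : Subgroup G where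
  carrier := {g | ∀ i, ρ g (u i) = u i}
  one_mem' := fun i => by rw [MonoidHom.map_one, Module.End.one_apply]
  mul_mem' := fun {a b} ha hb i => by rw [MonoidHom.map_mul, Module.End.mul_apply, hb i, ha i]
  inv_mem' := fun {a} ha i => by
    conv_lhs => rw [← ha i]
    rw [← Module.End.mul_apply, ← MonoidHom.map_mul, inv_mul_cancel, MonoidHom.map_one, Module.End.one_apply]

theorem index_fixT_le {G : Type*} [Group G] [Finite V] (ρ : G →* (V →ₗ[K] V)) {k : ℕ} (u : Fin k → V) :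
    (fixT ρ u).index ≤ Nat.card V ^ k := by
  have h1 : Nat.card (Fin k → V) = Nat.card V ^ k := by
    rw [Nat.card_fun, Nat.card_eq_fintype_card (α := Fin k), Fintype.card_fin]
  rw [← h1, Subgroup.index]
  refine Nat.card_le_card_of_injective (fun x : G ⧸ fixT ρ u => Quotient.liftOn' x (fun g i => ρ g (u i)) ?_) ?_
  · intro a b hab
    rw [QuotientGroup.leftRel_apply] at hab
    funext i
    have h2 : ρ (a⁻¹ * b) (u i) = u i := hab i
    have h3 : ρ a (ρ (a⁻¹ * b) (u i)) = ρ b (u i) := by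
      rw [← Module.End.mul_apply, ← MonoidHom.map_mul, mul_inv_cancel_left]
    rw [h2] at h3
    exact h3
  · intro x y hxy
    obtain ⟨a, rfl⟩ := QuotientGroup.mk_surjective x
    obtain ⟨b, rfl⟩ := QuotientGroup.mk_surjective y
    rw [QuotientGroup.eq]
    intro i
    have h2 : ρ a (u i) = ρ b (u i) := congrFun hxy i
    rw [MonoidHom.map_mul, Module.End.mul_apply, ← h2, ← Module.End.mul_apply, ← MonoidHom.map_mul, inv_mul_cancel, MonoidHom.map_one,
      Module.End.one_apply]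

theorem card_mul_relIndex {G : Type*} [Group G] {H L : Subgroup G} (h : H ≤ L) :
    Nat.card H * H.relIndex L = Nat.card L := by
  have := Subgroup.relIndex_mul_relIndex ⊥ H L bot_le h
  rwa [Subgroup.relIndex_bot_left, Subgroup.relIndex_bot_left] at this

/-- **A subgroup of index divisible by `p` and at most `|V| ^ k`.** -/
theorem exists_index_lin {G S : Type*} [Group G] [Group S] [Finite G] [Finite V] {p : ℕ} [hp : Fact p.Prime]
    (hpG : p ∣ Nat.card G) (ρ : G →* (V →ₗ[K] V)) (hρ : Function.Injective ρ) (hpK : ¬ p ∣ Nat.card K) [Finite K]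
    {k : ℕ} (hk : 0 < k) (hpk : p ∣ Nat.card K ^ k - 1) (π : G →* S) (hπ : Function.Surjective π)
    (hker : ¬ p ∣ Nat.card π.ker) :
    ∃ H : Subgroup S, p ∣ H.index ∧ H.index ≤ Nat.card V ^ k := by
  classical
  obtain ⟨x, hx⟩ := exists_prime_orderOf_dvd_card' p hpG
  have hx1 : x ≠ 1 := by
    rintro rfl
    rw [orderOf_one] at hx
    exact hp.out.one_lt.ne hx
  have hxp : x ^ p = 1 := by rw [← hx]; exact pow_orderOf_eq_one x
  obtain ⟨v, hv, hspan⟩ := exists_small_sub hpK hk hpk (ρ x) (by rw [← MonoidHom.map_pow, hxp, MonoidHom.map_one])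
    (fun h => hx1 (hρ (by rw [h, MonoidHom.map_one])))
  set u : Fin k → V := fun i => ((ρ x) ^ (i : ℕ)) v with hu
  set H₀ := fixT ρ u with hH₀
  -- elements of `H₀` fix all vectors `aeval (ρ x) g v`
  have hfix : ∀ h ∈ H₀, ∀ w ∈ Submodule.span K (Set.range u), ρ h w = w := by
    intro h hh w hw
    induction hw using Submodule.span_induction with
    | mem w hw =>
      obtain ⟨i, rfl⟩ := hw
      exact hh i
    | zero => exact map_zero _
    | add a b _ _ ha hb => rw [map_add, ha, hb]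
    | smul c a _ ha => rw [map_smul, ha]
  have hpow : ∀ j : ℕ, ((ρ x) ^ j) v ∈ Submodule.span K (Set.range u) := by
    intro j
    have := hspan (X ^ j)
    rwa [map_pow, aeval_X] at this
  -- `x` normalizes `H₀`
  have hnorm : ∀ j : ℕ, ∀ h ∈ H₀, (x ^ j)⁻¹ * h * x ^ j ∈ H₀ := by
    intro j h hh i
    rw [MonoidHom.map_mul, MonoidHom.map_mul, Module.End.mul_apply, Module.End.mul_apply]
    have h1 : ρ (x ^ j) (u i) = ((ρ x) ^ (j + i)) v := by
      rw [MonoidHom.map_pow, pow_add, Module.End.mul_apply]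
    rw [h1, hfix h hh _ (hpow _), ← h1, ← Module.End.mul_apply, ← MonoidHom.map_mul, inv_mul_cancel, MonoidHom.map_one,
      Module.End.one_apply]
  have hxN : x ∈ Subgroup.normalizer (H₀ : Set G) := by
    rw [Subgroup.mem_normalizer_iff]
    intro h
    constructor
    · intro hh
      have h1 := hnorm (p - 1) _ hh
      have h2 : (x ^ (p - 1))⁻¹ = x := by
        rw [inv_eq_iff_mul_eq_one, ← pow_succ, Nat.sub_add_cancel hp.out.one_lt.le, hxp]
      have h3 : x ^ (p - 1) = x⁻¹ := inv_eq_iff_eq_inv.1 h2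
      rwa [h2, h3] at h1
    · intro hh
      have h1 := hnorm 1 _ hh
      have h2 : (x ^ 1)⁻¹ * (x * h * x⁻¹) * x ^ 1 = h := by group
      rwa [h2] at h1
  have hxH : x ∉ H₀ := by
    intro h
    apply hv
    have := h ⟨0, hk⟩
    simpa only [hu, _root_.pow_zero, _root_.Module.End.one_apply] using this
  -- `p` divides the index of `H₀`
  have hdvd : p ∣ H₀.index := by
    have h1 := Subgroup.relIndex_mul_index (Subgroup.le_normalizer (H := H₀))
    rw [← h1]
    refine Dvd.dvd.mul_right ?_ _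
    have h2 : orderOf (QuotientGroup.mk ⟨x, hxN⟩ : ↥(Subgroup.normalizer (H₀ : Set G)) ⧸
        H₀.subgroupOf (Subgroup.normalizer (H₀ : Set G))) = p := by
      apply orderOf_eq_prime
      · rw [← QuotientGroup.mk_pow]
        have : (⟨x, hxN⟩ : ↥(Subgroup.normalizer (H₀ : Set G))) ^ p = 1 := Subtype.ext hxp
        rw [this]
        rfl
      · intro h3
        rw [QuotientGroup.eq_one_iff, Subgroup.mem_subgroupOf] at h3
        exact hxH h3
    rw [← h2]
    exact orderOf_dvd_natCard _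
  have hfac : (H₀ ⊔ π.ker).index * H₀.relIndex (H₀ ⊔ π.ker) = H₀.index := by
    rw [mul_comm]
    exact Subgroup.relIndex_mul_index le_sup_left
  have hmap : (H₀.map π).index = (H₀ ⊔ π.ker).index := by
    rw [Subgroup.index_map, MonoidHom.range_eq_top.2 hπ, Subgroup.index_top, mul_one]
  have hrel : H₀.relIndex (H₀ ⊔ π.ker) ∣ Nat.card π.ker := by
    have h1 : Nat.card H₀ * H₀.relIndex (H₀ ⊔ π.ker) = Nat.card ↥(H₀ ⊔ π.ker) :=
      card_mul_relIndex le_sup_left
    have h2 : Nat.card π.ker * π.ker.relIndex (H₀ ⊔ π.ker) = Nat.card ↥(H₀ ⊔ π.ker) :=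
      card_mul_relIndex le_sup_right
    have h3 : π.ker.relIndex (H₀ ⊔ π.ker) = π.ker.relIndex H₀ := Subgroup.relIndex_sup_right _ _
    have h4 : Nat.card ↥(π.ker ⊓ H₀) * (π.ker ⊓ H₀).relIndex H₀ = Nat.card H₀ :=
      card_mul_relIndex inf_le_right
    rw [Subgroup.inf_relIndex_right] at h4
    rw [h3] at h2
    have h5 : 0 < π.ker.relIndex H₀ := by
      rcases Nat.eq_zero_or_pos (π.ker.relIndex H₀) with h | h
      · rw [h, mul_zero] at h4
        exact absurd h4.symm Nat.card_pos.ne'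
      · exact h
    refine ⟨Nat.card ↥(π.ker ⊓ H₀), ?_⟩
    apply Nat.eq_of_mul_eq_mul_right h5
    rw [h2, ← h1, ← h4]
    ring
  refine ⟨H₀.map π, ?_, ?_⟩
  · rw [hmap]
    rw [← hfac, hp.out.dvd_mul] at hdvd
    exact hdvd.resolve_right fun h => hker (h.trans hrel)
  · rw [hmap]
    refine le_trans ?_ (index_fixT_le ρ u)
    rw [← hH₀, ← hfac]
    refine Nat.le_mul_of_pos_right _ ?_
    rcases Nat.eq_zero_or_pos (H₀.relIndex (H₀ ⊔ π.ker)) with h | h
    · rw [h, zero_dvd_iff] at hrel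
      exact absurd hrel Nat.card_pos.ne'
    · exact h

/-- **Small degrees from a linear action.** -/
theorem alpha_lin {G : Type*} {S : Type u} [Group G] [Group S] [Finite G] [Finite S] [Finite V] {p : ℕ}
    [hp : Fact p.Prime] (hpG : p ∣ Nat.card G) (ρ : G →* (V →ₗ[K] V)) (hρ : Function.Injective ρ)
    (hpK : ¬ p ∣ Nat.card K) [Finite K] {k : ℕ} (hk : 0 < k) (hpk : p ∣ Nat.card K ^ k - 1) (π : G →* S)
    (hπ : Function.Surjective π) (hker : ¬ p ∣ Nat.card π.ker) :
    ∃ χ : IrrCharacter S, (∀ M : Ideal AlgInt, IsPModular p M → χ ∈ principalBlock M S) ∧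
      ((χ : S → ℂ) ≠ fun _ => (1 : ℂ)) ∧ charDegree (χ : S → ℂ) < Nat.card V ^ k := by
  obtain ⟨H, h1, h2⟩ := exists_index_lin hpG ρ hρ hpK hk hpk π hπ hker
  obtain ⟨χ, h3, h4, h5⟩ := alpha_of_index (p := p) H h1
  exact ⟨χ, h3, h4, lt_of_lt_of_le h5 h2⟩

end grp

end Cfsg.Agent.H719.BD
end

-- part: H719/BD/StD
section
/-!
# The Steinberg character in the principal block (helper719, for S4932)

`st_of_D` : `S` a finite group with a root group datum of characteristic `r`, `D` a `p`-subgroup of `S`, `p ≠ r`, which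
normalizes no nontrivial `r`-subgroup of `S`: the Steinberg character, of degree `|S|_r`, lies in the principal `p`-block
(all proper parabolic subgroups have index divisible by `p`).
-/

set_option autoImplicit false
set_option linter.unusedSectionVars false

namespace Cfsg.Agent.H719.BD

open Cfsg CoxeterSystem Cfsg.Agent.KFacts.RgdDiag Cfsg.Agent.KFacts.RgdOpp Cfsg.Agent.H554.RG Cfsg.Agent.ChevalleyStructure.CoxeterGeom Cfsg.Agent.Tits.Roots Cfsg.Agent.Tits.Core
  Cfsg.Agent.Tits.Exchange Cfsg.Agent.Nodes.Reps Cfsg.Agent.Nodes.BNOf Cfsg.Agent.Nodes.StabComb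
  Cfsg.Agent.Nodes.Bruhat Cfsg.Agent.Nodes.OppDec Cfsg.Agent.Nodes.LeviDec Cfsg.Agent.Nodes.NormalForm
  Cfsg.Agent.H116.RatB0 Cfsg.Agent.KFacts.RgdAut

universe u

section general

/-- `D` normalizes no nontrivial `r`-subgroup: a subgroup normalizing a nontrivial `r`-subgroup has index divisible
by `p`. -/
theorem dvd_index_of_D {S : Type u} [Group S] [Finite S] {p r : ℕ} [hp : Fact p.Prime] {D : Subgroup S}
    (hD : IsPGroup p D)
    (hn : ∀ R : Subgroup S, IsPGroup r R → D ≤ Subgroup.normalizer (R : Set S) → R = ⊥)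
    {P V : Subgroup S} (hV : IsPGroup r V) (hV1 : V ≠ ⊥) (hPV : P ≤ Subgroup.normalizer (V : Set S)) :
    p ∣ P.index := by
  by_contra hcon
  obtain ⟨P₀, hP₀⟩ : ∃ P₀ : Sylow p S, (P₀ : Subgroup S) ≤ P := by
    let Q : Sylow p P := default
    obtain ⟨P₀, hP₀⟩ := (Q.isPGroup'.map P.subtype).exists_le_sylow
    refine ⟨P₀, ?_⟩
    have e1 : Nat.card ((Q : Subgroup P).map P.subtype) = Nat.card P₀ := by
      rw [P₀.card_eq_multiplicity, Nat.card_congr ((Q : Subgroup P).equivMapOfInjective _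
        P.subtype_injective).symm.toEquiv, Q.card_eq_multiplicity, ← Subgroup.index_mul_card P]
      congr 1
      rw [Nat.factorization_mul Subgroup.index_ne_zero_of_finite Nat.card_pos.ne', Finsupp.add_apply,
        Nat.factorization_eq_zero_of_not_dvd hcon, zero_add]
    have e2 : (Q : Subgroup P).map P.subtype = P₀ := Subgroup.eq_of_le_of_card_ge hP₀ e1.ge
    rw [← e2]
    exact Subgroup.map_subtype_le _
  obtain ⟨D₀, hD₀⟩ := hD.exists_le_sylow
  obtain ⟨g, hg⟩ := MulAction.exists_smul_eq S D₀ P₀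
  -- `g D g⁻¹ ≤ P`
  have h1 : ∀ d ∈ D, g * d * g⁻¹ ∈ P := by
    intro d hd
    apply hP₀
    rw [← hg, Sylow.smul_def]
    exact ⟨d, hD₀ hd, rfl⟩
  apply hV1
  have h2 := hn (V.map (MulAut.conj g⁻¹).toMonoidHom) (hV.map _) (by
    intro d hd
    have h3 := hPV (h1 d hd)
    rw [Subgroup.mem_normalizer_iff] at h3 ⊢
    intro x
    constructor
    · rintro ⟨v, hv, rfl⟩
      have h4 := (h3 v).1 hv
      refine ⟨_, h4, ?_⟩
      simp only [MulEquiv.coe_toMonoidHom, MulAut.conj_apply]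
      group
    · rintro ⟨v, hv, e⟩
      refine ⟨(g * d * g⁻¹)⁻¹ * v * (g * d * g⁻¹), ?_, ?_⟩
      · refine (h3 _).2 ?_
        have e2 : g * d * g⁻¹ * ((g * d * g⁻¹)⁻¹ * v * (g * d * g⁻¹)) * (g * d * g⁻¹)⁻¹ = v := by group
        rw [e2]
        exact hv
      · simp only [MulEquiv.coe_toMonoidHom, MulAut.conj_apply] at e ⊢
        have e3 : x = d⁻¹ * (g⁻¹ * v * g⁻¹⁻¹) * d := by rw [e]; group
        rw [e3]
        group)
  rw [Subgroup.eq_bot_iff_forall] at h2 ⊢
  intro v hv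
  have h3 := h2 _ ⟨v, hv, rfl⟩
  simp only [MulEquiv.coe_toMonoidHom, MulAut.conj_apply, inv_inv] at h3
  have h4 : v = g * (g⁻¹ * v * g) * g⁻¹ := by group
  rw [h4, h3]
  group

end general

section lift

variable {G S : Type*} [Group G] [Group S] [Finite G]

/-- **Lifting** a normalized `r`-subgroup through a central kernel of order prime to `r`. -/
theorem exists_lift {r : ℕ} [hr : Fact r.Prime] (π : G →* S) (hπ : Function.Surjective π)
    (hker : π.ker ≤ Subgroup.center G) {D : Subgroup G} {Q : Subgroup S} (hQ : IsPGroup r Q)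
    (hQ1 : Q ≠ ⊥) (hDQ : D.map π ≤ Subgroup.normalizer (Q : Set S)) :
    ∃ T : Subgroup G, IsPGroup r T ∧ D ≤ Subgroup.normalizer (T : Set G) ∧ T ≠ ⊥ := by
  classical
  have hS : Finite S := Finite.of_surjective π hπ
  have hr1 := hr.out
  set O : Subgroup G := Q.comap π with hO
  let f : O →* Q := (π.comp O.subtype).codRestrict Q fun x => x.2
  have hfk : f.ker ≤ Subgroup.center O := by
    intro x hx
    rw [Subgroup.mem_center_iff]
    intro y
    apply Subtype.ext
    have h1 : (x : G) ∈ π.ker := by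
      have h2 : f x = 1 := hx
      exact congrArg Subtype.val h2
    exact (Subgroup.mem_center_iff.1 (hker h1) y)
  have hQn : Group.IsNilpotent Q := hQ.isNilpotent
  have hOn : Group.IsNilpotent O := Subgroup.isNilpotent_of_ker_le_center f hfk
  let T₀ : Sylow r O := default
  have hT₀ : (T₀ : Subgroup O).Normal := by
    have h1 : ∀ (p : ℕ) (_ : Fact p.Prime) (P : Sylow p O), (P : Subgroup O).Normal :=
      (Group.isNilpotent_of_finite_tfae.out 0 3).1 hOn
    exact h1 r hr T₀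
  have hchar : (T₀ : Subgroup O).Characteristic := Sylow.characteristic_of_normal T₀ hT₀
  have hcard : r ∣ Nat.card O := by
    have h1 : r ∣ Nat.card Q := by
      obtain ⟨k, hk⟩ := IsPGroup.iff_card.1 hQ
      rw [hk]
      refine dvd_pow_self r ?_
      rintro rfl
      rw [pow_zero] at hk
      exact hQ1 (Subgroup.card_eq_one.1 hk)
    refine h1.trans ?_
    have hfs : Function.Surjective f := by
      rintro ⟨q, hq⟩
      obtain ⟨g, rfl⟩ := hπ q
      exact ⟨⟨g, hq⟩, rfl⟩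
    exact Subgroup.card_dvd_of_surjective f hfs
  have hne : (T₀ : Subgroup O).map O.subtype ≠ ⊥ := by
    intro h1
    have h2 : (T₀ : Subgroup O) = ⊥ := by
      rw [eq_bot_iff]
      intro x hx
      have h3 : (x : G) ∈ (T₀ : Subgroup O).map O.subtype := ⟨x, hx, rfl⟩
      rw [h1, Subgroup.mem_bot] at h3
      exact Subtype.ext h3
    have h4 := T₀.card_eq_multiplicity
    rw [h2, Subgroup.card_bot] at h4
    have h5 : 0 < (Nat.card O).factorization r := hr1.factorization_pos_of_dvd Nat.card_pos.ne' hcard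
    have h6 : 1 < r ^ (Nat.card O).factorization r := Nat.one_lt_pow h5.ne' hr1.one_lt
    omega
  refine ⟨(T₀ : Subgroup O).map O.subtype, T₀.isPGroup'.map _, ?_, hne⟩
  intro d hd
  have h1 : π d ∈ Subgroup.normalizer (Q : Set S) := hDQ ⟨d, hd, rfl⟩
  have h2 : ∀ x : G, x ∈ O ↔ d * x * d⁻¹ ∈ O := by
    intro x
    show π x ∈ Q ↔ π (d * x * d⁻¹) ∈ Q
    rw [MonoidHom.map_mul, MonoidHom.map_mul, MonoidHom.map_inv]
    exact (Subgroup.mem_normalizer_iff.1 h1) (π x)
  let e : O ≃* O :=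
    { toFun := fun x => ⟨d * x * d⁻¹, (h2 _).1 x.2⟩
      invFun := fun x => ⟨d⁻¹ * x * d, (h2 _).2 (by
        have : d * (d⁻¹ * (x : G) * d) * d⁻¹ = x := by group
        rw [this]; exact x.2)⟩
      left_inv := fun x => Subtype.ext (by simp only; group)
      right_inv := fun x => Subtype.ext (by simp only; group)
      map_mul' := fun x y => Subtype.ext (by simp only [Subgroup.coe_mul]; group) }
  have h3 : ∀ x : O, x ∈ (T₀ : Subgroup O) ↔ e x ∈ (T₀ : Subgroup O) := by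
    intro x
    have h4 := Subgroup.characteristic_iff_comap_eq.1 hchar e
    constructor
    · intro hx
      rw [← h4] at hx
      exact hx
    · intro hx
      rw [← h4]
      exact hx
  rw [Subgroup.mem_normalizer_iff]
  intro x
  constructor
  · rintro ⟨y, hy, rfl⟩
    exact ⟨e y, (h3 y).1 hy, rfl⟩
  · rintro ⟨y, hy, e1⟩
    have e2 : x ∈ O := by
      rw [h2 x, ← e1]
      exact y.2
    refine ⟨⟨x, e2⟩, (h3 _).2 ?_, rfl⟩
    have e3 : e ⟨x, e2⟩ = y := Subtype.ext e1.symm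
    rw [e3]
    exact hy

variable {K V : Type*} [Field K] [AddCommGroup V] [Module K V] [Finite V]

/-- the fixed space of a nontrivial `r`-group -/
theorem exists_fixed {r : ℕ} [hr : Fact r.Prime] (hV : (r : K) = 0) (ρ : G →* (V →ₗ[K] V)) {T : Subgroup G}
    (hT : IsPGroup r T) (U : Submodule K V) (hU : U ≠ ⊥) (hTU : ∀ t ∈ T, ∀ u ∈ U, ρ t u ∈ U) :
    ∃ u ∈ U, u ≠ 0 ∧ ∀ t ∈ T, ρ t u = u := by
  classical
  let act : MulAction T U :=
    { smul := fun t u => ⟨ρ (t : G) u, hTU _ t.2 _ u.2⟩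
      one_smul := fun u => Subtype.ext (by
        show ρ ((1 : T) : G) (u : V) = u
        rw [Subgroup.coe_one, MonoidHom.map_one, Module.End.one_apply])
      mul_smul := fun s t u => Subtype.ext (by
        show ρ ((s * t : T) : G) (u : V) = ρ (s : G) (ρ (t : G) (u : V))
        rw [Subgroup.coe_mul, MonoidHom.map_mul, Module.End.mul_apply]) }
  have h1 := hT.card_modEq_card_fixedPoints U
  have h2 : r ∣ Nat.card U := by
    obtain ⟨u, hu, hu0⟩ := (Submodule.ne_bot_iff U).1 hU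
    have h3 : addOrderOf (⟨u, hu⟩ : U) = r := by
      apply addOrderOf_eq_prime
      · apply Subtype.ext
        show r • u = 0
        rw [← Nat.cast_smul_eq_nsmul K, hV, zero_smul]
      · intro h4
        exact hu0 (congrArg Subtype.val h4)
    rw [← h3]
    exact addOrderOf_dvd_natCard _
  have h3 : r ∣ Nat.card (MulAction.fixedPoints T U) := (Nat.modEq_zero_iff_dvd.1 (h1.symm.trans (Nat.modEq_zero_iff_dvd.2 h2)))
  have h4 : (0 : U) ∈ MulAction.fixedPoints T U := by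
    intro t
    apply Subtype.ext
    show ρ (t : G) 0 = 0
    exact map_zero _
  have h5 : 1 < Nat.card (MulAction.fixedPoints T U) := by
    have h6 : 0 < Nat.card (MulAction.fixedPoints T U) := Nat.card_pos_iff.2 ⟨⟨⟨0, h4⟩⟩, inferInstance⟩
    exact lt_of_lt_of_le hr.out.one_lt (Nat.le_of_dvd h6 h3)
  obtain ⟨⟨u, hu⟩, hne⟩ : ∃ u : MulAction.fixedPoints T U, u ≠ ⟨0, h4⟩ := by
    by_contra hcon
    push Not at hcon
    have h7 : Nat.card (MulAction.fixedPoints T U) = 1 :=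
      Nat.card_eq_one_iff_unique.2 ⟨⟨fun a b => by rw [hcon a, hcon b]⟩, ⟨⟨0, h4⟩⟩⟩
    omega
  refine ⟨u, u.2, fun h => hne (Subtype.ext (Subtype.ext h)), fun t ht => ?_⟩
  exact congrArg Subtype.val (hu ⟨t, ht⟩)

/-- **A subgroup without totally isotropic invariant subspaces normalizes no nontrivial `r`-subgroup.** -/
theorem eq_bot_of_form {r : ℕ} [hr : Fact r.Prime] (hV : (r : K) = 0) (ρ : G →* (V →ₗ[K] V))
    (hρ : Function.Injective ρ) {D : Subgroup G} (B : V → V →ₗ[K] K)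
    (hB : ∀ (g : G) (u v : V), B (ρ g u) (ρ g v) = B u v)
    (hD : ∀ U : Submodule K V, U ≠ ⊥ → (∀ d ∈ D, ∀ u ∈ U, ρ d u ∈ U) → ∃ u ∈ U, ∃ v ∈ U, B u v ≠ 0)
    {T : Subgroup G} (hT : IsPGroup r T) (hDT : D ≤ Subgroup.normalizer (T : Set G)) : T = ⊥ := by
  by_contra hT1
  let F : Submodule K V :=
    { carrier := {v | ∀ t ∈ T, ρ t v = v}
      add_mem' := fun {a b} ha hb t ht => by rw [map_add, ha t ht, hb t ht]
      zero_mem' := fun t _ => map_zero _
      smul_mem' := fun c v hv t ht => by rw [map_smul, hv t ht] }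
  let F' : Submodule K V :=
    { carrier := {v | ∀ u ∈ F, B u v = 0}
      add_mem' := fun {a b} ha hb t ht => by rw [map_add, ha t ht, hb t ht, add_zero]
      zero_mem' := fun t _ => map_zero _
      smul_mem' := fun c v hv t ht => by rw [map_smul, hv t ht, smul_zero] }
  have hcan : ∀ (g : G) (v : V), ρ g (ρ g⁻¹ v) = v := by
    intro g v
    rw [← Module.End.mul_apply, ← MonoidHom.map_mul, mul_inv_cancel, MonoidHom.map_one, Module.End.one_apply]
  have hBi : ∀ (g : G) (u v : V), B u (ρ g v) = B (ρ g⁻¹ u) v := by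
    intro g u v
    have := hB g (ρ g⁻¹ u) v
    rwa [hcan] at this
  have hFinv : ∀ d ∈ Subgroup.normalizer (T : Set G), ∀ u ∈ F, ρ d u ∈ F := by
    intro d hd u hu t ht
    have h1 : d⁻¹ * t * d ∈ T := by
      have := (Subgroup.mem_normalizer_iff.1 (inv_mem hd) t).1 ht
      rwa [inv_inv] at this
    have h2 := hu _ h1
    rw [← Module.End.mul_apply, ← MonoidHom.map_mul]
    have e : t * d = d * (d⁻¹ * t * d) := by group
    rw [e, MonoidHom.map_mul, Module.End.mul_apply, h2]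
  have hF'inv : ∀ d ∈ Subgroup.normalizer (T : Set G), ∀ u ∈ F', ρ d u ∈ F' := by
    intro d hd u hu w hw
    rw [hBi]
    exact hu _ (hFinv _ (inv_mem hd) w hw)
  by_cases hF' : F' = ⊥
  · -- `T` acts trivially
    apply hT1
    rw [Subgroup.eq_bot_iff_forall]
    intro t ht
    apply hρ
    rw [MonoidHom.map_one]
    ext v
    have h1 : ρ t v - v ∈ F' := by
      intro u hu
      rw [map_sub, hBi, hu t⁻¹ (inv_mem ht), sub_self]
    rw [hF', Submodule.mem_bot, sub_eq_zero] at h1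
    exact h1
  · obtain ⟨w, hwF', hw0, hw⟩ := exists_fixed hV ρ hT F' hF'
      (fun t ht u hu => hF'inv t (Subgroup.le_normalizer ht) u hu)
    obtain ⟨u, hu, v, hv, huv⟩ := hD (F ⊓ F') ((Submodule.ne_bot_iff _).2 ⟨w, ⟨hw, hwF'⟩, hw0⟩)
      (fun d hd u hu => ⟨hFinv d (hDT hd) u hu.1, hF'inv d (hDT hd) u hu.2⟩)
    exact huv (hv.2 u hu.1)

end lift

section rgd

variable {I W : Type*} {S : Type u} [Fintype I] [DecidableEq I] [Group W] [Group S] {M : CoxeterMatrix I}
  {cs : CoxeterSystem M W} {A : I → I → ℤ} {h : IsCartan M A} {r : ℕ} {T : Subgroup S} {n : I → S}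
  {X : (I → ℤ) → Subgroup S} (R : RGD cs h r T n X)

include R

/-- the Steinberg character lies in `B₀` if all proper parabolic subgroups have index divisible by `p` -/
theorem st_of_index [Finite W] [Finite S] [hr : Fact r.Prime] (hG : GG cs h T X = ⊤) {p : ℕ} [hp : Fact p.Prime]
    (hpr : p ≠ r) (hJ : ∀ J : Set I, J ≠ Set.univ → p ∣ (PJ cs h T X J).index) :
    ∃ χ : IrrCharacter S, (∀ M' : Ideal AlgInt, IsPModular p M' → χ ∈ principalBlock M' S) ∧
      charDegree (χ : S → ℂ) = Nat.card (RGD.Sup X (RGD.Pos cs h)) := by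
  classical
  obtain ⟨h1, h2⟩ := exists_char_PJ R hG
  set χ : IrrCharacter S := ⟨_, h1⟩ with hχ
  have hval : ∀ g, (χ : S → ℂ) g = ∑ K ∈ (Finset.univ : Finset I).powerset, (((-1 : ℤ) ^ K.card : ℤ) : ℂ) *
      fixedPointCharacter (PJ cs h T X (K : Set I)) g := by
    intro g
    show (∑ K ∈ (Finset.univ : Finset I).powerset, (-1 : ℂ) ^ K.card *
      fixedPointCharacter (PJ cs h T X (K : Set I)) g) = _
    refine Finset.sum_congr rfl fun K _ => ?_
    push_cast
    rfl
  have hdeg : charDegree (χ : S → ℂ) = Nat.card (RGD.Sup X (RGD.Pos cs h)) := by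
    have h3 : (charDegree (χ : S → ℂ) : ℂ) = (χ : S → ℂ) 1 := (Blocks.Knorr.charDegree_eq χ.2).symm
    have h4 : (χ : S → ℂ) 1 = (Nat.card (RGD.Sup X (RGD.Pos cs h)) : ℂ) := h2
    rw [h4] at h3
    exact_mod_cast h3
  have hp' : ¬ p ∣ charDegree (χ : S → ℂ) := by
    rw [hdeg]
    obtain ⟨Q, hQ⟩ := exists_sylow R hG
    have h3 := Q.isPGroup'
    obtain ⟨k, hk⟩ := IsPGroup.iff_card.1 h3
    rw [← hQ]
    intro h4
    rw [hk] at h4
    exact hpr ((Nat.prime_dvd_prime_iff_eq hp.out hr.out).1 (hp.out.dvd_of_dvd_pow h4))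
  refine ⟨χ, fun M' hM => ?_, hdeg⟩
  refine mem_of_alt hM (Finset.univ : Finset I).powerset (fun K => (-1 : ℤ) ^ K.card)
    (fun K => PJ cs h T X (K : Set I)) χ hval hp' ?_
  intro K _
  by_cases hK : K = Finset.univ
  · refine Or.inr ?_
    rw [hK, Finset.coe_univ, PJ_univ R hG]
  · refine Or.inl (hJ K fun e => hK ?_)
    exact_mod_cast e

/-- the version with a `p`-subgroup -/
theorem st_of_D_rgd [Finite W] [Finite S] [hr : Fact r.Prime] (hG : GG cs h T X = ⊤) {p : ℕ} [hp : Fact p.Prime]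
    (hpr : p ≠ r) {D : Subgroup S} (hD : IsPGroup p D)
    (hn : ∀ Q : Subgroup S, IsPGroup r Q → D ≤ Subgroup.normalizer (Q : Set S) → Q = ⊥) :
    ∃ χ : IrrCharacter S, (∀ M' : Ideal AlgInt, IsPModular p M' → χ ∈ principalBlock M' S) ∧
      charDegree (χ : S → ℂ) = r ^ (Nat.card S).factorization r := by
  obtain ⟨χ, h1, h2⟩ := st_of_index R hG hpr fun J hJ => by
    refine dvd_index_of_D hD hn (V := VJ cs h X J) (R.isPGroup_Upos.to_le (VJ_le_U J)) ?_ (PJ_le_normalizer_VJ R J)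
    obtain ⟨i, hi⟩ := (Set.ne_univ_iff_exists_notMem J).1 hJ
    intro h3
    apply X_ne_bot R (isRoot_sr cs h i)
    rw [eq_bot_iff, ← h3]
    exact RGD.le_Sup (sr_mem_NotJ hi)
  refine ⟨χ, h1, ?_⟩
  obtain ⟨Q, hQ⟩ := exists_sylow R hG
  rw [h2, ← hQ]
  exact Q.card_eq_multiplicity

end rgd

/-- **The Steinberg character in the principal block.** -/
theorem st_of_D {S : Type u} [Group S] [Finite S] {r p : ℕ} [hr : Fact r.Prime] [hp : Fact p.Prime]
    (hS : Nodes.RGDChev.HasRGD r S) (hpr : p ≠ r) {D : Subgroup S} (hD : IsPGroup p D)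
    (hn : ∀ Q : Subgroup S, IsPGroup r Q → D ≤ Subgroup.normalizer (Q : Set S) → Q = ⊥) :
    ∃ χ : IrrCharacter S, (∀ M' : Ideal AlgInt, IsPModular p M' → χ ∈ principalBlock M' S) ∧
      charDegree (χ : S → ℂ) = r ^ (Nat.card S).factorization r := by
  obtain ⟨l, M, A, h, T, n, X, hfin, R, hG1⟩ := hS
  have hG : GG M.toCoxeterSystem h T X = ⊤ := by
    rw [eq_top_iff, ← hG1]
    exact le_sup_right
  exact st_of_D_rgd R hG hpr hD hn

/-- **The Steinberg character of a central quotient of an isometry group.** -/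
theorem st_of_form {S : Type u} [Group S] [Finite S] {r p : ℕ} [hr : Fact r.Prime] [hp : Fact p.Prime]
    (hS : Nodes.RGDChev.HasRGD r S) (hpr : p ≠ r) {G K V : Type*} [Group G] [Finite G] [Field K] [AddCommGroup V]
    [Module K V] [Finite V] (π : G →* S) (hπ : Function.Surjective π) (hker : π.ker ≤ Subgroup.center G)
    (hV : (r : K) = 0) (ρ : G →* (V →ₗ[K] V)) (hρ : Function.Injective ρ) (B : V → V →ₗ[K] K)
    (hB : ∀ (g : G) (u v : V), B (ρ g u) (ρ g v) = B u v) {D : Subgroup G} (hDp : IsPGroup p D)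
    (hD : ∀ U : Submodule K V, U ≠ ⊥ → (∀ d ∈ D, ∀ u ∈ U, ρ d u ∈ U) → ∃ u ∈ U, ∃ v ∈ U, B u v ≠ 0) :
    ∃ χ : IrrCharacter S, (∀ M' : Ideal AlgInt, IsPModular p M' → χ ∈ principalBlock M' S) ∧
      charDegree (χ : S → ℂ) = r ^ (Nat.card S).factorization r := by
  refine st_of_D hS hpr (hDp.map π) fun Q hQ hDQ => ?_
  by_contra hQ1
  obtain ⟨T, hT, hDT, hT1⟩ := exists_lift π hπ hker hQ hQ1 hDQ
  exact hT1 (eq_bot_of_form hV ρ hρ B hB hD hT hDT)

end Cfsg.Agent.H719.BD
end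

-- part: H410/BD/Fix
section
/-!
# S4932, S4953 (unitary type): Sylow subgroups of the isometry groups

* `fx P`, `mv Q P` : the fixed space of a group `P` of isometries and its orthogonal complement;
* `Typ.dvd_card_X` : `p` divides `|X k|` if `orderOf q = 2 f ≤ k`;
* `no_ti` : a Sylow subgroup leaves invariant no totally singular subspace without fixed vectors.
-/

set_option autoImplicit false
set_option linter.unusedSectionVars false

namespace Cfsg.Agent.H410.BD

open QuadraticMap Module Cfsg Cfsg.Agent.H2.Pol Cfsg.Agent.H410.BR Cfsg.Agent.H674.BR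
open Cfsg.Agent.LieClassical.OrthCore Cfsg.Agent.LieClassical.OrthTrans

section Fix

variable {F V : Type*} [Field F] [AddCommGroup V] [Module F V]

/-- the fixed space -/
def fx (P : Subgroup (V ≃ₗ[F] V)) : Submodule F V where
  carrier := {v | ∀ g ∈ P, g v = v}
  add_mem' := by
    intro a b ha hb g hg
    rw [map_add, ha g hg, hb g hg]
  zero_mem' := fun g _ => map_zero g
  smul_mem' := by
    intro c a ha g hg
    rw [map_smul, ha g hg]

/-- the orthogonal complement of the fixed space -/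
def mv (Q : QuadraticForm F V) (P : Subgroup (V ≃ₗ[F] V)) : Submodule F V := pp (polarBilin Q) (fx P)

theorem mem_mv {Q : QuadraticForm F V} {P : Subgroup (V ≃ₗ[F] V)} {v : V} :
    v ∈ mv Q P ↔ ∀ x ∈ fx P, polar Q v x = 0 := Iff.rfl

variable {Q : QuadraticForm F V}

theorem polar_sum {ι : Type*} (s : Finset ι) (x : V) (f : ι → V) :
    polar Q x (∑ i ∈ s, f i) = ∑ i ∈ s, polar Q x (f i) := by
  have h1 := map_sum (polarBilin Q x) f s
  exact h1

/-- the fixed space of a group of order prime to the characteristic is nondegenerate -/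
theorem nondeg_fx (hQ : Nondeg Q) {P : Subgroup (V ≃ₗ[F] V)} [Finite P] (hP : P ≤ O Q)
    (hc : (Nat.card P : F) ≠ 0) {x : V} (hx : x ∈ fx P) (h : ∀ y ∈ fx P, polar Q x y = 0) : x = 0 := by
  have := Fintype.ofFinite P
  apply hQ
  intro v
  have h1 : ∑ g : P, (g : V ≃ₗ[F] V) v ∈ fx P := by
    intro g hg
    rw [map_sum]
    exact Fintype.sum_equiv (Equiv.mulLeft (⟨g, hg⟩ : P)) _ _ fun _ => rfl
  have h2 := h _ h1
  rw [polar_sum] at h2
  have h3 : ∀ g : P, polar Q x ((g : V ≃ₗ[F] V) v) = polar Q x v := by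
    intro g
    have h4 := polar_map (hP g.2) x v
    rwa [hx _ g.2] at h4
  rw [Finset.sum_congr rfl fun g _ => h3 g, Finset.sum_const, Finset.card_univ, nsmul_eq_mul,
    ← Nat.card_eq_fintype_card] at h2
  exact (mul_eq_zero.1 h2).resolve_left hc

theorem disjoint_fx_mv (hQ : Nondeg Q) {P : Subgroup (V ≃ₗ[F] V)} [Finite P] (hP : P ≤ O Q)
    (hc : (Nat.card P : F) ≠ 0) : Disjoint (fx P) (mv Q P) := by
  rw [Submodule.disjoint_def]
  intro x hx hx'
  exact nondeg_fx hQ hP hc hx fun y hy => hx' y hy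

theorem sup_fx_mv [FiniteDimensional F V] (hQ : Nondeg Q) {P : Subgroup (V ≃ₗ[F] V)} [Finite P] (hP : P ≤ O Q)
    (hc : (Nat.card P : F) ≠ 0) : fx P ⊔ mv Q P = ⊤ := by
  apply Submodule.eq_top_of_disjoint _ _ _ (disjoint_fx_mv hQ hP hc)
  have h1 := finrank_pp hQ (fx P)
  unfold mv
  omega

theorem nondeg_mv [FiniteDimensional F V] (hQ : Nondeg Q) {P : Subgroup (V ≃ₗ[F] V)} [Finite P] (hP : P ≤ O Q)
    (hc : (Nat.card P : F) ≠ 0) {x : V} (hx : x ∈ mv Q P) (h : ∀ y ∈ mv Q P, polar Q x y = 0) : x = 0 := by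
  apply hQ
  intro v
  have h1 : v ∈ fx P ⊔ mv Q P := by
    rw [sup_fx_mv hQ hP hc]
    trivial
  obtain ⟨a, ha, b, hb, rfl⟩ := Submodule.mem_sup.1 h1
  rw [polar_add_right, mem_mv.1 hx a ha, h b hb, add_zero]

theorem map_mem_mv {P : Subgroup (V ≃ₗ[F] V)} (hP : P ≤ O Q) {g : V ≃ₗ[F] V} (hg : g ∈ P) {v : V}
    (hv : v ∈ mv Q P) : g v ∈ mv Q P := by
  intro x hx
  have h1 := polar_map (hP hg) v x
  rw [hx g hg] at h1
  exact h1.trans (hv x hx)

theorem eq_zero_of_fixed (hQ : Nondeg Q) {P : Subgroup (V ≃ₗ[F] V)} [Finite P] (hP : P ≤ O Q)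
    (hc : (Nat.card P : F) ≠ 0) {v : V} (hv : v ∈ mv Q P) (h : ∀ g ∈ P, g v = v) : v = 0 :=
  (Submodule.disjoint_def.1 (disjoint_fx_mv hQ hP hc)) v h hv

/-- the number of vectors of an invariant subspace without fixed vectors -/
theorem card_modEq_one [Finite V] {p : ℕ} [hp : Fact p.Prime] {P : Subgroup (V ≃ₗ[F] V)} (hP : IsPGroup p P)
    (W : Submodule F V) (hinv : ∀ g ∈ P, ∀ v ∈ W, g v ∈ W) (hfix : ∀ v ∈ W, (∀ g ∈ P, g v = v) → v = 0) :
    Nat.card W ≡ 1 [MOD p] := by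
  let _ : MulAction P W :=
    { smul := fun g v => ⟨(g : V ≃ₗ[F] V) v.1, hinv _ g.2 _ v.2⟩
      one_smul := fun v => rfl
      mul_smul := fun g h v => rfl }
  have h1 := hP.card_modEq_card_fixedPoints W
  have h2 : Nat.card (MulAction.fixedPoints P W) = 1 := by
    rw [Nat.card_eq_one_iff_exists]
    refine ⟨⟨0, fun g => Subtype.ext (map_zero (g : V ≃ₗ[F] V))⟩, ?_⟩
    rintro ⟨v, hv⟩
    apply Subtype.ext
    apply Subtype.ext
    exact hfix v.1 v.2 fun g hg => congrArg Subtype.val (hv ⟨g, hg⟩)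
  rwa [h2] at h1

theorem order_dvd_finrank [Finite F] [Finite V] {p : ℕ} [hp : Fact p.Prime] {P : Subgroup (V ≃ₗ[F] V)}
    (hP : IsPGroup p P) (W : Submodule F V) (hinv : ∀ g ∈ P, ∀ v ∈ W, g v ∈ W)
    (hfix : ∀ v ∈ W, (∀ g ∈ P, g v = v) → v = 0) : orderOf (Nat.card F : ZMod p) ∣ finrank F W := by
  have h1 := card_modEq_one hP W hinv hfix
  have : Module.Finite F W := Module.Finite.of_finite
  have h2 : Nat.card W = Nat.card F ^ finrank F W := by
    have := Fintype.ofFinite F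
    have := Fintype.ofFinite W
    rw [Nat.card_eq_fintype_card, Nat.card_eq_fintype_card]
    exact Module.card_eq_pow_finrank
  rw [h2, ← ZMod.natCast_eq_natCast_iff] at h1
  apply orderOf_dvd_of_pow_eq_one
  push_cast at h1
  exact h1

end Fix

section Arith

open Finset Cfsg.Agent.H146.KW.Psl

theorem gam_eq (q : ℕ) {k w : ℕ} (hk : k ≤ w) :
    gam q w = (∏ i ∈ range k, (q ^ (w - i) - 1)) * gam q (w - k) := by
  induction k with
  | zero => simp only [_root_.Finset.range_zero, _root_.Finset.prod_empty, _root_.tsub_zero, _root_.one_mul]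
  | succ k ih =>
    rw [ih (by omega), prod_range_succ, mul_assoc]
    congr 1
    obtain ⟨j, hj⟩ : ∃ j, w - k = j + 1 := ⟨w - k - 1, by omega⟩
    rw [hj, gam_succ, show w - (k + 1) = j by omega, mul_comm]

theorem exists_gbin {q : ℕ} (hq : 2 ≤ q) {k w : ℕ} (hk : k ≤ w) :
    ∃ c, ∏ i ∈ range k, (q ^ (w - i) - 1) = c * ∏ i ∈ range k, (q ^ (i + 1) - 1) := by
  refine ⟨gbin q k (w - k), ?_⟩
  have h1 := gbin_mul hq k (w - k)
  rw [Nat.add_sub_cancel' hk, gam_eq q hk] at h1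
  exact (Nat.eq_of_mul_eq_mul_right (gam_pos hq _) h1).symm

/-- an odd multiple of `f` among `2 f` consecutive numbers -/
theorem exists_odd_mul {f : ℕ} (hf : 0 < f) (s : ℕ) : ∃ t a, s ≤ t ∧ t < s + 2 * f ∧ t = (2 * a + 1) * f := by
  have h1 := Nat.div_add_mod s (2 * f)
  have h2 := Nat.mod_lt s (show 0 < 2 * f by omega)
  set a := s / (2 * f)
  set r := s % (2 * f)
  by_cases hr : r ≤ f
  · refine ⟨(2 * a + 1) * f, a, ?_, ?_, rfl⟩
    · have : (2 * a + 1) * f = 2 * f * a + f := by ring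
      omega
    · have : (2 * a + 1) * f = 2 * f * a + f := by ring
      omega
  · refine ⟨(2 * (a + 1) + 1) * f, a + 1, ?_, ?_, rfl⟩
    · have : (2 * (a + 1) + 1) * f = 2 * f * a + 3 * f := by ring
      omega
    · have : (2 * (a + 1) + 1) * f = 2 * f * a + 3 * f := by ring
      omega

end Arith

section Card

variable {F V : Type*} [Field F] [Fintype F] [AddCommGroup V] [Module F V] [FiniteDimensional F V]
  {Q : QuadraticForm F V} {w ε : ℕ} {p : ℕ} [hp : Fact p.Prime]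

theorem dvd_card_X (h : Typ Q w ε) {f : ℕ} (hf : 0 < f) (he : orderOf (Nat.card F : ZMod p) = 2 * f) {k : ℕ}
    (hk : 2 * f ≤ k) (hkw : k ≤ w) : p ∣ Nat.card ((quadPol Q).X k) := by
  have hq : 2 ≤ Nat.card F := Finite.one_lt_card
  have h1 := h.card_X hkw
  obtain ⟨c, hc⟩ := exists_gbin hq hkw
  rw [Finset.prod_mul_distrib, hc] at h1
  have h2 : 0 < ∏ i ∈ Finset.range k, (Nat.card F ^ (i + 1) - 1) := H146.KW.Psl.gam_pos hq k
  have h3 : Nat.card ((quadPol Q).X k) = c * ∏ i ∈ Finset.range k, (Nat.card F ^ (w - 1 - i + ε) + 1) := by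
    apply Nat.eq_of_mul_eq_mul_right h2
    rw [h1]
    ring
  rw [h3]
  refine Dvd.dvd.mul_left ?_ _
  obtain ⟨t, a, ht1, ht2, ht3⟩ := exists_odd_mul hf (w - k + ε)
  have h4 : p ∣ Nat.card F ^ (w - 1 - (w - 1 + ε - t) + ε) + 1 := by
    rw [show w - 1 - (w - 1 + ε - t) + ε = (2 * a + 1) * f by (clear * - hk hkw ht1 ht2 ht3; omega)]
    exact H31.BR.Arith.dvd_add_one_of he hf ⟨a, rfl⟩
  exact h4.trans (Finset.dvd_prod_of_mem (fun i => Nat.card F ^ (w - 1 - i + ε) + 1)
    (Finset.mem_range.2 (by (clear * - hk ht1 ht2; omega))))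

end Card

section Sylow

variable {F V : Type*} [Field F] [Fintype F] [AddCommGroup V] [Module F V] [Finite V] [FiniteDimensional F V]
  {Q : QuadraticForm F V} {w ε : ℕ} {p : ℕ} [hp : Fact p.Prime]

instance finite_gl : Finite (V ≃ₗ[F] V) := Finite.of_injective (fun g : V ≃ₗ[F] V => (g : V → V)) DFunLike.coe_injective

/-- the action of the isometry group -/
theorem o_acts (Q : QuadraticForm F V) : Acts (quadPol Q) (O Q).subtype where
  sing g v hv := by
    have h1 : Q ((g : V ≃ₗ[F] V) v) = Q v := mem_O.1 g.2 v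
    show Q ((g : V ≃ₗ[F] V) v) = 0
    rw [h1]
    exact hv
  orth g x y h := (polar_map g.2 x y).trans h

/-- the Sylow subgroup as a group of linear maps -/
def syl (P : Sylow p (O Q)) : Subgroup (V ≃ₗ[F] V) := ((P : Subgroup (O Q)).map (O Q).subtype :)

theorem syl_le (P : Sylow p (O Q)) : syl P ≤ O Q := by
  rintro _ ⟨g, -, rfl⟩
  exact g.2

theorem syl_isPGroup (P : Sylow p (O Q)) : IsPGroup p (syl P) := P.isPGroup'.map _

theorem no_ti (h : Typ Q w ε) {f : ℕ} (hf : 0 < f) (he : orderOf (Nat.card F : ZMod p) = 2 * f) (P : Sylow p (O Q))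
    {U : Submodule F V} (hU : (quadPol Q).TI U) (hinv : ∀ g ∈ syl P, ∀ v ∈ U, g v ∈ U)
    (hfix : ∀ v ∈ U, (∀ g ∈ syl P, g v = v) → v = 0) : U = ⊥ := by
  by_contra hne
  have h1 := order_dvd_finrank (syl_isPGroup P) U hinv hfix
  rw [he] at h1
  have h2 : 0 < finrank F U := Nat.pos_of_ne_zero fun h0 => hne (Submodule.finrank_eq_zero.1 h0)
  have h3 := Nat.le_of_dvd h2 h1
  have h4 := h.index hU
  have h5 := dvd_card_X h hf he h3 h4
  let _ := (o_acts Q).mulAction (finrank F U)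
  have htr : MulAction.IsPretransitive (O Q) ((quadPol Q).X (finrank F U)) := by
    refine ⟨fun W W' => ?_⟩
    have hb := (quadPol Q).TI_bot
    obtain ⟨g, hg, hg1, -⟩ := witt_pair_O h.nondeg W.2.1 hb W'.2.1 hb (W.2.2.trans W'.2.2.symm) rfl
      (by rw [inf_bot_eq, inf_bot_eq]) (by rw [bot_inf_eq, bot_inf_eq])
    exact ⟨⟨g, hg⟩, Subtype.ext hg1⟩
  let U0 : (quadPol Q).X (finrank F U) := ⟨U, hU, rfl⟩
  have h6 : (MulAction.stabilizer (O Q) U0).index = Nat.card ((quadPol Q).X (finrank F U)) :=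
    MulAction.index_stabilizer_of_transitive (O Q) U0
  have h7 : (P : Subgroup (O Q)) ≤ MulAction.stabilizer (O Q) U0 := by
    intro g hg
    rw [MulAction.mem_stabilizer_iff]
    apply Subtype.ext
    show U.map ((g : V ≃ₗ[F] V) : V →ₗ[F] V) = U
    apply map_eq_of_le
    rintro _ ⟨x, hx, rfl⟩
    exact hinv _ ⟨g, hg, rfl⟩ x hx
  have h8 := Subgroup.index_dvd_of_le h7
  rw [h6] at h8
  exact P.not_dvd_index (h5.trans h8)

end Sylow

end Cfsg.Agent.H410.BD
end

-- part: H410/BD/Unit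
section
/-!
# S4932, S4953, row `POmega`, unitary type (`orderOf q = 2 f` modulo `p`)

`exists_unitary` : a subspace of codimension at most `2 f` is of plus or minus type and carries a `p`-group of
isometries (in `Omega`) without fixed vectors and without invariant totally singular subspaces.
-/

set_option autoImplicit false
set_option linter.unusedSectionVars false

namespace Cfsg.Agent.H410.BD

open QuadraticMap Module Cfsg Cfsg.Agent.H2.Pol Cfsg.Agent.H410.BR Cfsg.Agent.H674.BR Cfsg.Agent.GenOrth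
open Cfsg.Agent.LieClassical Cfsg.Agent.LieClassical.OrthCore Cfsg.Agent.LieClassical.OrthTrans
  Cfsg.Agent.LieClassical.OrthFinite Cfsg.Agent.LieClassical.OrthForms

section Ext

variable {F V V' : Type*} [Field F] [AddCommGroup V] [Module F V] [AddCommGroup V'] [Module F V']
  {Q : QuadraticForm F V} {Q' : QuadraticForm F V'}

theorem ext_mem_O (e : Emb Q Q') {g : V' ≃ₗ[F] V'} (hg : g ∈ O Q') : e.ext g ∈ O Q := by
  intro v
  have h1 : ∀ x : V', polar Q (v - e.j (e.π v)) (e.j x) = 0 := by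
    intro x
    rw [polar_sub_left, polar_comm Q v, e.adj, e.polar_j, polar_comm Q' x, sub_self]
  have h2 : e.ext g v = (v - e.j (e.π v)) + e.j (g (e.π v)) := by
    rw [e.ext_apply, map_sub]
    abel
  have h3 : v = (v - e.j (e.π v)) + e.j (e.π v) := by abel
  rw [h2, Q_add, h1, e.hQ, mem_O.1 hg]
  conv_rhs => rw [h3, Q_add, h1, e.hQ]

/-- an isometry fixing the image of `j` commutes with the extensions -/
theorem comm_ext (e : Emb Q Q') (g : V' ≃ₗ[F] V') {h : V ≃ₗ[F] V} (hh : h ∈ O Q)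
    (hj : ∀ x, h (e.j x) = e.j x) : h * e.ext g = e.ext g * h := by
  ext v
  show h (e.ext g v) = e.ext g (h v)
  have h1 : e.π (h v) = e.π v := by
    have h2 : e.π (h v) - e.π v = 0 := by
      apply e.nd
      intro x
      rw [polar_comm, polar_sub_right]
      apply mul_left_cancel₀ e.hc
      rw [mul_zero, mul_sub, ← e.adj, ← e.adj, ← polar_map hh (e.j x) v, hj, sub_self]
    exact sub_eq_zero.1 h2
  rw [e.ext_apply, e.ext_apply, h1, map_add, hj]

end Ext

section Sylow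

variable {F : Type} {V : Type*} [Field F] [Fintype F] [AddCommGroup V] [Module F V] [Finite V] [FiniteDimensional F V]
  {Q : QuadraticForm F V} {w ε : ℕ} {p : ℕ} [hp : Fact p.Prime]

/-- the fixed space of a Sylow subgroup carries no isometries of order `p` -/
theorem not_dvd_of_sim (P : Sylow p (O Q)) {κ : Type} [Fintype κ] [DecidableEq κ] {Q' : QuadraticForm F (κ → F)}
    (nd : Nondeg Q') (hs : Sim (Q.comp (fx (syl P)).subtype) ⇑Q') : ¬ p ∣ Nat.card (isometryGroup F ⇑Q') := by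
  intro hd
  obtain ⟨c, hc, j, hj⟩ := hs
  obtain ⟨e, he⟩ : ∃ e : Emb Q Q', ∀ x, e.j x = (j x : V) :=
    ⟨ofLin ((fx (syl P)).subtype ∘ₗ j.toLinearMap) c hc hj nd, fun _ => rfl⟩
  obtain ⟨z', hz'⟩ := exists_prime_orderOf_dvd_card' p hd
  have hz1 : e.ext (isometryHom Q' z') ∈ O Q := ext_mem_O e (iso_mem_O z')
  set z : O Q := ⟨e.ext (isometryHom Q' z'), hz1⟩ with hz
  have hzp : z ^ p = 1 := by
    apply Subtype.ext
    show (e.ext (isometryHom Q' z')) ^ p = 1
    rw [← MonoidHom.map_pow, ← MonoidHom.map_pow, ← hz', pow_orderOf_eq_one, MonoidHom.map_one, MonoidHom.map_one]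
  have hcomm : ∀ g ∈ (P : Subgroup (O Q)), g * z = z * g := by
    intro g hg
    apply Subtype.ext
    apply comm_ext e _ g.2
    intro x
    rw [he]
    exact (j x).2 _ ⟨g, hg, rfl⟩
  have hpg : IsPGroup p (Subgroup.zpowers z) := by
    rcases eq_or_ne z 1 with h1 | h1
    · apply IsPGroup.of_card (n := 0)
      rw [Nat.card_zpowers, h1, orderOf_one, pow_zero]
    · apply IsPGroup.of_card (n := 1)
      rw [Nat.card_zpowers, pow_one]
      exact orderOf_eq_prime hzp h1
  have hmem : z ∈ (P : Subgroup (O Q)) := by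
    have h1 := hpg.inf_normalizer_sylow P
    have h2 : z ∈ Subgroup.zpowers z ⊓ (P : Subgroup (O Q)) := by
      rw [← h1]
      refine Subgroup.mem_inf.2 ⟨Subgroup.mem_zpowers z, ?_⟩
      rw [Subgroup.mem_set_normalizer_iff]
      intro g
      constructor
      · intro hg
        have h3 := hcomm g hg
        have h4 : z * g * z⁻¹ = g := by rw [← h3, mul_inv_cancel_right]
        show z * g * z⁻¹ ∈ (P : Subgroup (O Q))
        rw [h4]
        exact hg
      · intro hg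
        have h3 := hcomm _ hg
        have h4 : z * g * z⁻¹ = g := by
          have h5 : z * g = z * (z * g * z⁻¹) := by rw [← h3, inv_mul_cancel_right]
          exact (mul_left_cancel h5).symm
        have hg' : z * g * z⁻¹ ∈ (P : Subgroup (O Q)) := hg
        rw [h4] at hg'
        exact hg'
    exact (Subgroup.mem_inf.1 h2).2
  have hz1 : z' = 1 := by
    apply isometryHom_injective Q'
    ext1 x
    rw [MonoidHom.map_one]
    show isometryHom Q' z' x = x
    apply e.j_injective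
    rw [← e.ext_j, he]
    exact (j x).2 _ ⟨z, hmem, rfl⟩
  rw [hz1, orderOf_one] at hz'
  exact hp.out.one_lt.ne hz'

theorem dvd_prod {q m f : ℕ} (hq : 0 < q) (hf : 0 < f) (he : orderOf (q : ZMod p) = 2 * f) (hm : f ≤ m) :
    p ∣ ∏ i ∈ Finset.range m, (q ^ (2 * (i + 1)) - 1) := by
  have h1 : p ∣ q ^ (2 * (f - 1 + 1)) - 1 := by
    rw [H31.BR.Arith.dvd_sub_one hq, he, Nat.sub_add_cancel hf]
  exact h1.trans (Finset.dvd_prod_of_mem (fun i => q ^ (2 * (i + 1)) - 1) (Finset.mem_range.2 (by omega)))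

/-- in characteristic two the odd dimensional forms are degenerate -/
theorem two_ne_of_sim {W : Type*} [AddCommGroup W] [Module F W] {R : QuadraticForm F W} (hR : Nondeg R) {k : ℕ}
    (hs : Sim R (quadFormOdd k F)) : (2 : F) ≠ 0 := by
  intro h2
  obtain ⟨c, hc, j, hj⟩ := hs
  have h1 : j (Pi.single (Sum.inl ()) 1) = 0 := by
    apply hR
    intro y
    obtain ⟨y, rfl⟩ := j.surjective y
    have h3 : polar R (j (Pi.single (Sum.inl ()) 1)) (j y) = c * polar (oddForm k F) (Pi.single (Sum.inl ()) 1) y := by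
      simp only [polar, ← map_add, hj, coe_oddForm]
      ring
    rw [h3, polar_oddForm]
    simp only [h2, _root_.Pi.single_eq_same, _root_.mul_one, _root_.MulZeroClass.zero_mul, _root_.ne_eq, _root_.reduceCtorEq, _root_.not_false_eq_true, _root_.Pi.single_eq_of_ne, _root_.MulZeroClass.mul_zero, _root_.add_zero, _root_.Finset.sum_const_zero]
  have h4 := j.map_eq_zero_iff.1 h1
  have h5 := congrFun h4 (Sum.inl ())
  simp at h5

/-- the fixed space of a Sylow subgroup is small -/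
theorem finrank_fx_le (hQ : Nondeg Q) {f : ℕ} (hf : 0 < f) (he : orderOf (Nat.card F : ZMod p) = 2 * f)
    (P : Sylow p (O Q)) (hc : (Nat.card (syl P) : F) ≠ 0) : finrank F (fx (syl P)) ≤ 2 * f := by
  by_contra hcon
  push Not at hcon
  have hq : 0 < Nat.card F := Nat.card_pos
  have hnd : Nondeg (Q.comp (fx (syl P)).subtype) := by
    intro x hx
    apply Subtype.ext
    apply nondeg_fx hQ (syl_le P) hc x.2
    intro y hy
    exact hx ⟨y, hy⟩
  rcases normal_form _ hnd rfl with ⟨k, hk, hs⟩ | ⟨k, hk, hs⟩ | ⟨k, hk, a, b, hab, hs⟩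
  · have h2 := two_ne_of_sim hnd hs
    refine not_dvd_of_sim P (Q' := oddForm k F) (nondeg_oddForm k F h2) (by rwa [coe_oddForm]) ?_
    have hodd : Odd (Nat.card F) := by
      rw [← Nat.not_even_iff_odd]
      intro h
      apply h2
      rw [even_iff_two_dvd] at h
      obtain ⟨t, ht⟩ := h
      have h3 : (Nat.card F : F) = 0 := by
        rw [Nat.card_eq_fintype_card]
        exact FiniteField.cast_card_eq_zero F
      have h5 : ringChar F ∣ Fintype.card F := by
        rw [← ringChar.spec, FiniteField.cast_card_eq_zero]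
      obtain ⟨n, hn, hn'⟩ := FiniteField.card F (ringChar F)
      have h6 : 2 ∣ ringChar F := by
        have h7 : 2 ∣ Fintype.card F := by
          rw [← Nat.card_eq_fintype_card, ht]
          exact dvd_mul_right 2 t
        rw [hn'] at h7
        exact Nat.prime_two.dvd_of_dvd_pow h7
      have h8 := (Nat.prime_dvd_prime_iff_eq Nat.prime_two hn).1 h6
      have h9 := (ringChar.spec F 2).2 (by rw [← h8])
      exact_mod_cast h9
    rw [coe_oddForm, S0286.result (F := F) (q := Nat.card F) (Nat.card_eq_fintype_card.symm) hodd k]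
    exact (dvd_prod hq hf he (by omega)).mul_left _
  · refine not_dvd_of_sim P (Q' := plusForm k F) (nondeg_plusForm k F) (by rwa [coe_plusForm]) ?_
    rw [coe_plusForm, S0287.result (F := F) (q := Nat.card F) (Nat.card_eq_fintype_card.symm) k (by omega)]
    exact (dvd_prod hq hf he (by omega)).mul_left _
  · refine not_dvd_of_sim P (Q' := minusForm k F a b) (nondeg_minusForm k F a b hab) (by rwa [coe_minusForm]) ?_
    have h1 := S0288.result (F := F) (q := Nat.card F) (Nat.card_eq_fintype_card.symm) (k + 1) (by omega) a b hab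
    rw [Nat.add_sub_cancel] at h1
    rw [coe_minusForm, h1]
    exact (dvd_prod hq hf he (by omega)).mul_left _

/-- the singular vectors modulo `p` -/
theorem card_sing_modEq (P : Sylow p (O Q)) :
    Nat.card {v : V // Q v = 0} ≡ Nat.card {v : fx (syl P) // Q (v : V) = 0} [MOD p] := by
  let _ : MulAction (syl P) {v : V // Q v = 0} :=
    { smul := fun g v => ⟨(g : V ≃ₗ[F] V) v.1, by rw [mem_O.1 (syl_le P g.2)]; exact v.2⟩
      one_smul := fun v => rfl
      mul_smul := fun g h v => rfl }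
  have h1 := (syl_isPGroup P).card_modEq_card_fixedPoints {v : V // Q v = 0}
  have h2 : Nat.card (MulAction.fixedPoints (syl P) {v : V // Q v = 0}) =
      Nat.card {v : fx (syl P) // Q (v : V) = 0} := by
    refine Nat.card_congr
      { toFun := fun v => ⟨⟨v.1.1, fun g hg => congrArg Subtype.val (v.2 ⟨g, hg⟩)⟩, v.1.2⟩
        invFun := fun v => ⟨⟨v.1.1, v.2⟩, fun g => Subtype.ext (v.1.2 _ g.2)⟩
        left_inv := fun v => rfl
        right_inv := fun v => rfl }
  rwa [h2] at h1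

/-- if the fixed space of a Sylow subgroup has dimension `2 f`, the number of nonzero singular vectors is prime to `p` -/
theorem not_dvd_sing (hp2 : p ≠ 2) (h : Typ Q w ε) {f : ℕ} (hf : 0 < f)
    (he : orderOf (Nat.card F : ZMod p) = 2 * f)
    (P : Sylow p (O Q)) (hc : (Nat.card (syl P) : F) ≠ 0) (hd : finrank F (fx (syl P)) = 2 * f) :
    ¬ p ∣ (Nat.card F ^ w - 1) * (Nat.card F ^ (w - 1 + ε) + 1) := by
  intro hdvd
  have hq : 0 < Nat.card F := Nat.card_pos
  have h1 := card_sing_modEq P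
  rw [h.card] at h1
  have hnd : Nondeg (Q.comp (fx (syl P)).subtype) := by
    intro x hx
    apply Subtype.ext
    apply nondeg_fx h.nondeg (syl_le P) hc x.2
    intro y hy
    exact hx ⟨y, hy⟩
  rcases normal_form _ hnd rfl with ⟨k, hk, hs⟩ | ⟨k, hk, hs⟩ | ⟨k, hk, a, b, hab, hs⟩
  · omega
  · obtain rfl : k = f := by omega
    -- the number of singular vectors of the fixed space
    have h2 : Nat.card {v : fx (syl P) // Q (v : V) = 0} = (Nat.card F ^ k - 1) * (Nat.card F ^ (k - 1) + 1) + 1 := by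
      have h3 := (typ_plus (F := F) (m := k) hf).card
      rw [add_zero] at h3
      rw [← h3]
      obtain ⟨c, hc0, j, hj⟩ := hs
      refine Nat.card_congr (Equiv.subtypeEquiv j.symm.toEquiv fun v => ?_)
      obtain ⟨x, rfl⟩ := j.surjective v
      have h4 : Q (j x : V) = c * quadFormPlus k F x := hj x
      have h5 : j.symm.toEquiv (j x) = x := j.symm_apply_apply x
      rw [h5, h4, coe_plusForm, mul_eq_zero]
      exact ⟨fun h => h.resolve_left hc0, Or.inr⟩
    rw [h2] at h1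
    have h6 : (Nat.card F ^ w - 1) * (Nat.card F ^ (w - 1 + ε) + 1) + 1 ≡ 0 + 1 [MOD p] :=
      Nat.ModEq.add_right 1 ((Nat.modEq_zero_iff_dvd).2 hdvd)
    have h7 := (h1.symm.trans h6).add_right_cancel' 1
    rw [Nat.modEq_zero_iff_dvd, hp.out.dvd_mul] at h7
    rcases h7 with h7 | h7
    · rw [H31.BR.Arith.dvd_sub_one hq, he] at h7
      have := Nat.le_of_dvd hf h7
      omega
    · rcases Nat.eq_zero_or_pos (k - 1) with h8 | h8
      · rw [h8, pow_zero] at h7
        have := (Nat.prime_dvd_prime_iff_eq hp.out Nat.prime_two).1 h7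
        exact hp2 this
      · rw [H31.BR.Arith.dvd_add_one] at h7
        have h9 : (Nat.card F : ZMod p) ^ (2 * (k - 1)) = 1 := by
          rw [mul_comm, pow_mul, h7]
          ring
        have h10 := Nat.le_of_dvd (by omega) (orderOf_dvd_of_pow_eq_one h9)
        omega
  · have h2 := not_dvd_of_sim P (Q' := minusForm k F a b) (nondeg_minusForm k F a b hab) (by rwa [coe_minusForm])
    apply h2
    have h3 := S0288.result (F := F) (q := Nat.card F) (Nat.card_eq_fintype_card.symm) (k + 1) (by omega) a b hab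
    rw [Nat.add_sub_cancel] at h3
    rw [coe_minusForm, h3]
    refine Dvd.dvd.mul_right (Dvd.dvd.mul_left ?_ _) _
    have h4 := H31.BR.Arith.dvd_add_one_of (p := p) he hf (t := 1) odd_one
    rw [one_mul] at h4
    rwa [show k + 1 = f by omega]

end Sylow

section Cover

variable {F : Type} [Field F] [Fintype F] {ι κ : Type} [Fintype ι] [DecidableEq ι] [Fintype κ] [DecidableEq κ]

/-- the data of the unitary type: `POmega F Q'` is a quotient of a subgroup of `POmega F Q` by a `p'`-group, and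
`Omega F Q'` has a `p`-subgroup without fixed vectors and without invariant totally singular subspaces -/
structure Cover (p : ℕ) (Q : QuadraticForm F (ι → F)) (Q' : QuadraticForm F (κ → F)) : Prop where
  hom : ∃ φ : Omega F ⇑Q' →* POmega F ⇑Q, φ.ker ≤ Subgroup.center (Omega F ⇑Q')
  sub : ∃ (H : Subgroup (POmega F ⇑Q)) (π : H →* POmega F ⇑Q'), Function.Surjective π ∧ ¬ p ∣ Nat.card π.ker
  grp : ∃ D : Subgroup (Omega F ⇑Q'), IsPGroup p D ∧
    (∀ U : Submodule F (κ → F), (∀ d ∈ D, ∀ v ∈ U, omRho Q' d v ∈ U) → (quadPol Q').TI U → U = ⊥) ∧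
    ∀ v, (∀ d ∈ D, omRho Q' d v = v) → v = 0

variable {Q : QuadraticForm F (ι → F)} {Q' : QuadraticForm F (κ → F)} {w ε : ℕ} {p : ℕ} [hp : Fact p.Prime]

/-- the homomorphism `Omega F Q' →* Omega F Q` of an embedding -/
noncomputable def emb (hG : Good Q) (hG' : Good Q') (e : Emb Q Q') : Omega F ⇑Q' →* Omega F ⇑Q :=
  (MonoidHom.ofInjective (omRho_injective Q)).symm.toMonoidHom.comp
    ((e.ext.comp (omRho Q')).codRestrict (omRho Q).range (fun d => by
      rw [omRho_range_E hG]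
      exact e.ext_mem_E (omRho_mem_E hG' d)))

theorem omRho_emb (hG : Good Q) (hG' : Good Q') (e : Emb Q Q') (d : Omega F ⇑Q') :
    omRho Q (emb hG hG' e d) = e.ext (omRho Q' d) := by
  have h1 := MonoidHom.apply_ofInjective_symm (omRho_injective Q)
    (((e.ext.comp (omRho Q')).codRestrict (omRho Q).range (fun d => by
      rw [omRho_range_E hG]
      exact e.ext_mem_E (omRho_mem_E hG' d))) d)
  exact h1

theorem emb_injective (hG : Good Q) (hG' : Good Q') (e : Emb Q Q') : Function.Injective (emb hG hG' e) := by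
  intro a b hab
  apply omRho_injective Q'
  apply e.ext_injective
  rw [← omRho_emb hG hG', ← omRho_emb hG hG', hab]

theorem exists_sub {G K : Type*} [Group G] [Group K] [Finite K] (hp2 : p ≠ 2) (φ : G →* K)
    (hφ : φ.ker ≤ Subgroup.center G) (hsq : ∀ z ∈ Subgroup.center G, z * z = 1) :
    ∃ (H : Subgroup K) (π : H →* G ⧸ Subgroup.center G), Function.Surjective π ∧ ¬ p ∣ Nat.card π.ker := by
  have hs := φ.rangeRestrict_surjective
  let π : φ.range →* G ⧸ Subgroup.center G := φ.rangeRestrict.liftOfSurjective hs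
    ⟨QuotientGroup.mk' (Subgroup.center G), by rw [MonoidHom.ker_rangeRestrict, QuotientGroup.ker_mk']; exact hφ⟩
  have hπ : ∀ g, π (φ.rangeRestrict g) = QuotientGroup.mk' (Subgroup.center G) g := fun g =>
    MonoidHom.liftOfRightInverse_comp_apply _ _ _ _ g
  refine ⟨φ.range, π, ?_, ?_⟩
  · intro x
    obtain ⟨g, rfl⟩ := QuotientGroup.mk'_surjective _ x
    exact ⟨_, hπ g⟩
  · refine not_dvd_of_sq hp2 ?_
    rintro ⟨x, hx⟩
    obtain ⟨g, rfl⟩ := hs x
    rw [MonoidHom.mem_ker, hπ, QuotientGroup.mk'_apply, QuotientGroup.eq_one_iff] at hx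
    apply Subtype.ext
    show φ.rangeRestrict g * φ.rangeRestrict g = 1
    rw [← MonoidHom.map_mul, hsq g hx, MonoidHom.map_one]

theorem cover_of_sim (hp2 : p ≠ 2) (h : Typ Q w ε) (hG : Good Q) (hG' : Good Q') {f : ℕ} (hf : 0 < f)
    (he : orderOf (Nat.card F : ZMod p) = 2 * f) (P : Sylow p (O Q)) (hc : (Nat.card (syl P) : F) ≠ 0)
    (hs : Sim (Q.comp (mv Q (syl P)).subtype) ⇑Q') : Cover p Q Q' := by
  obtain ⟨c, hc0, j, hj⟩ := hs
  obtain ⟨e, hej⟩ : ∃ e : Emb Q Q', ∀ x, e.j x = (j x : ι → F) :=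
    ⟨ofLin ((mv Q (syl P)).subtype ∘ₗ j.toLinearMap) c hc0 hj hG'.nondeg, fun _ => rfl⟩
  have hker : ((QuotientGroup.mk' (Subgroup.center (Omega F ⇑Q))).comp (emb hG hG' e)).ker ≤
      Subgroup.center (Omega F ⇑Q') := by
    intro d hd
    rw [MonoidHom.mem_ker, MonoidHom.comp_apply, QuotientGroup.mk'_apply, QuotientGroup.eq_one_iff,
      Subgroup.mem_center_iff] at hd
    rw [Subgroup.mem_center_iff]
    intro d'
    apply emb_injective hG hG' e
    rw [MonoidHom.map_mul, MonoidHom.map_mul]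
    exact hd _
  have hfin : Finite (POmega F ⇑Q) := inferInstance
  refine ⟨⟨_, hker⟩, exists_sub hp2 _ hker fun z hz => center_sq hG' hz, ?_⟩
  -- the group
  let D : Subgroup (Omega F ⇑Q') :=
    { carrier := {d | ∃ g ∈ syl P, ∀ x, g (e.j x) = e.j (omRho Q' d x)}
      mul_mem' := by
        rintro a b ⟨g, hg, h1⟩ ⟨g', hg', h1'⟩
        refine ⟨g * g', (syl P).mul_mem hg hg', fun x => ?_⟩
        show g (g' (e.j x)) = _
        rw [h1', h1, MonoidHom.map_mul]
        rfl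
      one_mem' := ⟨1, (syl P).one_mem, fun x => by rw [MonoidHom.map_one]; rfl⟩
      inv_mem' := by
        rintro a ⟨g, hg, h1⟩
        refine ⟨g⁻¹, (syl P).inv_mem hg, fun x => ?_⟩
        apply g.injective
        rw [h1]
        have h2 : g (g⁻¹ (e.j x)) = e.j x := LinearEquiv.apply_symm_apply g _
        have h3 : omRho Q' a (omRho Q' a⁻¹ x) = x := by
          show (omRho Q' a * omRho Q' a⁻¹) x = x
          rw [← MonoidHom.map_mul, mul_inv_cancel, MonoidHom.map_one]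
          rfl
        rw [h2, h3] }
  have hD : ∀ g ∈ syl P, ∃ d ∈ D, ∀ x, g (e.j x) = e.j (omRho Q' d x) := by
    intro g hg
    have hmap : (mv Q (syl P)).map (g : (ι → F) →ₗ[F] (ι → F)) = mv Q (syl P) := by
      apply map_eq_of_le
      rintro _ ⟨x, hx, rfl⟩
      exact map_mem_mv (syl_le P) hg hx
    obtain ⟨g', hg'⟩ : ∃ g' : (κ → F) ≃ₗ[F] (κ → F), ∀ x, g (e.j x) = e.j (g' x) := by
      refine ⟨j.trans ((g.ofSubmodules _ _ hmap).trans j.symm), fun x => ?_⟩
      rw [hej, hej, LinearEquiv.trans_apply, LinearEquiv.trans_apply, LinearEquiv.apply_symm_apply,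
        LinearEquiv.ofSubmodules_apply]
    have hgO : g' ∈ O Q' := by
      intro x
      have h1 : Q (g (e.j x)) = Q (e.j x) := mem_O.1 (syl_le P hg) _
      rw [hg', e.hQ, e.hQ] at h1
      exact mul_left_cancel₀ e.hc h1
    have hpow : ∀ (n : ℕ) x, (g ^ n) (e.j x) = e.j ((g' ^ n) x) := by
      intro n
      induction n with
      | zero => intro x; rfl
      | succ n ih =>
        intro x
        rw [pow_succ, pow_succ]
        show (g ^ n) (g (e.j x)) = e.j ((g' ^ n) (g' x))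
        rw [hg', ih]
    obtain ⟨k, hk⟩ := syl_isPGroup P ⟨g, hg⟩
    have hk' : g ^ p ^ k = 1 := congrArg Subtype.val hk
    have hk2 : g' ^ p ^ k = 1 := by
      ext1 x
      apply e.j_injective
      rw [← hpow, hk']
      rfl
    have hodd : Odd (p ^ k) := (hp.out.odd_of_ne_two hp2).pow
    obtain ⟨s, hs⟩ := hodd
    have hE : g' ∈ E Q' := by
      have h1 : g' = g' ^ (s + 1) * g' ^ (s + 1) := by
        rw [← pow_add, show s + 1 + (s + 1) = p ^ k + 1 by omega, pow_succ, hk2, one_mul]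
      rw [h1]
      exact sq_mem_E hG' ((O Q').pow_mem hgO _)
    obtain ⟨d, hd⟩ := exists_om hG' hE
    have h2 : ∀ x, g (e.j x) = e.j (omRho Q' d x) := fun x => by rw [hd, hg']
    exact ⟨d, ⟨g, hg, h2⟩, h2⟩
  refine ⟨D, ?_, ?_, ?_⟩
  · rintro ⟨d, g, hg, hgd⟩
    obtain ⟨k, hk⟩ := syl_isPGroup P ⟨g, hg⟩
    have hk' : g ^ p ^ k = 1 := congrArg Subtype.val hk
    refine ⟨k, Subtype.ext ?_⟩
    apply omRho_injective Q'
    have hpow : ∀ (n : ℕ) x, (g ^ n) (e.j x) = e.j (omRho Q' (d ^ n) x) := by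
      intro n
      induction n with
      | zero => intro x; rw [pow_zero, pow_zero, MonoidHom.map_one]; rfl
      | succ n ih =>
        intro x
        rw [pow_succ, pow_succ, MonoidHom.map_mul]
        show (g ^ n) (g (e.j x)) = e.j (omRho Q' (d ^ n) (omRho Q' d x))
        rw [hgd, ih]
    ext1 x
    apply e.j_injective
    show e.j (omRho Q' (d ^ p ^ k) x) = e.j (omRho Q' 1 x)
    rw [← hpow, hk', MonoidHom.map_one]
    rfl
  · intro U hU hTI
    have h1 : U.map e.j = ⊥ := by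
      have hsub : ∀ v ∈ U.map e.j, v ∈ mv Q (syl P) := by
        rintro _ ⟨x, -, rfl⟩
        rw [hej]
        exact (j x).2
      refine no_ti h hf he P ?_ ?_ ?_
      · refine ⟨?_, ?_⟩
        · rintro _ ⟨x, hx, rfl⟩
          have h2 : Q' x = 0 := hTI.1 x hx
          show Q (e.j x) = 0
          rw [e.hQ, h2, mul_zero]
        · rintro _ ⟨x, hx, rfl⟩ _ ⟨y, hy, rfl⟩
          have h2 : polar Q' x y = 0 := hTI.2 x hx y hy
          show polar Q (e.j x) (e.j y) = 0
          rw [e.polar_j, h2, mul_zero]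
      · rintro g hg _ ⟨x, hx, rfl⟩
        obtain ⟨d, hd, hd'⟩ := hD g hg
        rw [hd']
        exact ⟨_, hU d hd x hx, rfl⟩
      · intro v hv hfix
        exact eq_zero_of_fixed h.nondeg (syl_le P) hc (hsub v hv) hfix
    rw [Submodule.eq_bot_iff]
    intro x hx
    have h2 : e.j x ∈ U.map e.j := ⟨x, hx, rfl⟩
    rw [h1, Submodule.mem_bot] at h2
    apply e.j_injective
    rw [h2, map_zero]
  · intro v hv
    apply e.j_injective
    rw [map_zero]
    have h1 : e.j v ∈ mv Q (syl P) := by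
      rw [hej]
      exact (j v).2
    refine eq_zero_of_fixed h.nondeg (syl_le P) hc h1 fun g hg => ?_
    obtain ⟨d, hd, hd'⟩ := hD g hg
    rw [hd', hv d hd]

theorem cast_ne_zero {n : ℕ} (hn : orderOf (Nat.card F : ZMod p) = n) (h0 : 0 < n) : (p : F) ≠ 0 := by
  intro h
  have h1 : ringChar F ∣ p := (ringChar.spec F p).1 h
  obtain ⟨k, hk, hk'⟩ := FiniteField.card F (ringChar F)
  have h2 := (Nat.prime_dvd_prime_iff_eq hk hp.out).1 h1
  have h3 : (Nat.card F : ZMod p) = 0 := by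
    rw [ZMod.natCast_eq_zero_iff, Nat.card_eq_fintype_card, hk', h2]
    exact dvd_pow_self p k.ne_zero
  rw [h3] at hn
  have h4 : (0 : ZMod p) ^ orderOf (0 : ZMod p) = 1 := pow_orderOf_eq_one 0
  rw [hn, zero_pow h0.ne'] at h4
  exact zero_ne_one h4

/-- **the unitary type** (`orderOf q = 2 f` modulo `p`) -/
theorem exists_unitary (hp2 : p ≠ 2) (h : Typ Q w ε) {f : ℕ} (hf : 0 < f)
    (he : orderOf (Nat.card F : ZMod p) = 2 * f) (hN : 2 * f + 8 ≤ Fintype.card ι) :
    (∃ m : ℕ, 4 ≤ m ∧ 2 * m ≤ Fintype.card ι ∧ Fintype.card ι ≤ 2 * m + 2 * f ∧ 2 * f ∣ 2 * m ∧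
      (Fintype.card ι = 2 * m + 2 * f → ¬ p ∣ (Nat.card F ^ w - 1) * (Nat.card F ^ (w - 1 + ε) + 1)) ∧
      Cover p Q (plusForm m F)) ∨
    (∃ (m : ℕ) (a b : F), (∀ z₁ z₂ : F, z₁ ^ 2 + a * z₁ * z₂ + b * z₂ ^ 2 = 0 → z₁ = 0 ∧ z₂ = 0) ∧
      4 ≤ m ∧ 2 * m ≤ Fintype.card ι ∧ Fintype.card ι ≤ 2 * m + 2 * f ∧ 2 * f ∣ 2 * m ∧
      (Fintype.card ι = 2 * m + 2 * f → ¬ p ∣ (Nat.card F ^ w - 1) * (Nat.card F ^ (w - 1 + ε) + 1)) ∧
      Cover p Q (minusForm (m - 1) F a b)) := by
  have hG : Good Q := h.good (by omega)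
  have hpF : (p : F) ≠ 0 := cast_ne_zero he (by omega)
  let P : Sylow p (O Q) := default
  have hc : (Nat.card (syl P) : F) ≠ 0 := by
    obtain ⟨n, hn⟩ := IsPGroup.iff_card.1 (syl_isPGroup P)
    rw [hn]
    push_cast
    exact pow_ne_zero n hpF
  have h1 := finrank_fx_le h.nondeg hf he P hc
  have h2 := finrank_pp h.nondeg (fx (syl P))
  rw [Module.finrank_fintype_fun_eq_card] at h2
  have h3 : 2 * f ∣ finrank F (mv Q (syl P)) := by
    rw [← he]
    exact order_dvd_finrank (syl_isPGroup P) _ (fun g hg v hv => map_mem_mv (syl_le P) hg hv)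
      fun v hv hfix => eq_zero_of_fixed h.nondeg (syl_le P) hc hv hfix
  have hnd : Nondeg (Q.comp (mv Q (syl P)).subtype) := by
    intro x hx
    apply Subtype.ext
    apply nondeg_mv h.nondeg (syl_le P) hc x.2
    intro y hy
    exact hx ⟨y, hy⟩
  have h4 : finrank F (mv Q (syl P)) + finrank F (fx (syl P)) = Fintype.card ι := h2
  have h5 : 2 ∣ finrank F (mv Q (syl P)) := (dvd_mul_right 2 f).trans h3
  rcases normal_form _ hnd rfl with ⟨k, hk, hs⟩ | ⟨k, hk, hs⟩ | ⟨k, hk, a, b, hab, hs⟩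
  · omega
  · left
    refine ⟨k, by (clear * - hN h1 h4 hk; omega), by omega, by omega, by rw [← hk]; exact h3,
      fun hcd => not_dvd_sing hp2 h hf he P hc (by (clear * - h4 hk hcd; omega)), ?_⟩
    refine cover_of_sim hp2 h hG ((typ_plus (F := F) (m := k) (by (clear * - hN h1 h4 hk; omega))).good ?_) hf he P hc (by rwa [coe_plusForm])
    rw [Fintype.card_sum, Fintype.card_fin]
    (clear * - hN h1 h4 hk; omega)
  · right
    refine ⟨k + 1, a, b, hab, by (clear * - hN h1 h4 hk; omega), by omega, by omega, by rw [show 2 * (k + 1) = 2 * k + 2 by ring, ← hk]; exact h3,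
      fun hcd => not_dvd_sing hp2 h hf he P hc (by (clear * - h4 hk hcd; omega)), ?_⟩
    have h6 : 5 ≤ Fintype.card ((Fin (k + 1 - 1) ⊕ Fin (k + 1 - 1)) ⊕ Fin 2) := by
      rw [Fintype.card_sum, Fintype.card_sum, Fintype.card_fin, Fintype.card_fin]
      (clear * - hN h1 h4 hk; omega)
    exact cover_of_sim hp2 h hG ((typ_minus F a b hab (m := k + 1 - 1) (by (clear * - hN h1 h4 hk; omega))).good h6) hf he P hc
      (by rw [coe_minusForm]; exact hs)

end Cover

end Cfsg.Agent.H410.BD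
end

-- part: H674/BD/NoD
section
/-!
# `p`-subgroups of `POmega F Q` normalizing an `r`-subgroup (helper674)

* `exists_lift` : `D ≤ G` a `p`-group; a Sylow `p`-subgroup of `G / Z(G)` normalizing a nontrivial `r`-subgroup gives
  a nontrivial `r`-subgroup of `G` normalized by `D`;
* `exists_inv` : `R ≠ 1` an `r`-subgroup of `Omega F Q` (`r` the characteristic) normalized by `D`: then `D` fixes a
  nonzero vector or a nonzero totally singular subspace;
* `noD` : the combination.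
-/

set_option autoImplicit false
set_option linter.unusedSectionVars false

namespace Cfsg.Agent.H674.BD.NoD

open Module QuadraticMap Cfsg Cfsg.Agent.H2.Pol Cfsg.Agent.H410.BR
open Cfsg.Agent.LieClassical Cfsg.Agent.LieClassical.OrthCore Cfsg.Agent.LieClassical.OrthTrans
  Cfsg.Agent.LieClassical.OrthFinite

section lift

variable {G : Type*} [Group G] [Finite G] {p r : ℕ} [hp : Fact p.Prime] [hr : Fact r.Prime]

/-- lifting an `r`-subgroup of `G / Z(G)` -/
theorem exists_lift_aux (V : Subgroup (G ⧸ Subgroup.center G)) (hV : IsPGroup r V) (hV1 : V ≠ ⊥) :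
    ∃ R : Subgroup G, IsPGroup r R ∧ R ≠ ⊥ ∧ ∀ x : G, x ∈ R ↔ x ∈ V.comap (QuotientGroup.mk' (Subgroup.center G)) ∧
      ∃ k : ℕ, x ^ (r ^ k) = 1 := by
  set π := QuotientGroup.mk' (Subgroup.center G) with hπ
  set V₁ := V.comap π with hV₁
  -- `V₁` is nilpotent
  have hnil : Group.IsNilpotent V₁ := by
    have hVn : Group.IsNilpotent V := hV.isNilpotent
    let f : V₁ →* V := (π.comp V₁.subtype).codRestrict V (fun x => x.2)
    refine Subgroup.isNilpotent_of_ker_le_center f ?_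
    intro x hx
    have h1 : π x.1 = 1 := congrArg Subtype.val (MonoidHom.mem_ker.1 hx)
    have h2 : x.1 ∈ Subgroup.center G := by
      rwa [hπ, QuotientGroup.mk'_apply, QuotientGroup.eq_one_iff] at h1
    rw [Subgroup.mem_center_iff]
    intro y
    exact Subtype.ext (Subgroup.mem_center_iff.1 h2 y.1)
  obtain ⟨P⟩ : Nonempty (Sylow r V₁) := inferInstance
  have hPn : (P : Subgroup V₁).Normal :=
    (Group.isNilpotent_of_finite_tfae (G := V₁).out 0 3 rfl rfl).1 hnil r hr P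
  refine ⟨(P : Subgroup V₁).map V₁.subtype, P.isPGroup'.map _, ?_, ?_⟩
  · intro hb
    rw [Subgroup.map_eq_bot_iff_of_injective _ (Subgroup.subtype_injective _)] at hb
    have h1 : ¬ r ∣ Nat.card V₁ := by
      have h2 := P.not_dvd_index
      rwa [hb, Subgroup.index_bot] at h2
    apply h1
    have h3 : Nat.card V ∣ Nat.card V₁ := by
      have h4 : V₁.map π = V := Subgroup.map_comap_eq_self_of_surjective (QuotientGroup.mk'_surjective _) V
      have h5 := Subgroup.card_map_dvd V₁ π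
      rwa [h4] at h5
    refine dvd_trans ?_ h3
    have : Nontrivial V := (Subgroup.nontrivial_iff_ne_bot _).2 hV1
    obtain ⟨k, hk0, hk⟩ := (IsPGroup.nontrivial_iff_card hV).1 this
    rw [hk]
    exact dvd_pow_self r hk0.ne'
  · intro x
    constructor
    · rintro ⟨y, hy, rfl⟩
      refine ⟨y.2, ?_⟩
      obtain ⟨k, hk⟩ := P.isPGroup' ⟨y, hy⟩
      refine ⟨k, ?_⟩
      have h1 := congrArg (fun z : (P : Subgroup V₁) => (z : V₁)) hk
      have h2 : y ^ r ^ k = 1 := h1
      show (y : G) ^ r ^ k = 1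
      rw [← Subgroup.coe_pow, h2, Subgroup.coe_one]
    · rintro ⟨hx, k, hk⟩
      set y : V₁ := ⟨x, hx⟩ with hy
      have h1 : IsPGroup r (Subgroup.zpowers y) := by
        refine IsPGroup.of_card_dvd_pow (n := k) ?_
        rw [Nat.card_zpowers]
        apply orderOf_dvd_of_pow_eq_one
        apply Subtype.ext
        exact hk
      obtain ⟨P', hP'⟩ := h1.exists_le_sylow
      have h2 : P' = P := by
        have := Sylow.unique_of_normal P hPn
        exact Subsingleton.elim _ _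
      refine ⟨y, ?_, rfl⟩
      rw [← h2]
      exact hP' (Subgroup.mem_zpowers y)

theorem exists_lift {D : Subgroup G} (hD : IsPGroup p D) (D' : Sylow p (G ⧸ Subgroup.center G))
    (V : Subgroup (G ⧸ Subgroup.center G)) (hV : IsPGroup r V) (hV1 : V ≠ ⊥)
    (hDV : (D' : Subgroup (G ⧸ Subgroup.center G)) ≤ Subgroup.normalizer (V : Set (G ⧸ Subgroup.center G))) :
    ∃ R : Subgroup G, IsPGroup r R ∧ R ≠ ⊥ ∧ D ≤ Subgroup.normalizer (R : Set G) := by
  set π := QuotientGroup.mk' (Subgroup.center G) with hπ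
  -- `D̄` is conjugate into `D'`
  obtain ⟨P, hP⟩ := (hD.map π).exists_le_sylow
  obtain ⟨g, hg⟩ := MulAction.exists_smul_eq (G ⧸ Subgroup.center G) D' P
  obtain ⟨R, h1, h2, h3⟩ := exists_lift_aux (r := r) (V.map (MulAut.conj g).toMonoidHom) (hV.map _)
    (by
      rw [Ne, Subgroup.map_eq_bot_iff_of_injective _ (MulAut.conj g).injective]
      exact hV1)
  refine ⟨R, h1, h2, ?_⟩
  -- elements of `D` normalize the conjugate of `V`
  have key : ∀ d ∈ D, ∀ x, x ∈ V.map (MulAut.conj g).toMonoidHom →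
      π d * x * (π d)⁻¹ ∈ V.map (MulAut.conj g).toMonoidHom := by
    rintro d hd _ ⟨v, hv, rfl⟩
    have h4 : π d ∈ (P : Subgroup _) := hP (Subgroup.mem_map_of_mem π hd)
    rw [← hg] at h4
    obtain ⟨e, he, he'⟩ := h4
    have h5 : g * e * g⁻¹ = π d := he'
    have h6 : e * v * e⁻¹ ∈ V := (Subgroup.mem_normalizer_iff.1 (hDV he) v).1 hv
    refine ⟨e * v * e⁻¹, h6, ?_⟩
    rw [← h5]
    show g * (e * v * e⁻¹) * g⁻¹ = g * e * g⁻¹ * (g * v * g⁻¹) * (g * e * g⁻¹)⁻¹
    group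
  have key2 : ∀ d ∈ D, ∀ x ∈ R, d * x * d⁻¹ ∈ R := by
    intro d hd x hx
    rw [h3] at hx ⊢
    obtain ⟨hx1, k, hk⟩ := hx
    refine ⟨?_, k, ?_⟩
    · have h4 := key d hd _ hx1
      rwa [← MonoidHom.map_inv, ← MonoidHom.map_mul, ← MonoidHom.map_mul] at h4
    · rw [conj_pow, hk, mul_one, mul_inv_cancel]
  intro d hd
  rw [Subgroup.mem_normalizer_iff]
  intro x
  refine ⟨key2 d hd x, fun hx => ?_⟩
  have h4 := key2 d⁻¹ (D.inv_mem hd) _ hx
  have h5 : d⁻¹ * (d * x * d⁻¹) * d⁻¹⁻¹ = x := by group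
  rwa [h5] at h4

end lift

section geom

variable {F : Type*} [Field F] [Finite F] {ι : Type} [Fintype ι] [DecidableEq ι] {Q : QuadraticForm F (ι → F)}
  {r : ℕ} [hr : Fact r.Prime] [CharP F r]

theorem om_Q (hG : Good Q) (g : Cfsg.Omega F ⇑Q) (v : ι → F) : Q (omRho Q g v) = Q v :=
  mem_O.1 (E_le_O (omRho_mem_E hG g)) v

theorem om_polar (hG : Good Q) (g : Cfsg.Omega F ⇑Q) (v w : ι → F) :
    polar Q (omRho Q g v) (omRho Q g w) = polar Q v w :=
  polar_map (E_le_O (omRho_mem_E hG g)) v w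

/-- the fixed space -/
def fixS (R : Subgroup (Cfsg.Omega F ⇑Q)) : Submodule F (ι → F) where
  carrier := {v | ∀ g ∈ R, omRho Q g v = v}
  zero_mem' := fun g _ => map_zero _
  add_mem' := by
    intro a b ha hb g hg
    rw [map_add, ha g hg, hb g hg]
  smul_mem' := by
    intro c a ha g hg
    rw [map_smul, ha g hg]

/-- the commutator space -/
def comS (R : Subgroup (Cfsg.Omega F ⇑Q)) : Submodule F (ι → F) :=
  Submodule.span F {w | ∃ g ∈ R, ∃ v, w = omRho Q g v - v}

seal _root_.Finset.sum _root_.dotProduct in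
theorem fixS_inv {R : Subgroup (Cfsg.Omega F ⇑Q)} {d : Cfsg.Omega F ⇑Q}
    (hd : d ∈ Subgroup.normalizer (R : Set (Cfsg.Omega F ⇑Q))) {v : ι → F} (hv : v ∈ fixS R) :
    omRho Q d v ∈ fixS R := by
  intro g hg
  have h1 : d⁻¹ * g * d ∈ R := by
    have h2 := (Subgroup.mem_normalizer_iff.1 (Subgroup.inv_mem _ hd) g).1 hg
    rwa [inv_inv] at h2
  have h3 := hv _ h1
  have h4 : g * d = d * (d⁻¹ * g * d) := by group
  rw [← LinearEquiv.mul_apply, ← MonoidHom.map_mul, h4, MonoidHom.map_mul, LinearEquiv.mul_apply, h3]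

theorem comS_inv {R : Subgroup (Cfsg.Omega F ⇑Q)} {d : Cfsg.Omega F ⇑Q}
    (hd : d ∈ Subgroup.normalizer (R : Set (Cfsg.Omega F ⇑Q))) {v : ι → F} (hv : v ∈ comS R) :
    omRho Q d v ∈ comS R := by
  unfold comS at hv
  induction hv using Submodule.span_induction with
  | mem x hx =>
    obtain ⟨g, hg, v, rfl⟩ := hx
    refine Submodule.subset_span ⟨d * g * d⁻¹, (Subgroup.mem_normalizer_iff.1 hd g).1 hg, omRho Q d v, ?_⟩
    have h4 : d * g * d⁻¹ * d = d * g := by group
    rw [map_sub, ← LinearEquiv.mul_apply, ← MonoidHom.map_mul, ← LinearEquiv.mul_apply, ← MonoidHom.map_mul, h4]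
  | zero => rw [map_zero]; exact Submodule.zero_mem _
  | add x y _ _ hx hy => rw [map_add]; exact Submodule.add_mem _ hx hy
  | smul a x _ hx => rw [map_smul]; exact Submodule.smul_mem _ _ hx

theorem fix_perp_com (hG : Good Q) {R : Subgroup (Cfsg.Omega F ⇑Q)} {u w : ι → F} (hu : u ∈ fixS R)
    (hw : w ∈ comS R) : polar Q u w = 0 := by
  unfold comS at hw
  induction hw using Submodule.span_induction with
  | mem x hx =>
    obtain ⟨g, hg, v, rfl⟩ := hx
    have h1 := om_polar hG g u v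
    rw [hu g hg] at h1
    rw [sub_eq_add_neg, polar_add_right, polar_neg_right, h1, add_neg_cancel]
  | zero => exact polar_zero_right Q u
  | add x y _ _ hx hy => rw [polar_add_right, hx, hy, add_zero]
  | smul a x _ hx => rw [polar_smul_right, hx, smul_zero]

theorem card_F_dvd : r ∣ Nat.card F := by
  have : Fintype F := Fintype.ofFinite F
  obtain ⟨n, -, hn⟩ := FiniteField.card F r
  rw [Nat.card_eq_fintype_card, hn]
  exact dvd_pow_self r n.ne_zero

/-- fixed vectors in the commutator space -/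
theorem exists_fix_com {R : Subgroup (Cfsg.Omega F ⇑Q)} (hR : IsPGroup r R) (hR1 : R ≠ ⊥) :
    ∃ u : ι → F, u ≠ 0 ∧ u ∈ fixS R ∧ u ∈ comS R := by
  have hW : comS R ≠ ⊥ := by
    intro h0
    apply hR1
    rw [eq_bot_iff]
    intro g hg
    rw [Subgroup.mem_bot]
    apply omRho_injective Q
    ext1 v
    have h1 : omRho Q g v - v ∈ comS R := Submodule.subset_span ⟨g, hg, v, rfl⟩
    rw [h0, Submodule.mem_bot, sub_eq_zero] at h1
    rw [h1, MonoidHom.map_one]
    rfl
  let act : MulAction R (comS R) :=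
    { smul := fun g w => ⟨omRho Q g.1 w.1, comS_inv (Subgroup.le_normalizer g.2) w.2⟩
      one_smul := fun w => Subtype.ext (by
        show omRho Q (1 : Cfsg.Omega F ⇑Q) w.1 = w.1
        rw [MonoidHom.map_one]; rfl)
      mul_smul := fun g h w => Subtype.ext (by
        show omRho Q (g.1 * h.1) w.1 = omRho Q g.1 (omRho Q h.1 w.1)
        rw [MonoidHom.map_mul]; rfl) }
  have hdvd : r ∣ Nat.card (comS R) := by
    rw [Module.natCard_eq_pow_finrank (K := F)]
    refine card_F_dvd.trans (dvd_pow_self _ ?_)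
    rw [Ne, Submodule.finrank_eq_zero]
    exact hW
  have h0 : (0 : comS R) ∈ MulAction.fixedPoints R (comS R) := fun g => Subtype.ext (map_zero _)
  obtain ⟨b, hb, hb0⟩ := hR.exists_fixed_point_of_prime_dvd_card_of_fixed_point (comS R) hdvd h0
  refine ⟨b.1, ?_, ?_, b.2⟩
  · intro h
    exact hb0 (Subtype.ext h.symm)
  · intro g hg
    exact congrArg Subtype.val (hb ⟨g, hg⟩)

theorem exists_inv (hG : Good Q) {R D : Subgroup (Cfsg.Omega F ⇑Q)} (hR : IsPGroup r R) (hR1 : R ≠ ⊥)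
    (hDR : D ≤ Subgroup.normalizer (R : Set (Cfsg.Omega F ⇑Q))) :
    (∃ U : Submodule F (ι → F), U ≠ ⊥ ∧ (∀ g ∈ D, ∀ u ∈ U, omRho Q g u ∈ U) ∧ (quadPol Q).TI U) ∨
      ∃ v : ι → F, v ≠ 0 ∧ ∀ g ∈ D, omRho Q g v = v := by
  obtain ⟨u, hu0, hu1, hu2⟩ := exists_fix_com hR hR1
  -- the subspace of singular vectors of `fixS R ⊓ comS R`
  have hpol : ∀ x ∈ fixS R ⊓ comS R, ∀ y ∈ fixS R ⊓ comS R, polar Q x y = 0 := fun x hx y hy =>
    fix_perp_com hG hx.1 hy.2
  let U : Submodule F (ι → F) :=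
    { carrier := {x | x ∈ fixS R ⊓ comS R ∧ Q x = 0}
      zero_mem' := ⟨Submodule.zero_mem _, QuadraticMap.map_zero Q⟩
      add_mem' := by
        rintro a b ⟨ha, ha'⟩ ⟨hb, hb'⟩
        refine ⟨Submodule.add_mem _ ha hb, ?_⟩
        show Q (a + b) = 0
        rw [QuadraticMap.map_add Q, ha', hb', hpol a ha b hb, add_zero, add_zero]
      smul_mem' := by
        rintro c a ⟨ha, ha'⟩
        refine ⟨Submodule.smul_mem _ _ ha, ?_⟩
        show Q (c • a) = 0
        rw [QuadraticMap.map_smul, ha', smul_zero] }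
  have hUi : ∀ g ∈ D, ∀ u ∈ U, omRho Q g u ∈ U := by
    rintro g hg x ⟨⟨hx1, hx2⟩, hx3⟩
    exact ⟨⟨fixS_inv (hDR hg) hx1, comS_inv (hDR hg) hx2⟩, (om_Q hG g x).trans hx3⟩
  by_cases hU : U = ⊥
  · right
    refine ⟨u, hu0, fun g hg => ?_⟩
    have h1 : omRho Q g u ∈ fixS R ⊓ comS R := ⟨fixS_inv (hDR hg) hu1, comS_inv (hDR hg) hu2⟩
    have h2 : u ∈ fixS R ⊓ comS R := ⟨hu1, hu2⟩
    have h3 : omRho Q g u - u ∈ U := by
      refine ⟨Submodule.sub_mem _ h1 h2, ?_⟩
      show Q (omRho Q g u - u) = 0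
      have h4 := hpol _ h1 _ h2
      have h5 := hpol _ h2 _ h2
      rw [sub_eq_add_neg, QuadraticMap.map_add Q, polar_neg_right, h4, neg_zero, add_zero, QuadraticMap.map_neg,
        om_Q hG]
      rw [polar_self] at h5
      rw [← h5, two_nsmul]
    rw [hU, Submodule.mem_bot, sub_eq_zero] at h3
    exact h3
  · left
    exact ⟨U, hU, hUi, fun x hx => hx.2, fun x hx y hy => hpol x hx.1 y hy.1⟩

seal _root_.Finset.sum _root_.dotProduct in
/-- **No Sylow `p`-subgroup of `POmega F Q` normalizes a nontrivial `r`-subgroup.** -/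
theorem noD (hG : Good Q) {p : ℕ} [hp : Fact p.Prime] {D : Subgroup (Cfsg.Omega F ⇑Q)} (hD : IsPGroup p D)
    (hD1 : ∀ U : Submodule F (ι → F), (∀ g ∈ D, ∀ u ∈ U, omRho Q g u ∈ U) → (quadPol Q).TI U → U = ⊥)
    (hD2 : ∀ v : ι → F, (∀ g ∈ D, omRho Q g v = v) → v = 0)
    (D' : Sylow p (Cfsg.POmega F ⇑Q)) (V : Subgroup (Cfsg.POmega F ⇑Q)) (hV : IsPGroup r V) (hV1 : V ≠ ⊥) :
    ¬ (D' : Subgroup (Cfsg.POmega F ⇑Q)) ≤ Subgroup.normalizer (V : Set (Cfsg.POmega F ⇑Q)) := by
  intro hle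
  obtain ⟨R, h1, h2, h3⟩ := exists_lift (r := r) hD D' V hV hV1 hle
  rcases exists_inv hG h1 h2 h3 with ⟨U, hU, hUi, hUT⟩ | ⟨v, hv, hvi⟩
  · exact hU (hD1 U hUi hUT)
  · exact hv (hD2 v hvi)

end geom

end Cfsg.Agent.H674.BD.NoD
end

-- part: H674/BD/StD
section
/-!
# The Steinberg character in the principal `p`-block: the criterion with `r`-subgroups (helper674)

* `exists_st_of_noD` : `S` finite with a root group datum of characteristic `r`, `p ≠ r`, no Sylow `p`-subgroup of `S`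
  normalizes a nontrivial `r`-subgroup; then a character of degree `|S|_r` (Steinberg) lies in the principal `p`-block.
-/

set_option autoImplicit false
set_option linter.unusedSectionVars false

namespace Cfsg.Agent.H674.BD.StD

open Cfsg CoxeterSystem Cfsg.Agent.ChevalleyStructure.CoxeterGeom Cfsg.Agent.Tits.Roots Cfsg.Agent.Tits.Core
  Cfsg.Agent.Tits.Exchange Cfsg.Agent.Nodes.Reps Cfsg.Agent.Nodes.BNOf Cfsg.Agent.Nodes.StabComb
  Cfsg.Agent.Nodes.Bruhat Cfsg.Agent.Nodes.OppDec Cfsg.Agent.Nodes.LeviDec Cfsg.Agent.Nodes.NormalForm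
  Cfsg.Agent.KFacts.RgdOpp Cfsg.Agent.KFacts.RgdAut Cfsg.Agent.KFacts.RgdDiag Cfsg.Agent.H554.RG

universe u

variable {I W : Type*} {S : Type u} [Fintype I] [DecidableEq I] [Group W] [Group S] {M : CoxeterMatrix I}
  {cs : CoxeterSystem M W} {A : I → I → ℤ} {h : IsCartan M A} {r : ℕ} {T : Subgroup S} {n : I → S}
  {X : (I → ℤ) → Subgroup S} (R : RGD cs h r T n X)

include R in
/-- the criterion for a root group datum -/
theorem exists_st_rgd [Finite W] [Finite S] [hr : Fact r.Prime] (hG : GG cs h T X = ⊤) {p : ℕ} [hp : Fact p.Prime]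
    (hpr : p ≠ r) {M : Ideal AlgInt} (hM : IsPModular p M)
    (hD : ∀ (D : Sylow p S) (V : Subgroup S), IsPGroup r V → V ≠ ⊥ →
      ¬ (D : Subgroup S) ≤ Subgroup.normalizer (V : Set S)) :
    ∃ χ : IrrCharacter S, χ ∈ principalBlock M S ∧ charDegree (χ : S → ℂ) = ordProj[r] (Nat.card S) := by
  obtain ⟨Q, hQ⟩ := exists_sylow R hG
  have key : ∀ J : Finset I, J ≠ Finset.univ → p ∣ (PJ cs h T X (J : Set I)).index := by
    intro J hJ
    by_contra hpi
    obtain ⟨j, hj⟩ : ∃ j, j ∉ J := by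
      by_contra hcon
      push Not at hcon
      exact hJ (Finset.eq_univ_iff_forall.2 hcon)
    -- a Sylow `p`-subgroup of `P_J` is a Sylow `p`-subgroup of `S`
    obtain ⟨D⟩ : Nonempty (Sylow p ↥(PJ cs h T X (J : Set I))) := inferInstance
    obtain ⟨D', hD'⟩ : ∃ D' : Sylow p S, (D' : Subgroup S) = (D : Subgroup _).map (PJ cs h T X (J : Set I)).subtype := by
      have hcard : Nat.card ((D : Subgroup _).map (PJ cs h T X (J : Set I)).subtype) =
          p ^ (Nat.card S).factorization p := by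
        rw [Subgroup.card_map_of_injective (Subgroup.subtype_injective _), D.card_eq_multiplicity]
        congr 1
        have h5 := Subgroup.card_mul_index (PJ cs h T X (J : Set I))
        rw [← h5, Nat.factorization_mul Nat.card_pos.ne' Subgroup.index_ne_zero_of_finite, Finsupp.add_apply,
          Nat.factorization_eq_zero_of_not_dvd hpi, add_zero]
      exact ⟨Sylow.ofCard _ hcard, rfl⟩
    have hle : (D' : Subgroup S) ≤ Subgroup.normalizer (VJ cs h X (J : Set I) : Set S) := by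
      rw [hD']
      exact (Subgroup.map_subtype_le _).trans (PJ_le_normalizer_VJ R _)
    refine hD D' (VJ cs h X (J : Set I)) ?_ ?_ hle
    · have h6 : VJ cs h X (J : Set I) ≤ (Q : Subgroup S) := by
        rw [hQ]
        exact VJ_le_U _
      exact Q.isPGroup'.to_le h6
    · intro hb
      obtain ⟨u, hu, hu1⟩ := exists_ne_one R j
      apply hu1
      have h3 : u ∈ VJ cs h X (J : Set I) := RGD.le_Sup (S := NotJ cs h (J : Set I)) (sr_mem_NotJ (by simpa using hj)) hu
      rw [hb] at h3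
      simpa using h3
  obtain ⟨χ, h1, -, h3, -⟩ := H116.RatB0.exists_st R hG hpr hM (fun J hJ => Or.inl (key J hJ))
  refine ⟨χ, h1, ?_⟩
  rw [h3, ← hQ, Q.card_eq_multiplicity]

/-- **The Steinberg character, the criterion with `r`-subgroups.** -/
theorem exists_st_of_noD {S : Type u} [Group S] [Finite S] {r : ℕ} [hr : Fact r.Prime]
    (hR : Nodes.RGDChev.HasRGD r S) {p : ℕ} [hp : Fact p.Prime] (hpr : p ≠ r) {M : Ideal AlgInt} (hM : IsPModular p M)
    (hD : ∀ (D : Sylow p S) (V : Subgroup S), IsPGroup r V → V ≠ ⊥ →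
      ¬ (D : Subgroup S) ≤ Subgroup.normalizer (V : Set S)) :
    ∃ χ : IrrCharacter S, χ ∈ principalBlock M S ∧ charDegree (χ : S → ℂ) = ordProj[r] (Nat.card S) := by
  obtain ⟨l, M', A, h, T, n, X, hW, R, hX⟩ := hR
  exact exists_st_rgd R (KFacts.RgdFilt.GG_eq_top hX) hpr hM hD

end Cfsg.Agent.H674.BD.StD
end

-- part: H749/Bd/StOne
section
/-!
# The Steinberg character in the principal `p`-block, `p` odd, `p ∣ q - 1` (helper749, for S4932)

* `StIn p r S` : an integer valued irreducible character of degree `|S|_r` in the principal `p`-block (for every maximal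
  ideal);
* `stIn_of`, `stIn_of_cent` : from a root group datum;
* `stIn_psp`, `stIn_psu`, `stIn_oodd`, `stIn_ominus`, `stIn_oplus`.

(The proofs are those of helper116, helper296, helper484, helper314 for the rows of S4891, with the degree kept.)
-/

set_option autoImplicit false
set_option linter.unusedSectionVars false

namespace Cfsg.Agent.H749.Bd

open Cfsg

universe u

/-- The Steinberg character lies in the principal `p`-block. -/
def StIn (p r : ℕ) (S : Type u) [Group S] : Prop :=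
  ∃ χ : IrrCharacter S, (∀ M : Ideal AlgInt, IsPModular p M → χ ∈ principalBlock M S) ∧
    (∀ g, ∃ z : ℤ, (χ : S → ℂ) g = z) ∧ charDegree (χ : S → ℂ) = r ^ (Nat.card S).factorization r

section rgd

open CoxeterSystem Cfsg.Agent.ChevalleyStructure.CoxeterGeom Cfsg.Agent.Tits.Roots Cfsg.Agent.Tits.Core
  Cfsg.Agent.Tits.Exchange Cfsg.Agent.Nodes.Reps Cfsg.Agent.Nodes.BNOf Cfsg.Agent.Nodes.StabComb
  Cfsg.Agent.Nodes.Bruhat Cfsg.Agent.Nodes.OppDec Cfsg.Agent.Nodes.LeviDec Cfsg.Agent.Nodes.NormalForm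
  Cfsg.Agent.KFacts.RgdOpp Cfsg.Agent.KFacts.RgdAut Cfsg.Agent.KFacts.RgdDiag Cfsg.Agent.H554.RG
open Cfsg.Agent.H116.RatB0

variable {I W : Type*} {S : Type u} [Fintype I] [DecidableEq I] [Group W] [Group S] {M : CoxeterMatrix I}
  {cs : CoxeterSystem M W} {A : I → I → ℤ} {h : IsCartan M A} {r : ℕ} {T : Subgroup S} {n : I → S}
  {X : (I → ℤ) → Subgroup S} (R : RGD cs h r T n X)

include R

/-- from the condition on the parabolic subgroups -/
theorem stIn_of [Finite W] [Finite S] [hr : Fact r.Prime] (hG : GG cs h T X = ⊤) {p : ℕ}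
    [hp : Fact p.Prime] (hpr : p ≠ r) (hJ : ∀ J : Finset I, J ≠ Finset.univ → p ∣ (PJ cs h T X (J : Set I)).index ∨
      reg p (PJ cs h T X (J : Set I)) ≡ reg p (⊤ : Subgroup S) [MOD p]) : StIn p r S := by
  have := Fintype.ofFinite S
  obtain ⟨M', hM⟩ := Blocks.Knorr.exists_isPModular p
  obtain ⟨χ, h1, h2, h3, -⟩ := exists_st R hG hpr hM hJ
  refine ⟨χ, fun M'' hM'' => (H893.Sd.mem_iff hM'' χ).2 ((H893.Sd.mem_iff hM χ).1 h1), h2, ?_⟩
  obtain ⟨Q, hQ⟩ := exists_sylow R hG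
  rw [h3, ← hQ]
  exact Q.card_eq_multiplicity

/-- **from torus elements** -/
theorem stIn_of_cent [Finite W] [Finite S] [hr : Fact r.Prime] (hG : GG cs h T X = ⊤) {p : ℕ}
    [hp : Fact p.Prime] (hpr : p ≠ r) {Q : Subgroup S} (hQ : IsPGroup p Q) (hQT : Q ≤ T)
    (hU : ∀ x, IsRoot cs h x → 0 ≤ x → ∀ u ∈ X x, (∀ q ∈ Q, q * u = u * q) → u = 1)
    (hW : ∀ (w : W) (k : S), Rp cs R.nsys w k → (∀ q ∈ Q, q * k = k * q) → w = 1) : StIn p r S :=
  stIn_of R hG hpr fun _ _ => Or.inr (reg_modEq_of_le hQ ((hQT.trans RGD.T_le_B).trans B_le_PJ)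
    ((cent_le_B R hG hQT hU hW).trans B_le_PJ))

end rgd

section model

open CoxeterSystem Cfsg.Agent.ChevalleyStructure.CoxeterGeom Cfsg.Agent.Tits.Roots
  Cfsg.Agent.Nodes.Comb Cfsg.Agent.Nodes.Reps Cfsg.Agent.Nodes.BNOf
  Cfsg.Agent.Nodes.RGDLib Cfsg.Agent.Nodes.TypeC
open Cfsg.Agent.Nodes Cfsg.Agent.Nodes.WittAll Cfsg.Agent.Nodes.WittU Cfsg.Agent.Nodes.WittInst
  Cfsg.Agent.Nodes.WittRoot
  Cfsg.Agent.TitsThree Cfsg.Agent.TitsThree.Siegel Cfsg.Agent.TitsThree.SiegelGen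
  Cfsg.Agent.TitsThree.WittFrame Cfsg.Agent.TitsThree.WBridge Cfsg.Agent.TitsThree.WittWeyl
  Cfsg.Agent.TitsThree.FrameCN Cfsg.Agent.TitsThree.LineBorel
open Cfsg.Agent.Nodes.WittRGD (Tor mem_Tor nn nn_mem_sup rg_sr rg_neg_sr mono_nn)
open Cfsg.Agent.Omega.ML.Ex.Lie2.SemiDat Cfsg.Agent.H742
open Cfsg.Agent.H519.Dl.WittTor (inv_apply_eq)
open Cfsg.Agent.H296.RI

variable {F : Type*} [Field F] {V : Type*} [AddCommGroup V] [Module F V] {H : HForm F V} {n : ℕ}
  {Fr : Frame H (Fin n)}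

variable {K : Type u} [Group K] (M : Model Fr K) {r : ℕ}

set_option maxHeartbeats 1600000 in
/-- a model on a Witt frame, `t σ(t)` of order `p`, `p` odd -/
theorem stIn_model (hA : AmbT Fr r M.I) [Finite V] [hr : Fact r.Prime] [CharP F r] {p0 : Fr.Adm} (hp0 : p0.c ≠ 0)
    (hn : 0 < n) [Finite K] {p : ℕ} [hp : Fact p.Prime] (hp2 : p ≠ 2) {t : F} (ht1 : (t * H.σ t) ^ p = 1)
    (ht2 : t * H.σ t ≠ 1) : StIn p r K := by
  have ht0 : t ≠ 0 := by
    rintro rfl
    rw [zero_mul, zero_pow hp.out.ne_zero] at ht1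
    exact zero_ne_one ht1
  have hodd : Odd p := hp.out.odd_of_ne_two hp2
  have ho : orderOf (t * H.σ t) = p := orderOf_eq_prime ht1 ht2
  have ht4 : (t * H.σ t) ^ 2 ≠ 1 := by
    intro h
    have h1 := orderOf_dvd_of_pow_eq_one h
    rw [ho, Nat.prime_dvd_prime_iff_eq hp.out Nat.prime_two] at h1
    exact hp2 h1
  have hpr : p ≠ r := by
    rintro rfl
    have h1 : (t * H.σ t - 1) ^ p = 0 := by
      rw [sub_pow_char, ht1, one_pow, sub_self]
    exact ht2 (sub_eq_zero.1 (pow_eq_zero_iff hp.out.ne_zero |>.1 h1))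
  set cs := (CoxeterMatrix.B n).toCoxeterSystem with hcs
  have hW : Finite (CoxeterMatrix.B n).Group := finite_W cs
  have : Nonempty (Fin n) := ⟨⟨0, hn⟩⟩
  have R := rgdC_model M hA hp0 cs
  set Q : Subgroup K := ((QQ hA.V0 M.I p).subgroupOf M.I).map M.φ with hQdef
  have hmem : ∀ a, M.φ ⟨dZ Fr a p0 t, dZ_mem M hA a p0 t⟩ ∈ Q := by
    intro a
    exact Subgroup.mem_map_of_mem _ (Subgroup.mem_subgroupOf.2 ⟨dZ_mem_Tor M hA hp0 ht0,
      fun v hv => dZ_V0 hp0 ht0 hA.V0 hv, dZ_pow hp0 ht0 hA.V0 ht1⟩)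
  refine stIn_of_cent R (KFacts.RgdFilt.GG_eq_top (WittModel.G1_eq_top M hn cs)) hpr (Q := Q) ?_ ?_ ?_ ?_
  · exact (isPGroup_QQ.comap_of_injective M.I.subtype M.I.subtype_injective).map M.φ
  · exact Subgroup.map_mono (fun x hx => hx.1)
  · intro x hx _ u hu hc
    obtain ⟨g, hg, h1, rfl⟩ := (WittModel.mem_X M).1 hu
    obtain ⟨a, b, hab, e⟩ := exists_of_isRoot cs hx
    rw [rg_eq Fr hab e] at h1
    rcases hab with h | rfl
    · rw [PG_ne Fr h] at h1
      obtain ⟨s, rfl⟩ := h1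
      have h2 := fpf_X M hA h hp0 ht0 ht2 (hc _ (hmem a))
      subst h2
      have h3 : (⟨Fr.X a b 0, hg⟩ : M.I) = 1 := Subtype.ext (Fr.X_zero _ _)
      rw [h3, MonoidHom.map_one]
    · rw [PG_self] at h1
      obtain ⟨s, rfl⟩ := h1
      have h2 := fpf_Z M hA hp0 ht0 ht2 ht4 (hc _ (hmem a))
      subst h2
      have h3 : (⟨Fr.Z a 1, hg⟩ : M.I) = 1 := Subtype.ext (Fr.Z_one _)
      rw [h3, MonoidHom.map_one]
  · intro w k hk hc
    obtain ⟨π, g, hg, hm, hrp, hneg, hee⟩ := exists_mono M hA hp0 cs w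
    obtain ⟨τ', hτ', hτ⟩ := hrp.unique hk
    obtain ⟨τ, hτI⟩ := τ'
    have hτT : τ ∈ Tor Fr M.I := Subgroup.mem_subgroupOf.1 hτ'
    have hk' : k = M.φ ⟨g * τ, mul_mem hg hτI⟩ := by
      have h1 : M.φ ⟨g * τ, mul_mem hg hτI⟩ = M.φ ⟨g, hg⟩ * M.φ ⟨τ, hτI⟩ := by
        rw [← MonoidHom.map_mul]
        rfl
      rw [h1, hτ, mul_inv_cancel_left]
    have hm' : Mono Fr (g * τ) π := hm.mul hτT.2
    -- the eigenvalues
    have hfix : ∀ i : Fin n, π (i, true) = (i, true) := by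
      intro i
      set a : Fin n × Bool := (i, true) with ha
      set d := dZ Fr a p0 t with hd
      set N := t * H.σ t with hN
      have hN0 : N ≠ 0 := by
        intro h0
        rw [h0, zero_pow hp.out.ne_zero] at ht1
        exact zero_ne_one ht1
      have hI : (g * τ)⁻¹ * d * (g * τ) * d⁻¹ ∈ M.I :=
        mul_mem (mul_mem (mul_mem (inv_mem (mul_mem hg hτI)) (dZ_mem M hA a p0 t)) (mul_mem hg hτI))
          (inv_mem (dZ_mem M hA a p0 t))
      have h1 : M.φ ⟨(g * τ)⁻¹ * d * (g * τ) * d⁻¹, hI⟩ = 1 := by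
        have h2 : (⟨(g * τ)⁻¹ * d * (g * τ) * d⁻¹, hI⟩ : M.I) = ⟨g * τ, mul_mem hg hτI⟩⁻¹ *
            ⟨d, dZ_mem M hA a p0 t⟩ * ⟨g * τ, mul_mem hg hτI⟩ * ⟨d, dZ_mem M hA a p0 t⟩⁻¹ := rfl
        rw [h2, MonoidHom.map_mul, MonoidHom.map_mul, MonoidHom.map_mul, MonoidHom.map_inv, MonoidHom.map_inv, ← hk', mul_assoc (k⁻¹), hc _ (hmem a), inv_mul_cancel_left,
          mul_inv_cancel]
      -- eigenvalues of `d`
      have hl : ∀ z : Fin n × Bool, ∃ m : ℤ, d (Fr.b z) = (N ^ m) • Fr.b z ∧ d (Fr.b (neg z)) = (N ^ (-m)) • Fr.b (neg z) ∧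
          (z = a → m = 1) ∧ (z ≠ a → m = 0 ∨ m = -1) := by
        intro z
        by_cases hx : z.1 = a.1
        · rcases WittRGD.eq_or_ng hx with rfl | rfl
          · refine ⟨1, ?_, ?_, fun _ => rfl, fun h => absurd rfl h⟩
            · rw [zpow_one]
              exact dZ_self hp0 ht0
            · rw [zpow_neg, zpow_one]
              exact dZ_neg hp0 ht0
          · refine ⟨-1, ?_, ?_, fun h => ?_, fun h => Or.inr rfl⟩
            · rw [zpow_neg, zpow_one]
              exact dZ_neg hp0 ht0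
            · rw [_root_.neg_neg, zpow_one]
              have h3 : neg (ng a) = a := WittFrame.neg_neg a
              rw [h3]
              exact dZ_self hp0 ht0
            · exact absurd (congrArg Prod.snd h) (by simp [ha, ng])
        · refine ⟨0, ?_, ?_, fun h => absurd (congrArg Prod.fst h) hx, fun _ => Or.inl rfl⟩
          · rw [zpow_zero, one_smul]
            exact dZ_of_ne hx
          · rw [_root_.neg_zero, zpow_zero, one_smul]
            exact dZ_of_ne (z := neg z) hx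
      obtain ⟨m0, e1, e2, e3, -⟩ := hl a
      obtain ⟨m1, f1, f2, -, f4⟩ := hl (π a)
      have hm0 := e3 rfl
      subst hm0
      by_contra hcon
      -- the scalar on `b_a + b_{-a}`
      obtain ⟨c, hcs'⟩ := M.ker (Fr.b a + Fr.b (neg a)) _ h1
      have hdinv1 : d⁻¹ (Fr.b a) = (N ^ (-1 : ℤ)) • Fr.b a := inv_apply_eq (by
        rw [map_smul, e1, smul_smul, ← zpow_add₀ hN0]; norm_num)
      have hdinv2 : d⁻¹ (Fr.b (neg a)) = (N ^ (1 : ℤ)) • Fr.b (neg a) := inv_apply_eq (by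
        rw [map_smul, e2, smul_smul, ← zpow_add₀ hN0]; norm_num)
      obtain ⟨l1, hl1, g1⟩ := hm' a
      obtain ⟨l2, hl2, g2⟩ := hm' (neg a)
      rw [hneg] at g2
      have k1 : ((g * τ)⁻¹ * d * (g * τ) * d⁻¹) (Fr.b a) = (N ^ (m1 - 1)) • Fr.b a := by
        rw [mul_apply', mul_apply', mul_apply', hdinv1, map_smul, map_smul, map_smul, g1, map_smul, f1,
          map_smul, map_smul, (inv_apply_eq (h := by rw [map_smul, g1, smul_smul, inv_mul_cancel₀ hl1, one_smul]) :
            (g * τ)⁻¹ (Fr.b (π a)) = l1⁻¹ • Fr.b a), smul_smul, smul_smul, smul_smul]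
        congr 1
        rw [sub_eq_add_neg, zpow_add₀ hN0]
        field_simp
      have k2 : ((g * τ)⁻¹ * d * (g * τ) * d⁻¹) (Fr.b (neg a)) = (N ^ (1 - m1)) • Fr.b (neg a) := by
        rw [mul_apply', mul_apply', mul_apply', hdinv2, map_smul, map_smul, map_smul, g2, map_smul, f2,
          map_smul, map_smul, (inv_apply_eq (h := by rw [map_smul, g2, smul_smul, inv_mul_cancel₀ hl2, one_smul]) :
            (g * τ)⁻¹ (Fr.b (neg (π a))) = l2⁻¹ • Fr.b (neg a)), smul_smul, smul_smul, smul_smul]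
        congr 1
        rw [sub_eq_add_neg, zpow_add₀ hN0]
        field_simp
      have hcs2 : ((g * τ)⁻¹ * d * (g * τ) * d⁻¹) (Fr.b a + Fr.b (neg a)) = c • (Fr.b a + Fr.b (neg a)) := hcs'
      rw [map_add, k1, k2, smul_add] at hcs2
      have j1 := congrArg (fun v => H.h v (Fr.b a)) hcs2
      have j2 := congrArg (fun v => H.h v (Fr.b (neg a))) hcs2
      simp only [H.add_left, H.smul_left, Fr.hb_self, Fr.hb_neg_self, mul_zero, zero_add] at j1
      simp only [H.add_left, H.smul_left, Fr.hb_self, Fr.hb_self_neg, mul_zero, add_zero] at j2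
      have j3 := mul_right_cancel₀ (Fr.η_ne _) j1
      have j4 := mul_right_cancel₀ (Fr.η_ne _) j2
      have j5 : N ^ (m1 - 1) = N ^ (1 - m1) := j4.trans j3.symm
      have j6 : N ^ (2 * (m1 - 1)) = 1 := by
        have : 2 * (m1 - 1) = (m1 - 1) - (1 - m1) := by ring
        rw [this, zpow_sub₀ hN0, j5, div_self (zpow_ne_zero _ hN0)]
      have j7 : (p : ℤ) ∣ 2 * (m1 - 1) := by
        have hu : (Units.mk0 N hN0) ^ (2 * (m1 - 1)) = 1 := by
          apply Units.ext
          rw [Units.val_zpow_eq_zpow_val, Units.val_mk0, j6, Units.val_one]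
        rw [← ho, ← Units.val_mk0 hN0, orderOf_units]
        exact orderOf_dvd_iff_zpow_eq_one.2 hu
      rcases f4 hcon with rfl | rfl
      · have : (p : ℤ) ∣ 2 := by
          have := j7
          norm_num at this
          exact this
        have h8 : p ∣ 2 := by exact_mod_cast this
        exact hp2 ((Nat.prime_dvd_prime_iff_eq hp.out Nat.prime_two).1 h8)
      · have : (p : ℤ) ∣ 2 ^ 2 := by
          have := j7
          norm_num at this
          norm_num
          exact this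
        have h8 : p ∣ 2 ^ 2 := by exact_mod_cast this
        exact hp2 ((Nat.prime_dvd_prime_iff_eq hp.out Nat.prime_two).1 (hp.out.dvd_of_dvd_pow h8))
    refine ChevalleyStructure.CoxeterGeom.eq_one_of_fix cs (isCartan n) w fun i => ee_injective ?_
    have h1 := hee (sr i) (i, true) (nx i) (ee_sr i)
    change ee (rep cs (isCartan n) w (sr i)) = ee (sr i)
    rw [h1, ee_sr, hfix, bt]
    congr 2
    unfold nx
    split_ifs with h
    · have h2 := hneg (⟨(i : ℕ) + 1, h⟩, true)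
      rw [hfix] at h2
      exact h2
    · exact hfix i

/-- the same, with an element of order `p` of the fixed field of `σ` -/
theorem stIn_model_fix (hA : AmbT Fr r M.I) [Finite V] [hr : Fact r.Prime] [CharP F r] {p0 : Fr.Adm}
    (hp0 : p0.c ≠ 0) (hn : 0 < n) [Finite K] {p : ℕ} [hp : Fact p.Prime] (hp2 : p ≠ 2) {t : F} (ht : t ^ p = 1)
    (ht1 : t ≠ 1) (htσ : H.σ t = t) : StIn p r K := by
  refine stIn_model M hA hp0 hn hp2 (t := t) (by rw [htσ, mul_pow, ht, one_mul]) ?_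
  rw [htσ, ← pow_two]
  intro h
  have ho : orderOf t = p := orderOf_eq_prime ht ht1
  have h1 := orderOf_dvd_of_pow_eq_one h
  rw [ho, Nat.prime_dvd_prime_iff_eq hp.out Nat.prime_two] at h1
  exact hp2 h1


end model

section Row

open CoxeterSystem Cfsg.Agent.ChevalleyStructure.CoxeterGeom Cfsg.Agent.Tits.Roots
  Cfsg.Agent.Nodes.Comb Cfsg.Agent.Nodes.Reps Cfsg.Agent.Nodes.BNOf
  Cfsg.Agent.Nodes.RGDLib Cfsg.Agent.Nodes.TypeC
open Cfsg.Agent.Nodes Cfsg.Agent.Nodes.WittAll Cfsg.Agent.Nodes.WittU Cfsg.Agent.Nodes.WittInst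
  Cfsg.Agent.Nodes.WittRoot
  Cfsg.Agent.TitsThree Cfsg.Agent.TitsThree.Siegel Cfsg.Agent.TitsThree.SiegelGen
  Cfsg.Agent.TitsThree.WittFrame Cfsg.Agent.TitsThree.WBridge Cfsg.Agent.TitsThree.WittWeyl
  Cfsg.Agent.TitsThree.FrameCN
open Cfsg.Agent.H50.Her Cfsg.Agent.H716.RGDAb Cfsg.Agent.Omega.ML.Ex.Typ Cfsg.Agent.H742
open Cfsg.Agent.LieClassical.HermBasic Cfsg.Agent.TitsThree.KSideU
open Cfsg.Agent.H296.RI

universe v

/-- **`PSp_{2m}(q)`, `p ∣ q - 1`** -/
theorem stIn_psp {F : Type v} [Field F] [Fintype F] {r : ℕ} [hr : CharP F r] {m : ℕ} (hm : 1 ≤ m) {p : ℕ}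
    [hp : Fact p.Prime] (hp2 : p ≠ 2) (hd : p ∣ Fintype.card F - 1) : StIn p r (PSp m F) := by
  have : Fact r.Prime := ⟨CharP.char_is_prime F r⟩
  obtain ⟨t, ht, ht1⟩ := exists_zeta (F := F) hd
  have hA := AmbT.of_amb (amb_Sp (F := F) (m := m)) r
  exact stIn_model_fix (KInstSp.model m F) hA (p0 := SpIdent.adm 1) one_ne_zero hm hp2 ht ht1 rfl

/-- **`PSU_n(q)`, `p ∣ q - 1`** -/
theorem stIn_psu {F : Type v} [Field F] [Fintype F] {r : ℕ} [hr : CharP F r] {N q p : ℕ} [hp : Fact p.Prime]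
    (hp2 : p ≠ 2) (hN : 3 ≤ N) (hF : Fintype.card F = q ^ 2) (hd : p ∣ q - 1) : StIn p r (PSU N F q) := by
  have : Fact r.Prime := ⟨CharP.char_is_prime F r⟩
  have hq1 : 1 ≤ q := by
    rcases Nat.eq_zero_or_pos q with h | h
    · rw [h] at hF
      simp at hF
    · exact h
  obtain ⟨t, ht, ht1⟩ := exists_zeta (F := F) (p := p) (by
    rw [hF]
    refine hd.trans ?_
    have := Nat.sub_dvd_pow_sub_pow q 1 2
    rwa [one_pow] at this)
  have htq : t ^ q = t := by
    obtain ⟨c, hc⟩ := hd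
    have : q = p * c + 1 := by omega
    rw [this, pow_succ, pow_mul, ht, one_pow, one_mul]
  rcases Nat.even_or_odd' N with ⟨m, rfl | rfl⟩
  · obtain ⟨W, -⟩ := exists_wframe_even hF (rfl : 2 * m = 2 * m)
    obtain ⟨p0, hp0, -⟩ := exists_adm hF W
    exact stIn_model_fix (KInstU.model hF (by omega) W) (AmbT.of_amb (amb_U hF W) r) hp0 (by omega) hp2 ht ht1 htq
  · obtain ⟨W, -⟩ := exists_wframe_odd hF (rfl : 2 * m + 1 = 2 * m + 1)
    obtain ⟨p0, hp0, -⟩ := exists_adm hF W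
    exact stIn_model_fix (KInstU.model hF (by omega) W) (AmbT.of_amb (amb_U hF W) r) hp0 (by omega) hp2 ht ht1 htq

end Row

section RowO

open Cfsg.Agent.Nodes.WittAll Cfsg.Agent.Nodes.WittInst
open Cfsg.Agent.TitsThree Cfsg.Agent.TitsThree.Siegel Cfsg.Agent.TitsThree.SiegelGen
  Cfsg.Agent.TitsThree.WittFrame Cfsg.Agent.TitsThree.WBridge Cfsg.Agent.TitsThree.WittWeyl
  Cfsg.Agent.TitsThree.FrameCN
open QuadraticMap
open Cfsg.Agent.LieClassical Cfsg.Agent.LieClassical.OrthCore Cfsg.Agent.LieClassical.OrthTrans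
open Cfsg.Agent.LieClassical.OrthSimple Cfsg.Agent.LieClassical.OrthFinite
open Cfsg.Agent.LieClassical.OrthForms
open Cfsg.Agent.TitsThree.KSideO Cfsg.Agent.TitsThree.StdData
open Cfsg.Agent.H484.RatB0 (two_ne)
open Cfsg.Agent.H296.RI (exists_zeta)

universe v

variable {p : ℕ} [hp : Fact p.Prime]

/-- **`PΩ_{2m+1}(q)`**, `p ∣ q - 1` -/
theorem stIn_oodd (hp2 : p ≠ 2) {F : Type v} [Field F] [Fintype F] {r : ℕ} [hr : CharP F r] {m : ℕ} (hm : 2 ≤ m)
    (ho : Odd (Fintype.card F)) (hd : p ∣ Fintype.card F - 1) : StIn p r (POmega F (quadFormOdd m F)) := by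
  classical
  have hr' : Fact r.Prime := ⟨CharP.char_is_prime F r⟩
  have h2 := two_ne ho
  obtain ⟨t, ht, ht1⟩ := exists_zeta (F := F) hd
  rw [← coe_oddForm]
  have hG : Good (oddForm m F) := by
    apply good_of_finite (nondeg_oddForm m F h2)
    rw [Module.finrank_fintype_fun_eq_card, Fintype.card_sum, Fintype.card_sum, Fintype.card_fin,
      Fintype.card_unit]
    omega
  have hp' : ((embOdd m F).ngt ⟨1, -1 ^ 2, rfl⟩).c ≠ 0 := by
    change (1 : F)⁻¹ * (-1 ^ 2) ≠ 0
    simp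
  exact stIn_model_fix (model (wodd m F) hG ⟨_, hp'⟩) (AmbT.of_amb (amb_O_of_two _ h2) r) hp' (by omega) hp2 ht ht1
    rfl

/-- **`PΩ⁻_{2m+2}(q)`**, `p ∣ q - 1` -/
theorem stIn_ominus' (hp2 : p ≠ 2) {F : Type v} [Field F] [Fintype F] {r : ℕ} [hr : CharP F r] (a b : F)
    (hab : ∀ z₁ z₂ : F, z₁ ^ 2 + a * z₁ * z₂ + b * z₂ ^ 2 = 0 → z₁ = 0 ∧ z₂ = 0) {m : ℕ} (hm : 2 ≤ m)
    (hd : p ∣ Fintype.card F - 1) : StIn p r (POmega F (quadFormMinus m F a b)) := by
  classical
  have hr' : Fact r.Prime := ⟨CharP.char_is_prime F r⟩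
  obtain ⟨t, ht, ht1⟩ := exists_zeta (F := F) hd
  rw [← coe_minusForm]
  have hG : Good (minusForm m F a b) := by
    apply good_of_finite (nondeg_minusForm m F a b hab)
    rw [Module.finrank_fintype_fun_eq_card, Fintype.card_sum, Fintype.card_sum, Fintype.card_fin,
      Fintype.card_fin]
    omega
  have hp' : ((embMinus m F a b hab).ngt ⟨(1, 0), -nf a b (1, 0), rfl⟩).c ≠ 0 := by
    change (1 : F)⁻¹ * (-nf a b (1, 0)) ≠ 0
    simp [nf]
  have hA : AmbT (toFrame (wminus m F a b hab)) r (E (minusForm m F a b)) := by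
    by_cases h2 : (2 : F) = 0
    · have hp2 : r = 2 := by
        have h3 : CharP F 2 := CharTwo.of_one_ne_zero_of_two_eq_zero one_ne_zero h2
        exact CharP.eq F hr h3
      subst hp2
      exact ambT_O _ fun g hg hg2 hb => fixp_minus a b hab h2 hm hG hg hg2 hb
    · exact AmbT.of_amb (amb_O_of_two _ h2) r
  exact stIn_model_fix (model (wminus m F a b hab) hG ⟨_, hp'⟩) hA hp' (by omega) hp2 ht ht1 rfl

/-- **`PΩ⁻_{2m}(q)`**, `p ∣ q - 1` -/
theorem stIn_ominus (hp2 : p ≠ 2) {F : Type v} [Field F] [Fintype F] {r : ℕ} [hr : CharP F r] (a b : F)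
    (hab : ∀ z₁ z₂ : F, z₁ ^ 2 + a * z₁ * z₂ + b * z₂ ^ 2 = 0 → z₁ = 0 ∧ z₂ = 0) {m : ℕ} (hm : 4 ≤ m)
    (hd : p ∣ Fintype.card F - 1) : StIn p r (POmega F (quadFormMinus (m - 1) F a b)) :=
  stIn_ominus' hp2 a b hab (by omega) hd

end RowO

section RowPlus

open Cfsg
open CoxeterSystem Cfsg.Agent.ChevalleyStructure.CoxeterGeom Cfsg.Agent.Tits.Roots
open Cfsg.Agent.Nodes.TypeC (wt wt_apply ng ng_ng ng_fst ng_snd wt_ng)
open Cfsg.Agent.Nodes.TypeD
open Cfsg.Agent.Nodes.Comb Cfsg.Agent.Nodes.Reps Cfsg.Agent.Nodes.WittRoot Cfsg.Agent.Nodes.BNOf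
  Cfsg.Agent.Nodes.RGDLib
open Cfsg.Agent.Nodes
open Cfsg.Agent.Nodes.WittRGD (Tor mem_Tor not_prop b_ne_zero eq_or_ng)
open Cfsg.Agent.TitsThree Cfsg.Agent.TitsThree.Siegel Cfsg.Agent.TitsThree.WittFrame Cfsg.Agent.TitsThree.WittWeyl
open Cfsg.Agent.H519.Dl.WittTor (dX dX_x dX_y dX_neg_x dX_neg_y dX_of_ne dX_V0 dX_eig dX_pow)
open Cfsg.Agent.H314.RatB.OPlus
open QuadraticMap
open Cfsg.Agent.Nodes.WittInst Cfsg.Agent.LieClassical Cfsg.Agent.LieClassical.OrthCore
  Cfsg.Agent.LieClassical.OrthForms Cfsg.Agent.LieClassical.OrthSimple Cfsg.Agent.LieClassical.OrthFinite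
open Cfsg.Agent.TitsThree.KSideO Cfsg.Agent.TitsThree.StdData Cfsg.Agent.TitsThree.WBridge
  Cfsg.Agent.TitsThree.SiegelGen

universe v

variable {p : ℕ} [Fact p.Prime]

seal _root_.Finset.sum _root_.dotProduct in
/-- **`PΩ⁺`, `p ∣ q - 1`** -/
theorem stIn_oplus' (hp2 : p ≠ 2) {F : Type v} [Field F] [Fintype F] {r : ℕ} [hr : CharP F r] {n : ℕ} (hn : 1 ≤ n)
    (hd : p ∣ Fintype.card F - 1) : StIn p r (POmega F (quadFormPlus (n + 2) F)) := by
  classical
  have hpp : p.Prime := Fact.out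
  have hrp : Fact r.Prime := ⟨CharP.char_is_prime F r⟩
  have hpr : p ≠ r := by
    rintro rfl
    obtain ⟨k, -, hk⟩ := FiniteField.card F p
    have h1 : p ∣ Fintype.card F := hk ▸ dvd_pow_self p k.ne_zero
    have h2 := (Nat.dvd_sub h1 hd)
    rw [Nat.sub_sub_self Fintype.card_pos] at h2
    exact hpp.one_lt.ne' (Nat.dvd_one.1 h2)
  obtain ⟨ζ, hζ⟩ : ∃ ζ : Fˣ, orderOf ζ = p :=
    exists_prime_orderOf_dvd_card p (by rw [Fintype.card_units]; exact hd)
  have ht : (ζ : F) ≠ 0 := ζ.ne_zero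
  have htp : (ζ : F) ^ p = 1 := by
    rw [← Units.val_pow_eq_pow_val, ← hζ, pow_orderOf_eq_one, Units.val_one]
  have ht2 : (ζ : F) ^ 2 ≠ 1 := by
    intro h
    have h1 : ζ ^ 2 = 1 := Units.ext (by rw [Units.val_pow_eq_pow_val, h, Units.val_one])
    have h2 := orderOf_dvd_of_pow_eq_one h1
    rw [hζ] at h2
    exact hp2 ((Nat.prime_dvd_prime_iff_eq hpp Nat.prime_two).1 h2)
  rw [← coe_plusForm]
  have hG : OrthTrans.Good (plusForm (n + 2) F) := by
    apply good_of_finite (nondeg_plusForm (n + 2) F)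
    rw [Module.finrank_fintype_fun_eq_card, Fintype.card_sum, Fintype.card_fin]
    omega
  let cs := (M n).toCoxeterSystem
  have : Finite (M n).Group := finite_W cs
  have R := rgdD_model (wplus (n + 2) F) hG (amb_plus _) (adm_plus _) (p := r) cs
  have hG1 := G1D_eq_top (wplus (n + 2) F) (toPOmega hG) (toPOmega_surjective hG) (adm_plus _) cs
  have hker : ∀ g : E (plusForm (n + 2) F), toPOmega hG g = 1 → ∃ a : F, ∀ v, g.1 v = a • v := fun g hg =>
    scalar_of_center hG (center_of_toPOmega hG hg)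
  set T : Subgroup (POmega F ⇑(plusForm (n + 2) F)) :=
    ((Tor (toFrame (wplus (n + 2) F)) (E (plusForm (n + 2) F))).subgroupOf _).map (toPOmega hG) with hT
  have hTc : ∀ s ∈ T, ∀ t ∈ T, s * t = t * s := by
    rintro _ ⟨s, hs, rfl⟩ _ ⟨t, ht, rfl⟩
    rw [← MonoidHom.map_mul, ← MonoidHom.map_mul]
    congr 1
    refine Subtype.ext (H716.RGDAb.tor_comm_of (amb_plus (F := F) (n + 2)).V0 (Subgroup.mem_subgroupOf.1 hs)
      (Subgroup.mem_subgroupOf.1 ht) fun w hw => ?_)
    have hw0 : w = 0 := (Submodule.mem_bot F).1 hw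
    rw [hw0, map_zero, map_zero, map_zero]
  let Q : Subgroup (POmega F ⇑(plusForm (n + 2) F)) :=
    { carrier := {x | x ∈ T ∧ x ^ p = 1}
      mul_mem' := by
        rintro a b ⟨ha, ha1⟩ ⟨hb, hb1⟩
        refine ⟨mul_mem ha hb, ?_⟩
        rw [(show Commute a b from hTc a ha b hb).mul_pow, ha1, hb1, one_mul]
      one_mem' := ⟨one_mem _, one_pow _⟩
      inv_mem' := by
        rintro a ⟨ha, ha1⟩
        exact ⟨inv_mem ha, by rw [inv_pow, ha1, inv_one]⟩ }
  have hmem : ∀ x y : Fin (n + 2) × Bool, x.1 ≠ y.1 →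
      toPOmega hG ⟨dX (toFrame (wplus (n + 2) F)) x y (ζ : F), dX_mem (amb_plus (F := F) (n + 2)) x y _⟩ ∈ Q := by
    intro x y h
    refine ⟨Subgroup.mem_map_of_mem _ (Subgroup.mem_subgroupOf.2 (dX_mem_Tor (amb_plus (F := F) (n + 2)) h ht)), ?_⟩
    rw [← MonoidHom.map_pow]
    have h1 : (⟨dX (toFrame (wplus (n + 2) F)) x y (ζ : F), dX_mem (amb_plus (F := F) (n + 2)) x y _⟩ :
        E (plusForm (n + 2) F)) ^ p = 1 := Subtype.ext (dX_pow (amb_plus (F := F) (n + 2)).V0 h ht htp)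
    rw [h1, MonoidHom.map_one]
  have hGG : Bruhat.GG cs (isCartan n) T (XD (wplus (n + 2) F) (toPOmega hG)) = ⊤ := by
    rw [eq_top_iff, ← hG1]
    exact le_sup_right
  refine stIn_of_cent R hGG hpr (Q := Q) ?_ (fun x hx => hx.1) ?_ ?_
  · intro x
    exact ⟨1, Subtype.ext (by rw [pow_one]; exact x.2.2)⟩
  · intro x hx _ u hu hc
    obtain ⟨a, b, hab, e⟩ := exists_of_isRoot cs hx
    obtain ⟨g, hg, rfl⟩ := hu
    have h1 := Subgroup.mem_subgroupOf.1 hg
    rw [WittRGDD.rg_eq (toFrame (wplus (n + 2) F)) hab e] at h1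
    obtain ⟨s, hs⟩ := h1
    have h2 : g = ⟨(toFrame (wplus (n + 2) F)).X a b s, (amb_plus (F := F) (n + 2)).X_mem _ _ _⟩ :=
      Subtype.ext hs
    subst h2
    have h3 := fpf_X (toPOmega hG) (amb_plus (F := F) (n + 2)) hker hab ht ht2 (hc _ (hmem a b hab))
    subst h3
    have h4 : (⟨(toFrame (wplus (n + 2) F)).X a b 0, (amb_plus (F := F) (n + 2)).X_mem _ _ _⟩ :
        E (plusForm (n + 2) F)) = 1 := Subtype.ext ((toFrame (wplus (n + 2) F)).X_zero _ _)
    rw [h4, MonoidHom.map_one]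
  · intro w k hk hc
    exact eq_one_of_comm (toPOmega hG) (amb_plus (F := F) (n + 2)) hker hn (fun _ => rfl)
      (hpp.odd_of_ne_two hp2) ht ht2 htp cs R.nsys hk fun x y h => hc _ (hmem x y h)

/-- **`PΩ⁺`, `p ∣ q - 1`** -/
theorem stIn_oplus (hp2 : p ≠ 2) {F : Type v} [Field F] [Fintype F] {r : ℕ} [hr : CharP F r] {m : ℕ} (hm : 4 ≤ m)
    (hd : p ∣ Fintype.card F - 1) : StIn p r (POmega F (quadFormPlus m F)) := by
  obtain ⟨n, rfl⟩ : ∃ n, m = n + 2 := ⟨m - 2, by omega⟩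
  exact stIn_oplus' hp2 (by omega) hd


end RowPlus

end Cfsg.Agent.H749.Bd
end

-- part: H35/BD/Levi
section
/-!
# `SL_m(F)` in `POmega F Q` (S4932, S4953, P1; helper35)

`exists_levi_plus` (`m < w`), `exists_levi_odd`, `exists_levi_minus` (`m ≤ w`): an injective homomorphism
`SL_m(F) → POmega F Q`, `w` the Witt index, `3 ≤ w`.
-/

set_option autoImplicit false

namespace Cfsg.Agent.H35.BD

open Matrix Module Cfsg Cfsg.Agent.H934.IdxCl
open Cfsg.Agent.LieClassical Cfsg.Agent.LieClassical.OrthCore Cfsg.Agent.LieClassical.OrthForms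
  Cfsg.Agent.LieClassical.OrthTrans Cfsg.Agent.LieClassical.OrthFinite Cfsg.Agent.H410.BR

variable {F : Type*} [Field F]

/-- the block embedding -/
def sl {κ ι : Type} [DecidableEq ι] [Fintype ι] [DecidableEq κ] [Fintype κ] {m : ℕ} (e : Fin m ⊕ κ ≃ ι) :
    _root_.Matrix.SpecialLinearGroup (Fin m) F →* _root_.Matrix.SpecialLinearGroup ι F where
  toFun A := ⟨Matrix.reindex e e (fromBlocks A.1 0 0 1), by
    rw [det_reindex_self, det_fromBlocks_zero₂₁, A.2, det_one, one_mul]⟩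
  map_one' := by
    apply Subtype.ext
    show Matrix.reindex e e (fromBlocks (1 : Matrix (Fin m) (Fin m) F) 0 0 1) = 1
    rw [fromBlocks_one, reindex_apply, submatrix_one_equiv]
  map_mul' A B := by
    apply Subtype.ext
    show Matrix.reindex e e (fromBlocks (A.1 * B.1) 0 0 1) =
      Matrix.reindex e e (fromBlocks A.1 0 0 1) * Matrix.reindex e e (fromBlocks B.1 0 0 1)
    rw [reindex_apply, reindex_apply, reindex_apply, submatrix_mul_equiv, fromBlocks_multiply]
    simp only [_root_.Matrix.mul_zero, _root_.add_zero, _root_.Matrix.mul_one, _root_.Matrix.zero_mul, _root_.mul_one, _root_.zero_add]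

section

variable {κ ι : Type} [DecidableEq ι] [Fintype ι] [DecidableEq κ] [Fintype κ] {m : ℕ} (e : Fin m ⊕ κ ≃ ι)

theorem sl_coe (A : _root_.Matrix.SpecialLinearGroup (Fin m) F) :
    ((sl e A : _root_.Matrix.SpecialLinearGroup ι F) : Matrix ι ι F) = Matrix.reindex e e (fromBlocks A.1 0 0 1) := rfl

theorem sl_injective : Function.Injective (sl e : _root_.Matrix.SpecialLinearGroup (Fin m) F →* _root_.Matrix.SpecialLinearGroup ι F) := by
  intro A B h
  have h1 : Matrix.reindex e e (fromBlocks A.1 0 0 (1 : Matrix κ κ F)) = Matrix.reindex e e (fromBlocks B.1 0 0 1) :=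
    congrArg Subtype.val h
  have h2 := (Matrix.reindex e e).injective h1
  rw [fromBlocks_inj] at h2
  exact Subtype.ext h2.1

/-- the coordinates in `κ` are fixed -/
theorem sl_mulVec (A : _root_.Matrix.SpecialLinearGroup (Fin m) F) (k : κ) :
    ((sl e A : _root_.Matrix.SpecialLinearGroup ι F) : Matrix ι ι F) *ᵥ Pi.single (e (Sum.inr k)) 1 =
      Pi.single (e (Sum.inr k)) 1 := by
  rw [sl_coe, mulVec_single_one]
  funext x
  obtain ⟨y, rfl⟩ := e.surjective x
  rw [col_apply, reindex_apply, submatrix_apply, Equiv.symm_apply_apply, Equiv.symm_apply_apply]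
  rcases y with y | y
  · rw [fromBlocks_apply₁₂, Matrix.zero_apply, Pi.single_eq_of_ne]
    intro h
    exact Sum.inl_ne_inr (e.injective h)
  · rw [fromBlocks_apply₂₂, Matrix.one_apply]
    by_cases h : y = k
    · rw [if_pos h, h, Pi.single_eq_same]
    · rw [if_neg h, Pi.single_eq_of_ne]
      intro h'
      exact h (Sum.inr_injective (e.injective h'))

end

/-- `SL_w → Ω` -/
theorem exists_hom {ι : Type} [Fintype ι] [DecidableEq ι] (Q : (ι → F) → F) {w : ℕ} (hw : 3 ≤ w)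
    (j : GL (Fin w) F →* Matrix ι ι F) (hj : Function.Injective j) (hQ : ∀ A v, Q (j A *ᵥ v) = Q v) :
    ∃ J : _root_.Matrix.SpecialLinearGroup (Fin w) F →* Omega F Q, Function.Injective J ∧
      ∀ A, (((J A : Cfsg.isometryGroup F Q) : GL ι F) : Matrix ι ι F) = j (SpecialLinearGroup.toGL A) := by
  let j1 : GL (Fin w) F →* GL ι F := j.toHomUnits
  let j2 : GL (Fin w) F →* Cfsg.isometryGroup F Q := j1.codRestrict _ (fun A => by
    intro u v
    exact hQ A u)
  let j3 : _root_.Matrix.SpecialLinearGroup (Fin w) F →* Cfsg.isometryGroup F Q := j2.comp SpecialLinearGroup.toGL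
  have hperf : commutator (_root_.Matrix.SpecialLinearGroup (Fin w) F) = ⊤ :=
    Cfsg.Agent.LieClassical.SLGen.commutator_eq_top (by rwa [Fintype.card_fin])
  let j4 : _root_.Matrix.SpecialLinearGroup (Fin w) F →* Cfsg.Omega F Q :=
    j3.codRestrict _ (fun A => mem_commutator_of_perfect hperf j3 A)
  refine ⟨j4, ?_, fun A => rfl⟩
  intro A B h
  have h1 : j3 A = j3 B := congrArg Subtype.val h
  have h2 : j1 (SpecialLinearGroup.toGL A) = j1 (SpecialLinearGroup.toGL B) := congrArg Subtype.val h1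
  have h3 : j (SpecialLinearGroup.toGL A) = j (SpecialLinearGroup.toGL B) := congrArg Units.val h2
  exact Subtype.ext (congrArg (fun g : GL (Fin w) F => (g : Matrix (Fin w) (Fin w) F)) (hj h3))

/-- the general principle -/
theorem exists_levi_of {ι : Type} [Fintype ι] [DecidableEq ι] {Q : QuadraticForm F (ι → F)} (hG : Good Q) {w : ℕ}
    (hw : 3 ≤ w) (j : GL (Fin w) F →* Matrix ι ι F) (hj : Function.Injective j)
    (hQ : ∀ A v, Q (j A *ᵥ v) = Q v) {m : ℕ} {κ : Type} [Fintype κ] [DecidableEq κ] (e : Fin m ⊕ κ ≃ Fin w)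
    {v : ι → F} (hv0 : v ≠ 0) (hv : ∀ A : _root_.Matrix.SpecialLinearGroup (Fin m) F, j (SpecialLinearGroup.toGL (sl e A)) *ᵥ v = v) :
    ∃ l : _root_.Matrix.SpecialLinearGroup (Fin m) F →* POmega F ⇑Q, Function.Injective l := by
  obtain ⟨J, hJ, hJv⟩ := exists_hom (⇑Q) hw j hj hQ
  refine ⟨(QuotientGroup.mk' (Subgroup.center (Cfsg.Omega F ⇑Q))).comp (J.comp (sl e)), ?_⟩
  rw [injective_iff_map_eq_one]
  intro A hA
  rw [MonoidHom.comp_apply, MonoidHom.comp_apply, QuotientGroup.mk'_apply, QuotientGroup.eq_one_iff] at hA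
  obtain ⟨c, hc⟩ := scalar_of_center hG hA
  have h1 := hc v
  rw [omRho_apply, hJv, hv] at h1
  have h2 : c = 1 := by
    by_contra hne
    apply hv0
    have h3 : (c - 1) • v = 0 := by rw [sub_smul, one_smul, ← h1, sub_self]
    exact (smul_eq_zero.1 h3).resolve_left (sub_ne_zero.2 hne)
  have h4 : omRho Q (J (sl e A)) = 1 := by
    apply LinearEquiv.ext
    intro x
    rw [hc, h2, one_smul]
    rfl
  have h5 : J (sl e A) = 1 := omRho_injective Q (by rw [h4, MonoidHom.map_one])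
  exact sl_injective e (hJ (by rw [h5, MonoidHom.map_one, MonoidHom.map_one]))

/-- `Fin m ⊕ Fin (w - m) ≃ Fin w` -/
def eqv {m w : ℕ} (h : m ≤ w) : Fin m ⊕ Fin (w - m) ≃ Fin w := finSumFinEquiv.trans (finCongr (by omega))

variable [Finite F]

/-- **P1, plus type** -/
theorem exists_levi_plus {m w : ℕ} (hw : 3 ≤ w) (hm : m < w) :
    ∃ l : _root_.Matrix.SpecialLinearGroup (Fin m) F →* POmega F ⇑(plusForm w F), Function.Injective l := by
  have hG : Good (plusForm w F) := (typ_plus F (by omega)).good (by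
    rw [Fintype.card_sum, Fintype.card_fin]
    omega)
  refine exists_levi_of hG hw (lev w F) lev_injective (fun A v => by rw [coe_plusForm]; exact quadFormPlus_lev A v)
    (eqv hm.le) (v := Sum.elim (Pi.single (eqv hm.le (Sum.inr ⟨0, by omega⟩)) 1) 0) ?_ ?_
  · intro h
    have h1 := congrFun h (Sum.inl (eqv hm.le (Sum.inr ⟨0, by omega⟩)))
    rw [Sum.elim_inl, Pi.single_eq_same] at h1
    exact one_ne_zero h1
  · intro A
    rw [lev_mulVec, Sum.elim_comp_inl, Sum.elim_comp_inr, mulVec_zero]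
    congr 1
    exact sl_mulVec _ A _

/-- **P1, odd dimension** -/
theorem exists_levi_odd (h2 : (2 : F) ≠ 0) {m w : ℕ} (hw : 3 ≤ w) (hm : m ≤ w) :
    ∃ l : _root_.Matrix.SpecialLinearGroup (Fin m) F →* POmega F ⇑(oddForm w F), Function.Injective l := by
  have hG : Good (oddForm w F) := (typ_odd F h2 (by omega)).good (by
    rw [Fintype.card_sum, Fintype.card_sum, Fintype.card_fin, Fintype.card_unit]
    omega)
  have hmv : ∀ (A : GL (Fin w) F) (v : Unit ⊕ (Fin w ⊕ Fin w) → F),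
      ((pre Unit (Fin w ⊕ Fin w) F).comp (lev w F)) A *ᵥ v = Sum.elim (v ∘ Sum.inl) (lev w F A *ᵥ (v ∘ Sum.inr)) := by
    intro A v
    show fromBlocks (1 : Matrix Unit Unit F) 0 0 (lev w F A) *ᵥ v = _
    rw [fromBlocks_mulVec]
    simp
  refine exists_levi_of hG hw ((pre Unit (Fin w ⊕ Fin w) F).comp (lev w F)) ?_ ?_ (eqv hm) (v := Sum.elim 1 0) ?_ ?_
  · intro A B h
    have h1 : fromBlocks (1 : Matrix Unit Unit F) 0 0 (lev w F A) = fromBlocks 1 0 0 (lev w F B) := h
    rw [fromBlocks_inj] at h1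
    exact lev_injective h1.2.2.2
  · intro A v
    rw [hmv, coe_oddForm]
    have h2 := quadFormPlus_lev A (v ∘ Sum.inr)
    show v (Sum.inl ()) ^ 2 + Cfsg.quadFormPlus w F (lev w F A *ᵥ (v ∘ Sum.inr)) =
      v (Sum.inl ()) ^ 2 + Cfsg.quadFormPlus w F (v ∘ Sum.inr)
    rw [h2]
  · intro h
    have h1 := congrFun h (Sum.inl ())
    rw [Sum.elim_inl] at h1
    exact one_ne_zero h1
  · intro A
    rw [hmv, Sum.elim_comp_inl, Sum.elim_comp_inr, mulVec_zero]

/-- **P1, minus type** -/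
theorem exists_levi_minus (a b : F) (hab : ∀ z₁ z₂ : F, z₁ ^ 2 + a * z₁ * z₂ + b * z₂ ^ 2 = 0 → z₁ = 0 ∧ z₂ = 0)
    {m w : ℕ} (hw : 3 ≤ w) (hm : m ≤ w) :
    ∃ l : _root_.Matrix.SpecialLinearGroup (Fin m) F →* POmega F ⇑(minusForm w F a b), Function.Injective l := by
  have hG : Good (minusForm w F a b) := (typ_minus F a b hab (by omega)).good (by
    rw [Fintype.card_sum, Fintype.card_sum, Fintype.card_fin, Fintype.card_fin]
    omega)
  have hmv : ∀ (A : GL (Fin w) F) (v : (Fin w ⊕ Fin w) ⊕ Fin 2 → F),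
      ((post (Fin 2) (Fin w ⊕ Fin w) F).comp (lev w F)) A *ᵥ v = Sum.elim (lev w F A *ᵥ (v ∘ Sum.inl)) (v ∘ Sum.inr) := by
    intro A v
    show fromBlocks (lev w F A) 0 0 (1 : Matrix (Fin 2) (Fin 2) F) *ᵥ v = _
    rw [fromBlocks_mulVec]
    simp
  refine exists_levi_of hG hw ((post (Fin 2) (Fin w ⊕ Fin w) F).comp (lev w F)) ?_ ?_ (eqv hm) (v := Sum.elim 0 1) ?_ ?_
  · intro A B h
    have h1 : fromBlocks (lev w F A) 0 0 (1 : Matrix (Fin 2) (Fin 2) F) = fromBlocks (lev w F B) 0 0 1 := h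
    rw [fromBlocks_inj] at h1
    exact lev_injective h1.1
  · intro A v
    rw [hmv, coe_minusForm]
    have h2 := quadFormPlus_lev A (v ∘ Sum.inl)
    show Cfsg.quadFormPlus w F (lev w F A *ᵥ (v ∘ Sum.inl)) + _ = Cfsg.quadFormPlus w F (v ∘ Sum.inl) + _
    rw [h2]
    rfl
  · intro h
    have h1 := congrFun h (Sum.inr 0)
    rw [Sum.elim_inr] at h1
    exact one_ne_zero h1
  · intro A
    rw [hmv, Sum.elim_comp_inl, Sum.elim_comp_inr, mulVec_zero]

end Cfsg.Agent.H35.BD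
end

-- part: H674/BD/Parts
section
/-!
# The parts of the `Kill` row of the orthogonal groups (helper674)

* `kill_of` : the size criterion in the form `4 o⁵ α(1)² |S|_p³ ≤ β(1)²`;
* `InB0.inflate` : inflation of characters of the principal block;
* `alpha_om` : `α(1) < |V| ^ k` for `POmega F Q`;
* `st_plus`, `st_minus` : the Steinberg character of `POmega F Q'` when a `p`-subgroup has no invariant totally singular
  subspaces and no fixed vectors.
-/

set_option autoImplicit false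
set_option linter.unusedSectionVars false

namespace Cfsg.Agent.H674.BD.Parts

open Cfsg Cfsg.Agent.H589.BD Cfsg.Agent.H2.Pol Cfsg.Agent.H410.BR
open Cfsg.Agent.LieClassical Cfsg.Agent.LieClassical.OrthCore Cfsg.Agent.LieClassical.OrthTrans
  Cfsg.Agent.LieClassical.OrthFinite Cfsg.Agent.LieClassical.OrthForms

universe u v

section crit

variable {p : ℕ} [hp : Fact p.Prime] {S : Type u} [Group S] [Finite S]

/-- **The size criterion.** -/
theorem kill_of [IsSimpleGroup S] (hna : ¬ IsMulCommutative S) (hS : SizeOK S) (hpS : p ∣ Nat.card S)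
    (α β : IrrCharacter S) (hα : InB0 p α) (hβ : InB0 p β) (nα : NT α)
    (h : 4 * Nat.card (Out S) ^ 5 * charDegree (α : S → ℂ) ^ 2 * (ordProj[p] (Nat.card S)) ^ 3 ≤
      charDegree (β : S → ℂ) ^ 2) : Kill p S := by
  set o := Nat.card (Out S) with ho
  set P := ordProj[p] (Nat.card S) with hP
  set a := charDegree (α : S → ℂ) with ha
  have ho0 : 0 < o := Nat.card_pos
  have ha0 : 0 < a := by
    have h1 := hS α nα
    omega
  have hP3 : 2 ≤ P := by
    have h1 : 1 ≤ (Nat.card S).factorization p := by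
      rw [Nat.one_le_iff_ne_zero]
      intro h0
      rcases (Nat.factorization_eq_zero_iff _ _).1 h0 with h1 | h1 | h1
      · exact h1 hp.out
      · exact h1 hpS
      · exact absurd h1 Nat.card_pos.ne'
    calc 2 ≤ p := hp.out.two_le
      _ = p ^ 1 := (pow_one p).symm
      _ ≤ P := Nat.pow_le_pow_right hp.out.pos h1
  refine H726.BD.kill_gen hna hS hpS α β hα hβ nα (K := (o * P) ^ 2) ?_ ?_
  · have h1 : ordProj[p] (o * Nat.card S) ≤ o * P := by
      rw [Nat.factorization_mul ho0.ne' Nat.card_pos.ne', Finsupp.add_apply, pow_add]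
      exact Nat.mul_le_mul_right _ (Nat.le_of_dvd ho0 (Nat.ordProj_dvd o p))
    have h2 : (ordProj[p] (o * Nat.card S)) ^ 2 ≤ (o * P) ^ 2 := Nat.pow_le_pow_left h1 2
    have h3 : 2 ≤ o * P := by nlinarith only [ho0, hP3]
    nlinarith only [h2, h3]
  · refine lt_of_lt_of_le ?_ h
    have e1 : 4 * o ^ 5 * a ^ 2 * P ^ 3 = 2 * o ^ 2 * (o ^ 3 * a ^ 2 * P ^ 3) + 2 * o ^ 5 * a ^ 2 * P ^ 3 := by ring
    have e2 : 2 * (o * a) ^ 2 * (o * P * (o * P) ^ 2) = 2 * o ^ 5 * a ^ 2 * P ^ 3 := by ring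
    rw [e1, e2]
    refine Nat.add_lt_add_right ?_ _
    have h4 : 1 < o ^ 3 * a ^ 2 * P ^ 3 := by
      have h5 : 1 ≤ o ^ 3 * a ^ 2 := Nat.mul_pos (pow_pos ho0 3) (pow_pos ha0 2)
      have h6 : 1 < P ^ 3 := Nat.one_lt_pow (by norm_num) (by omega)
      calc 1 < P ^ 3 := h6
        _ = 1 * P ^ 3 := (one_mul _).symm
        _ ≤ _ := Nat.mul_le_mul_right _ h5
    have h7 : 0 < 2 * o ^ 2 := by positivity
    exact (Nat.lt_mul_iff_one_lt_right h7).2 h4

/-- inflation -/
theorem inflate {H : Type v} [Group H] {G : Type u} [Group G] [Finite G] (f : G →* H)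
    (hf : Function.Surjective f) {χ : IrrCharacter H} (h : InB0 p χ) :
    ∃ χ' : IrrCharacter G, InB0 p χ' ∧ charDegree (χ' : G → ℂ) = charDegree (χ : H → ℂ) := by
  refine ⟨⟨(χ : H → ℂ) ∘ f, Characters.Core.isIrr_comp f hf χ.2⟩, ?_, H596.charDegree_comp f χ.2⟩
  intro M hM
  have : M.IsPrime := hM.2.1.isPrime
  exact H133.PB.mem_principalBlock_comp f hf (h M hM)

end crit

section alpha

variable {F : Type} [Field F] [Finite F] {ι : Type} [Fintype ι] [DecidableEq ι] {Q : QuadraticForm F (ι → F)}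
  {p : ℕ} [hp : Fact p.Prime]

/-- **A small degree.** -/
theorem alpha_om (hG : Good Q) (hp2 : p ≠ 2) (hpq : ¬ p ∣ Nat.card F) {k : ℕ} (hk : 0 < k)
    (hpk : p ∣ Nat.card F ^ k - 1) (hpS : p ∣ Nat.card (Cfsg.POmega F ⇑Q)) :
    ∃ α : IrrCharacter (Cfsg.POmega F ⇑Q), InB0 p α ∧ NT α ∧
      charDegree (α : Cfsg.POmega F ⇑Q → ℂ) < Nat.card F ^ (Fintype.card ι * k) := by
  have : Fintype F := Fintype.ofFinite F
  have hpG : p ∣ Nat.card (Cfsg.Omega F ⇑Q) :=
    hpS.trans (Subgroup.card_quotient_dvd_card _)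
  let ρ : Cfsg.Omega F ⇑Q →* ((ι → F) →ₗ[F] (ι → F)) :=
    (LinearEquiv.automorphismGroup.toLinearMapMonoidHom).comp (omRho Q)
  have hρ : Function.Injective ρ := fun a b h => by
    apply omRho_injective Q
    apply LinearEquiv.toLinearMap_injective
    exact h
  obtain ⟨χ, h1, h2, h3⟩ := Cfsg.Agent.H719.BD.alpha_lin hpG ρ hρ hpq hk hpk
    (QuotientGroup.mk' (Subgroup.center (Cfsg.Omega F ⇑Q))) (QuotientGroup.mk'_surjective _)
    (by
      rw [QuotientGroup.ker_mk']
      exact card_center hG hp2)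
  refine ⟨χ, h1, ?_, ?_⟩
  · by_contra hcon
    apply h2
    funext g
    by_contra hg
    exact hcon ⟨g, hg⟩
  · refine lt_of_lt_of_eq h3 ?_
    rw [Nat.card_fun, Nat.card_eq_fintype_card (α := ι), pow_mul]

end alpha

section st

variable {F : Type} [Field F] [Finite F] {p : ℕ} [hp : Fact p.Prime]

/-- the `r`-part of the order -/
theorem le_ordProj {r N c d x a : ℕ} [hr : Fact r.Prime] (hN : 0 < N) (hF : ∃ f : ℕ, x = r ^ f) (hc : Nat.Coprime x c)
    (h : c * N = x ^ a * d) : x ^ a ≤ ordProj[r] N := by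
  obtain ⟨f, rfl⟩ := hF
  have h1 : (r ^ f) ^ a ∣ N := by
    refine Nat.Coprime.dvd_of_dvd_mul_left (Nat.Coprime.pow_left a hc) ?_
    rw [h]
    exact dvd_mul_right _ _
  rw [← pow_mul] at h1 ⊢
  exact Nat.pow_le_pow_right hr.out.pos ((hr.out.pow_dvd_iff_le_factorization hN.ne').1 h1)

theorem exists_card (F : Type) [Field F] [Finite F] :
    ∃ r f : ℕ, r.Prime ∧ CharP F r ∧ Nat.card F = r ^ f := by
  have : Fintype F := Fintype.ofFinite F
  obtain ⟨r, hr⟩ := CharP.exists F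
  obtain ⟨n, hrp, hn⟩ := FiniteField.card F r
  exact ⟨r, n, hrp, hr, by rw [Nat.card_eq_fintype_card, hn]⟩

theorem coprime_gcd {x m : ℕ} (hx : 1 ≤ x) (hm : 0 < m) : Nat.Coprime x (Nat.gcd 4 (x ^ m - 1)) := by
  have h1 : Nat.Coprime x (x ^ m - 1) := by
    have h2 : Nat.Coprime (x ^ m) (x ^ m - 1) :=
      (Nat.coprime_self_sub_right (Nat.one_le_pow _ _ hx)).2 (Nat.coprime_one_right _)
    exact Nat.Coprime.coprime_dvd_left (dvd_pow_self x hm.ne') h2
  exact Nat.Coprime.coprime_dvd_right (Nat.gcd_dvd_right _ _) h1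

theorem coprime_gcd' {x m : ℕ} (hm : 0 < m) : Nat.Coprime x (Nat.gcd 4 (x ^ m + 1)) := by
  have h1 : Nat.Coprime x (x ^ m + 1) := by
    have h2 : Nat.Coprime (x ^ m) (x ^ m + 1) := by simp
    exact Nat.Coprime.coprime_dvd_left (dvd_pow_self x hm.ne') h2
  exact Nat.Coprime.coprime_dvd_right (Nat.gcd_dvd_right _ _) h1

theorem rpart_plus {m : ℕ} (hm : 4 ≤ m) {r : ℕ} [hr : Fact r.Prime] [CharP F r] :
    Nat.card F ^ (m * (m - 1)) ≤ ordProj[r] (Nat.card (Cfsg.POmega F (Cfsg.quadFormPlus m F))) := by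
  have : Fintype F := Fintype.ofFinite F
  have h1 := S0293.result (F := F) rfl m hm
  rw [← Nat.card_eq_fintype_card, mul_assoc] at h1
  obtain ⟨n, -, hn⟩ := FiniteField.card F r
  exact le_ordProj Nat.card_pos ⟨n, by rw [Nat.card_eq_fintype_card, hn]⟩ (coprime_gcd Nat.card_pos (by omega)) h1

theorem rpart_minus {m : ℕ} (hm : 4 ≤ m) (a b : F)
    (hab : ∀ z₁ z₂ : F, z₁ ^ 2 + a * z₁ * z₂ + b * z₂ ^ 2 = 0 → z₁ = 0 ∧ z₂ = 0) {r : ℕ} [hr : Fact r.Prime]
    [CharP F r] :
    Nat.card F ^ (m * (m - 1)) ≤ ordProj[r] (Nat.card (Cfsg.POmega F (Cfsg.quadFormMinus (m - 1) F a b))) := by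
  have : Fintype F := Fintype.ofFinite F
  have h1 := S0294.result (F := F) rfl m hm a b hab
  rw [← Nat.card_eq_fintype_card, mul_assoc] at h1
  obtain ⟨n, -, hn⟩ := FiniteField.card F r
  exact le_ordProj Nat.card_pos ⟨n, by rw [Nat.card_eq_fintype_card, hn]⟩ (coprime_gcd' (by omega)) h1

theorem rpart_odd {m : ℕ} (hm : 3 ≤ m) (ho : Odd (Nat.card F)) {r : ℕ} [hr : Fact r.Prime] [CharP F r] :
    Nat.card F ^ (m * (m - 1)) ≤ ordProj[r] (Nat.card (Cfsg.POmega F (Cfsg.quadFormOdd m F))) := by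
  have : Fintype F := Fintype.ofFinite F
  have h1 := S0292.result (F := F) rfl (by rwa [← Nat.card_eq_fintype_card]) m hm
  rw [← Nat.card_eq_fintype_card] at h1
  obtain ⟨n, -, hn⟩ := FiniteField.card F r
  have h2 : m ^ 2 = m * (m - 1) + m := by
    obtain ⟨k, rfl⟩ : ∃ k, m = k + 1 := ⟨m - 1, by omega⟩
    simp only [Nat.add_sub_cancel]
    ring
  rw [h2, pow_add, mul_assoc] at h1
  exact le_ordProj Nat.card_pos ⟨n, by rw [Nat.card_eq_fintype_card, hn]⟩ (Nat.coprime_two_right.2 ho) h1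

/-- the Steinberg character from a `p`-subgroup `D` -/
theorem st_form {ι : Type} [Fintype ι] [DecidableEq ι] {Q : QuadraticForm F (ι → F)} (hG : Good Q) {r : ℕ}
    [hr : Fact r.Prime] [CharP F r] (hR : Nodes.RGDChev.HasRGD r (Cfsg.POmega F ⇑Q)) (hpr : p ≠ r)
    (hD : ∃ D : Subgroup (Cfsg.Omega F ⇑Q), IsPGroup p D ∧
      (∀ U : Submodule F (ι → F), (∀ d ∈ D, ∀ v ∈ U, omRho Q d v ∈ U) → (quadPol Q).TI U → U = ⊥) ∧
      ∀ v, (∀ d ∈ D, omRho Q d v = v) → v = 0) :
    ∃ χ : IrrCharacter (Cfsg.POmega F ⇑Q), InB0 p χ ∧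
      charDegree (χ : Cfsg.POmega F ⇑Q → ℂ) = ordProj[r] (Nat.card (Cfsg.POmega F ⇑Q)) := by
  obtain ⟨D, h1, h2, h3⟩ := hD
  obtain ⟨M, hM⟩ := Blocks.Knorr.exists_isPModular p
  obtain ⟨χ, h4, h5⟩ := StD.exists_st_of_noD hR hpr hM (fun D' V hV hV1 => NoD.noD (r := r) hG h1 h2 h3 D' V hV hV1)
  exact ⟨χ, InB0.of_mem hM h4, h5⟩

theorem prime_ne {r : ℕ} [hr : Fact r.Prime] [CharP F r] (hpq : ¬ p ∣ Nat.card F) : p ≠ r := by
  rintro rfl
  exact hpq (NoD.card_F_dvd)

theorem st_plus {m : ℕ} (hm : 4 ≤ m) (hpq : ¬ p ∣ Nat.card F)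
    (hD : ∃ D : Subgroup (Cfsg.Omega F ⇑(plusForm m F)), IsPGroup p D ∧
      (∀ U : Submodule F (Fin m ⊕ Fin m → F), (∀ d ∈ D, ∀ v ∈ U, omRho (plusForm m F) d v ∈ U) →
        (quadPol (plusForm m F)).TI U → U = ⊥) ∧
      ∀ v, (∀ d ∈ D, omRho (plusForm m F) d v = v) → v = 0) :
    ∃ χ : IrrCharacter (Cfsg.POmega F ⇑(plusForm m F)), InB0 p χ ∧
      Nat.card F ^ (m * (m - 1)) ≤ charDegree (χ : Cfsg.POmega F ⇑(plusForm m F) → ℂ) := by
  have : Fintype F := Fintype.ofFinite F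
  obtain ⟨r, -, hr, hchar, -⟩ := exists_card F
  have hr' : Fact r.Prime := ⟨hr⟩
  have hG : Good (plusForm m F) := (typ_plus F (by omega)).good (by
    rw [Fintype.card_sum, Fintype.card_fin]
    omega)
  have hR : Nodes.RGDChev.HasRGD r (Cfsg.POmega F ⇑(plusForm m F)) := by
    obtain ⟨n, rfl⟩ : ∃ n, m = n + 3 := ⟨m - 3, by omega⟩
    rw [coe_plusForm]
    exact Nodes.WittInst.hasRGD_PO_plus n
  obtain ⟨χ, h1, h2⟩ := st_form hG hR (prime_ne hpq) hD
  refine ⟨χ, h1, ?_⟩
  rw [h2]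
  have h3 := rpart_plus (F := F) hm (r := r)
  rw [← coe_plusForm] at h3
  exact h3

theorem st_minus {m : ℕ} (hm : 4 ≤ m) (a b : F)
    (hab : ∀ z₁ z₂ : F, z₁ ^ 2 + a * z₁ * z₂ + b * z₂ ^ 2 = 0 → z₁ = 0 ∧ z₂ = 0) (hpq : ¬ p ∣ Nat.card F)
    (hD : ∃ D : Subgroup (Cfsg.Omega F ⇑(minusForm (m - 1) F a b)), IsPGroup p D ∧
      (∀ U : Submodule F ((Fin (m - 1) ⊕ Fin (m - 1)) ⊕ Fin 2 → F),
        (∀ d ∈ D, ∀ v ∈ U, omRho (minusForm (m - 1) F a b) d v ∈ U) →
        (quadPol (minusForm (m - 1) F a b)).TI U → U = ⊥) ∧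
      ∀ v, (∀ d ∈ D, omRho (minusForm (m - 1) F a b) d v = v) → v = 0) :
    ∃ χ : IrrCharacter (Cfsg.POmega F ⇑(minusForm (m - 1) F a b)), InB0 p χ ∧
      Nat.card F ^ (m * (m - 1)) ≤ charDegree (χ : Cfsg.POmega F ⇑(minusForm (m - 1) F a b) → ℂ) := by
  have : Fintype F := Fintype.ofFinite F
  obtain ⟨r, -, hr, hchar, -⟩ := exists_card F
  have hr' : Fact r.Prime := ⟨hr⟩
  have hG : Good (minusForm (m - 1) F a b) := (typ_minus F a b hab (by omega)).good (by
    rw [Fintype.card_sum, Fintype.card_sum, Fintype.card_fin, Fintype.card_fin]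
    omega)
  have hR : Nodes.RGDChev.HasRGD r (Cfsg.POmega F ⇑(minusForm (m - 1) F a b)) := by
    rw [coe_minusForm]
    exact Nodes.WittInst.hasRGD_PO_minus a b hab (by omega)
  obtain ⟨χ, h1, h2⟩ := st_form hG hR (prime_ne hpq) hD
  refine ⟨χ, h1, ?_⟩
  rw [h2]
  have h3 := rpart_minus (F := F) hm a b hab (r := r)
  rw [← coe_minusForm] at h3
  exact h3

/-- from a covered group to the group -/
theorem beta_cover {X : Type u} [Group X] [Finite X] {Y : Type v} [Group Y] {b : ℕ}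
    (h : ∃ (H : Subgroup X) (π : H →* Y), Function.Surjective π)
    (hβ : ∃ χ : IrrCharacter Y, InB0 p χ ∧ b ≤ charDegree (χ : Y → ℂ)) :
    ∃ β : IrrCharacter X, InB0 p β ∧ b ≤ charDegree (β : X → ℂ) := by
  obtain ⟨H, π, hπ⟩ := h
  obtain ⟨χ, h1, h2⟩ := hβ
  obtain ⟨χ', h3, h4⟩ := inflate π hπ h1
  obtain ⟨β, h5, h6⟩ := H978.BD.exists_over H.subtype (Subgroup.subtype_injective _) χ' h3
  exact ⟨β, h5, h2.trans (h4 ▸ h6)⟩

/-- the Steinberg character of `SL_v(q ^ D)` -/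
theorem beta_levi {X : Type u} [Group X] [Finite X] (hp2 : p ≠ 2) {D v : ℕ} (hD : 0 < D) (hv : 1 ≤ v)
    (hpD : p ∣ Nat.card F ^ D - 1)
    (l : ∃ l : Matrix.SpecialLinearGroup (Fin (v * D)) F →* X, Function.Injective l) :
    ∃ β : IrrCharacter X, InB0 p β ∧ Nat.card F ^ (D * (v * (v - 1) / 2)) ≤ charDegree (β : X → ℂ) := by
  obtain ⟨l, hl⟩ := l
  obtain ⟨L, iL, fL, hL, f, hf⟩ := Restr.exists_restr F (v := v) hD rfl
  obtain ⟨M, hM⟩ := Blocks.Knorr.exists_isPModular p
  obtain ⟨χ, h1, h2⟩ := StSL.exists_st (F := L) hp2 (by rw [hL]; exact hpD) hv hM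
  obtain ⟨β, h3, h4⟩ := H978.BD.exists_over (l.comp f) (hl.comp hf) χ (InB0.of_mem hM h1)
  refine ⟨β, h3, ?_⟩
  rw [hL, ← pow_mul] at h2
  exact h2.trans h4

end st

end Cfsg.Agent.H674.BD.Parts
end

-- part: H31/BD/Num
section
/-!
# Inequalities for the big defect rows of POmega (helper31)
-/

set_option autoImplicit false

namespace Cfsg.Agent.H31.BD

/-- the common combination: all the data as powers of `q` -/
theorem combine {q o A P B a b c : ℕ} (hq : 1 < q) (ho : 4 * o ^ 5 ≤ q ^ 12) (hA : A ≤ q ^ a) (hP : P ^ 6 ≤ q ^ b)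
    (hB : q ^ c ≤ B) (h : 24 + 4 * a + b ≤ 4 * c) : 4 * o ^ 5 * A ^ 2 * P ^ 3 ≤ B ^ 2 := by
  have h1 : (4 * o ^ 5 * A ^ 2 * P ^ 3) ^ 2 ≤ (B ^ 2) ^ 2 := by
    calc (4 * o ^ 5 * A ^ 2 * P ^ 3) ^ 2 = (4 * o ^ 5) ^ 2 * A ^ 4 * P ^ 6 := by ring
      _ ≤ (q ^ 12) ^ 2 * (q ^ a) ^ 4 * q ^ b := by gcongr
      _ = q ^ (24 + 4 * a + b) := by rw [← pow_mul, ← pow_mul, ← pow_add, ← pow_add]; ring_nf
      _ ≤ q ^ (4 * c) := Nat.pow_le_pow_right (by omega) h
      _ = (q ^ c) ^ 4 := by rw [← pow_mul]; ring_nf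
      _ ≤ B ^ 4 := Nat.pow_le_pow_left hB 4
      _ = (B ^ 2) ^ 2 := by ring
  exact (Nat.pow_le_pow_iff_left (by norm_num)).1 h1

/-- `4 o ^ 5 ≤ q ^ 12` -/
theorem ho12 {q o : ℕ} (hq : 2 ≤ q) (ho : o ≤ q ^ 2) : 4 * o ^ 5 ≤ q ^ 12 := by
  calc 4 * o ^ 5 ≤ q ^ 2 * (q ^ 2) ^ 5 := by
        gcongr
        nlinarith
    _ = q ^ 12 := by ring

/-- `27 (x + 1) ^ 6 ≤ x ^ 10`, `x ≥ 4` -/
theorem pow10 {x : ℕ} (hx : 4 ≤ x) : 27 * (x + 1) ^ 6 ≤ x ^ 10 := by
  obtain ⟨y, rfl⟩ := Nat.exists_eq_add_of_le hx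
  -- 4 (x + 1) ≤ 5 x
  have h1 : (4 * (4 + y + 1)) ^ 6 ≤ (5 * (4 + y)) ^ 6 := Nat.pow_le_pow_left (by omega) 6
  have h2 : 27 * 5 ^ 6 ≤ 4 ^ 6 * (4 + y) ^ 4 := by
    calc 27 * 5 ^ 6 ≤ 4 ^ 6 * 4 ^ 4 := by norm_num
      _ ≤ 4 ^ 6 * (4 + y) ^ 4 := by gcongr
  have h3 : 4 ^ 6 * (27 * (4 + y + 1) ^ 6) ≤ 4 ^ 6 * (4 + y) ^ 10 := by
    calc 4 ^ 6 * (27 * (4 + y + 1) ^ 6) = 27 * (4 * (4 + y + 1)) ^ 6 := by rw [mul_pow]; ring
      _ ≤ 27 * (5 * (4 + y)) ^ 6 := by gcongr
      _ = (27 * 5 ^ 6) * (4 + y) ^ 6 := by rw [mul_pow]; ring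
      _ ≤ (4 ^ 6 * (4 + y) ^ 4) * (4 + y) ^ 6 := by gcongr
      _ = 4 ^ 6 * (4 + y) ^ 10 := by ring
  exact Nat.le_of_mul_le_mul_left h3 (by norm_num)

/-- `27 (x + 1) ^ 6 ≤ x ^ 8`, `x ≥ 8` -/
theorem pow8 {x : ℕ} (hx : 8 ≤ x) : 27 * (x + 1) ^ 6 ≤ x ^ 8 := by
  obtain ⟨y, rfl⟩ := Nat.exists_eq_add_of_le hx
  have h1 : (8 * (8 + y + 1)) ^ 6 ≤ (9 * (8 + y)) ^ 6 := Nat.pow_le_pow_left (by omega) 6
  have h2 : 27 * 9 ^ 6 ≤ 8 ^ 6 * (8 + y) ^ 2 := by
    calc 27 * 9 ^ 6 ≤ 8 ^ 6 * 8 ^ 2 := by norm_num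
      _ ≤ 8 ^ 6 * (8 + y) ^ 2 := by gcongr
  have h3 : 8 ^ 6 * (27 * (8 + y + 1) ^ 6) ≤ 8 ^ 6 * (8 + y) ^ 8 := by
    calc 8 ^ 6 * (27 * (8 + y + 1) ^ 6) = 27 * (8 * (8 + y + 1)) ^ 6 := by rw [mul_pow]; ring
      _ ≤ 27 * (9 * (8 + y)) ^ 6 := by gcongr
      _ = (27 * 9 ^ 6) * (8 + y) ^ 6 := by rw [mul_pow]; ring
      _ ≤ (8 ^ 6 * (8 + y) ^ 2) * (8 + y) ^ 6 := by gcongr
      _ = 8 ^ 6 * (8 + y) ^ 8 := by ring
  exact Nat.le_of_mul_le_mul_left h3 (by norm_num)

/-- the bound for `P ^ 6` -/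
theorem P6 {x P k n e : ℕ} (h27 : 27 * (x + 1) ^ 6 ≤ x ^ n) (hP : P ^ 2 ≤ (3 * (x + 1) ^ 2) ^ k) (he : e = n * k) :
    P ^ 6 ≤ x ^ e := by
  subst he
  calc P ^ 6 = (P ^ 2) ^ 3 := by ring
    _ ≤ ((3 * (x + 1) ^ 2) ^ k) ^ 3 := by gcongr
    _ = (27 * (x + 1) ^ 6) ^ k := by
        rw [← pow_mul, mul_comm k 3, pow_mul]
        congr 1
        ring
    _ ≤ (x ^ n) ^ k := by gcongr
    _ = x ^ (n * k) := by rw [← pow_mul]

theorem ineqA {q m o A P B : ℕ} (hq : 4 ≤ q) (hm : 9 ≤ m) (ho : o ≤ q ^ 2) (hA : A < q ^ (2 * m + 1))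
    (hP : P ^ 2 ≤ (3 * (q + 1) ^ 2) ^ m) (hB : q ^ (m * (m - 1)) ≤ B) : 4 * o ^ 5 * A ^ 2 * P ^ 3 ≤ B ^ 2 := by
  refine combine (by omega) (ho12 (by omega) ho) hA.le (P6 (pow10 hq) hP rfl) hB ?_
  obtain ⟨k, rfl⟩ := Nat.exists_eq_add_of_le hm
  have h1 : 9 + k - 1 = 8 + k := by omega
  rw [h1]
  nlinarith only []

theorem ineqB {q e p w o A P B : ℕ} (hq : 2 ≤ q) (he : 3 ≤ e) (hp : 2 * e + 1 ≤ p) (hw : p ^ 2 ≤ w)
    (ho : o ≤ q ^ 2) (hA : A < q ^ (2 * e * (w + 1) * e)) (hP : P ^ 2 ≤ (3 * (q ^ e + 1) ^ 2) ^ (w + 1))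
    (hB : q ^ (e * ((w - 1) * (w - 2) / 2)) ≤ B) : 4 * o ^ 5 * A ^ 2 * P ^ 3 ≤ B ^ 2 := by
  have hx : 8 ≤ q ^ e := by
    calc 8 = 2 ^ 3 := by norm_num
      _ ≤ q ^ 3 := Nat.pow_le_pow_left hq 3
      _ ≤ q ^ e := Nat.pow_le_pow_right (by omega) he
  have h6 := P6 (pow8 hx) hP rfl
  rw [← pow_mul] at h6
  refine combine (by omega) (ho12 hq ho) hA.le h6 hB ?_
  have h1 : (2 * e + 1) ^ 2 ≤ w := (Nat.pow_le_pow_left hp 2).trans hw
  have hw1 : 49 ≤ w := le_trans (by nlinarith only [he]) h1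
  obtain ⟨u, rfl⟩ := Nat.exists_eq_add_of_le hw1
  have h3 : 49 + u - 1 = 48 + u := by omega
  have h3' : 49 + u - 2 = 47 + u := by omega
  rw [h3, h3']
  obtain ⟨k, hk⟩ : ∃ k, (48 + u) * (47 + u) = 2 * k := by
    have h2 := Nat.even_mul_succ_self (47 + u)
    obtain ⟨k, hk⟩ := h2
    refine ⟨k, ?_⟩
    rw [← two_mul] at hk
    rw [← hk, mul_comm]
    congr 1
    omega
  rw [hk, Nat.mul_div_cancel_left _ (by norm_num : 0 < 2)]
  have h4 : 4 * e + 4 * e ^ 2 ≤ 48 + u := by linarith only [h1]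
  have h5 : 4 * (e * k) = e * (2 * ((48 + u) * (47 + u))) := by rw [hk]; ring
  rw [h5]
  nlinarith only [he, hk, Nat.mul_le_mul_left (49 + u + 1) h4]

theorem ineqC {q f p w o A P B : ℕ} (hq : 2 ≤ q) (hx : 4 ≤ q ^ f) (hf : 1 ≤ f) (hp : 2 * f + 1 ≤ p) (hw : p ^ 2 ≤ w)
    (ho : o ≤ q ^ 2) (hA : A < q ^ (2 * f * (w + 1) * (2 * f))) (hP : P ^ 2 ≤ (3 * (q ^ f + 1) ^ 2) ^ (w + 1))
    (hB : q ^ (f * w * (f * w - 1)) ≤ B) : 4 * o ^ 5 * A ^ 2 * P ^ 3 ≤ B ^ 2 := by
  have h6 := P6 (pow10 hx) hP rfl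
  rw [← pow_mul] at h6
  refine combine (by omega) (ho12 hq ho) hA.le h6 hB ?_
  have h1 : (2 * f + 1) ^ 2 ≤ w := (Nat.pow_le_pow_left hp 2).trans hw
  have hw1 : 9 ≤ w := le_trans (by nlinarith only [hf]) h1
  obtain ⟨u, rfl⟩ := Nat.exists_eq_add_of_le hw1
  obtain ⟨k, rfl⟩ := Nat.exists_eq_add_of_le hf
  have h3 : (1 + k) * (9 + u) - 1 = 8 + u + k * (9 + u) := by
    have h4 : (1 + k) * (9 + u) = 8 + u + k * (9 + u) + 1 := by ring
    omega
  rw [h3]
  have h5 : 4 * ((1 + k) * (9 + u) * (8 + u + k * (9 + u))) =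
      24 + 4 * (2 * (1 + k) * (9 + u + 1) * (2 * (1 + k))) + (1 + k) * (10 * (9 + u + 1)) +
      (4 * u ^ 2 * k ^ 2 + 8 * u ^ 2 * k + 4 * u ^ 2 + 56 * u * k ^ 2 + 98 * u * k + 42 * u + 164 * k ^ 2 + 192 * k + 4) := by
    ring
  rw [h5]
  exact Nat.le_add_right _ _

theorem combineD {m w o A P B : ℕ} {b : ℕ} (ho : o ≤ 2) (hA : A < 2 ^ (4 * m)) (hP : P ^ 6 ≤ 2 ^ b)
    (hB : 2 ^ (w * (w - 1)) ≤ B) (h : 14 + 16 * m + b ≤ 4 * (w * (w - 1))) : 4 * o ^ 5 * A ^ 2 * P ^ 3 ≤ B ^ 2 := by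
  have h0 : 4 * o ^ 5 ≤ 2 ^ 7 := by
    calc 4 * o ^ 5 ≤ 4 * 2 ^ 5 := by gcongr
      _ = 2 ^ 7 := by norm_num
  have h1 : (4 * o ^ 5 * A ^ 2 * P ^ 3) ^ 2 ≤ (B ^ 2) ^ 2 := by
    calc (4 * o ^ 5 * A ^ 2 * P ^ 3) ^ 2 = (4 * o ^ 5) ^ 2 * A ^ 4 * P ^ 6 := by ring
      _ ≤ (2 ^ 7) ^ 2 * (2 ^ (4 * m)) ^ 4 * 2 ^ b := by gcongr
      _ = 2 ^ (14 + 16 * m + b) := by rw [← pow_mul, ← pow_mul, ← pow_add, ← pow_add]; ring_nf
      _ ≤ 2 ^ (4 * (w * (w - 1))) := Nat.pow_le_pow_right (by norm_num) h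
      _ = (2 ^ (w * (w - 1))) ^ 4 := by rw [← pow_mul]; ring_nf
      _ ≤ B ^ 4 := Nat.pow_le_pow_left hB 4
      _ = (B ^ 2) ^ 2 := by ring
  exact (Nat.pow_le_pow_iff_left (by norm_num)).1 h1

theorem ineqD {m w o A P B : ℕ} (h : (m = w ∧ 9 ≤ w) ∨ (m = w + 1 ∧ 10 ≤ w)) (ho : o ≤ 2) (hA : A < 2 ^ (4 * m))
    (hP : P ^ 2 ≤ 27 ^ m) (hB : 2 ^ (w * (w - 1)) ≤ B) : 4 * o ^ 5 * A ^ 2 * P ^ 3 ≤ B ^ 2 := by
  have h15 : P ^ 6 ≤ 2 ^ (15 * m) := by
    calc P ^ 6 = (P ^ 2) ^ 3 := by ring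
      _ ≤ (27 ^ m) ^ 3 := by gcongr
      _ = (27 ^ 3) ^ m := by rw [← pow_mul, ← pow_mul, mul_comm]
      _ ≤ (2 ^ 15) ^ m := Nat.pow_le_pow_left (by norm_num) m
      _ = 2 ^ (15 * m) := by rw [← pow_mul]
  by_cases h9 : w = 9
  · have hm : m = 9 := by omega
    subst h9 hm
    refine combineD ho hA (b := 129) ?_ hB (by norm_num)
    calc P ^ 6 = (P ^ 2) ^ 3 := by ring
      _ ≤ (27 ^ 9) ^ 3 := by gcongr
      _ ≤ 2 ^ 129 := by norm_num
  · refine combineD ho hA h15 hB ?_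
    have hw : 10 ≤ w := by omega
    have hm : m ≤ w + 1 := by omega
    obtain ⟨u, rfl⟩ := Nat.exists_eq_add_of_le hw
    have h3 : 10 + u - 1 = 9 + u := by omega
    rw [h3]
    nlinarith only [hm]

theorem ineqE {o A P B : ℕ} (ho : o ≤ 2) (hA : A < 22839208876) (hP : P ^ 2 ≤ 27 ^ 9) (hB : 2 ^ 72 ≤ B) :
    4 * o ^ 5 * A ^ 2 * P ^ 3 ≤ B ^ 2 := by
  have h1 : (4 * o ^ 5 * A ^ 2 * P ^ 3) ^ 2 ≤ (B ^ 2) ^ 2 := by
    calc (4 * o ^ 5 * A ^ 2 * P ^ 3) ^ 2 = (4 * o ^ 5) ^ 2 * A ^ 4 * (P ^ 2) ^ 3 := by ring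
      _ ≤ (4 * 2 ^ 5) ^ 2 * 22839208876 ^ 4 * (27 ^ 9) ^ 3 := by gcongr
      _ ≤ (2 ^ 72) ^ 4 := by norm_num
      _ ≤ B ^ 4 := Nat.pow_le_pow_left hB 4
      _ = (B ^ 2) ^ 2 := by ring
  exact (Nat.pow_le_pow_iff_left (by norm_num)).1 h1

end Cfsg.Agent.H31.BD
end

-- part: H674/BD/Rows
section
/-!
# The `Kill` rows of the orthogonal groups, `p` odd, cross characteristic: the linear types (helper674)
-/

set_option autoImplicit false
set_option linter.unusedSectionVars false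

namespace Cfsg.Agent.H674.BD.Rows

open Cfsg Cfsg.Agent.H589.BD Cfsg.Agent.H2.Pol Cfsg.Agent.H410.BR Cfsg.Agent.H674.BD.Parts
  Cfsg.Agent.H674.BD.OmNum
open Cfsg.Agent.LieClassical Cfsg.Agent.LieClassical.OrthCore Cfsg.Agent.LieClassical.OrthTrans
  Cfsg.Agent.LieClassical.OrthFinite Cfsg.Agent.LieClassical.OrthForms

universe u

variable {p : ℕ} [hp : Fact p.Prime]

theorem card_out_congr {S : Type u} [Group S] [Finite S] [IsSimpleGroup S] (hna : ¬ IsMulCommutative S)
    {X : Type} [Group X] [Finite X] (e : S ≃* X) : Nat.card (Cfsg.Out S) = Nat.card (Cfsg.Out X) := by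
  have hX : IsSimpleGroup X := e.symm.isSimpleGroup
  have hnX : ¬ IsMulCommutative X := by
    intro hc
    apply hna
    refine ⟨⟨fun a b => e.injective ?_⟩⟩
    rw [map_mul, map_mul]
    exact hc.is_comm.comm _ _
  have h1 := Cfsg.Agent.H254.card_out hna
  have h2 := Cfsg.Agent.H254.card_out hnX
  have h3 : Nat.card (MulAut S) = Nat.card (MulAut X) := Nat.card_congr (MulAut.congr e).toEquiv
  have h4 : Nat.card S = Nat.card X := Nat.card_congr e.toEquiv
  rw [h3, ← h2, h4] at h1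
  exact Nat.eq_of_mul_eq_mul_right Nat.card_pos h1

/-- **The assembly.** -/
theorem kill_om {S : Type u} [Group S] [Finite S] [IsSimpleGroup S] (hna : ¬ IsMulCommutative S) (hS : SizeOK S)
    (hpS : p ∣ Nat.card S) {X : Type} [Group X] [Finite X] (e : S ≃* X) {A b : ℕ}
    (hα : ∃ α : IrrCharacter X, InB0 p α ∧ NT α ∧ charDegree (α : X → ℂ) < A)
    (hβ : ∃ β : IrrCharacter X, InB0 p β ∧ b ≤ charDegree (β : X → ℂ))
    (hnum : ∀ a B : ℕ, a < A → b ≤ B →
      4 * Nat.card (Cfsg.Out X) ^ 5 * a ^ 2 * (ordProj[p] (Nat.card X)) ^ 3 ≤ B ^ 2) : Kill p S := by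
  obtain ⟨α, h1, h2, h3⟩ := hα
  obtain ⟨β, h4, h5⟩ := hβ
  refine kill_of hna hS hpS (tr e α) (tr e β) (h1.tr e) (h4.tr e) (h2.tr e) ?_
  rw [charDegree_tr, charDegree_tr, card_out_congr hna e, Nat.card_congr e.toEquiv]
  exact hnum _ _ h3 h5

theorem dvd_pow_sub {q : ℕ} (hq : 1 ≤ q) {k : ℕ} (h : orderOf (q : ZMod p) ∣ k) : p ∣ q ^ k - 1 := by
  have h1 : (q : ZMod p) ^ k = 1 := orderOf_dvd_iff_pow_eq_one.1 h
  rw [← ZMod.natCast_eq_zero_iff, Nat.cast_sub (Nat.one_le_pow _ _ hq), Nat.cast_pow, Nat.cast_one, h1, sub_self]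

theorem four_le {q : ℕ} (hp2 : p ≠ 2) (hq : 2 ≤ q) (hd : p ∣ q - 1) : 4 ≤ q := by
  have h1 := hp.out.two_le
  have h2 := Nat.le_of_dvd (by omega) hd
  omega

theorem nine_le (hp2 : p ≠ 2) : 9 ≤ p ^ 2 := by
  have h1 := hp.out.two_le
  have h2 : 3 ≤ p := by omega
  nlinarith

section fams

variable {S : Type u} [Group S] [Finite S] [IsSimpleGroup S] {F : Type} [Field F] [Fintype F] {m : ℕ}

theorem good_odd' (hm : 3 ≤ m) (ho : Odd (Nat.card F)) : Good (oddForm m F) :=
  (typ_odd F (PomegaCard.odd_card_iff.1 (by rwa [← Nat.card_eq_fintype_card])) (by omega)).good (by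
    rw [Fintype.card_sum, Fintype.card_sum, Fintype.card_fin, Fintype.card_unit]
    omega)

theorem good_plus' (hm : 4 ≤ m) : Good (plusForm m F) := (typ_plus F (by omega)).good (by
  rw [Fintype.card_sum, Fintype.card_fin]
  omega)

theorem good_minus' (a b : F) (hab : ∀ z₁ z₂ : F, z₁ ^ 2 + a * z₁ * z₂ + b * z₂ ^ 2 = 0 → z₁ = 0 ∧ z₂ = 0)
    (hm : 4 ≤ m) : Good (minusForm (m - 1) F a b) := (typ_minus F a b hab (by omega)).good (by
  rw [Fintype.card_sum, Fintype.card_sum, Fintype.card_fin, Fintype.card_fin]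
  omega)

/-- the small degree, odd dimension -/
theorem alpha_odd (hp2 : p ≠ 2) (hm : 3 ≤ m) (ho : Odd (Nat.card F)) (hpq : ¬ p ∣ Nat.card F) {k : ℕ} (hk : 0 < k)
    (hpk : p ∣ Nat.card F ^ k - 1) (hpS : p ∣ Nat.card (Cfsg.POmega F (Cfsg.quadFormOdd m F))) :
    ∃ α : IrrCharacter (Cfsg.POmega F (Cfsg.quadFormOdd m F)), InB0 p α ∧ NT α ∧
      charDegree (α : Cfsg.POmega F (Cfsg.quadFormOdd m F) → ℂ) < Nat.card F ^ ((2 * m + 1) * k) := by
  rw [← coe_oddForm] at hpS ⊢
  have h1 := alpha_om (good_odd' hm ho) hp2 hpq hk hpk hpS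
  have h2 : Fintype.card (Unit ⊕ (Fin m ⊕ Fin m)) = 2 * m + 1 := by
    rw [Fintype.card_sum, Fintype.card_sum, Fintype.card_fin, Fintype.card_unit]
    omega
  rwa [h2] at h1

theorem alpha_plus (hp2 : p ≠ 2) (hm : 4 ≤ m) (hpq : ¬ p ∣ Nat.card F) {k : ℕ} (hk : 0 < k)
    (hpk : p ∣ Nat.card F ^ k - 1) (hpS : p ∣ Nat.card (Cfsg.POmega F (Cfsg.quadFormPlus m F))) :
    ∃ α : IrrCharacter (Cfsg.POmega F (Cfsg.quadFormPlus m F)), InB0 p α ∧ NT α ∧
      charDegree (α : Cfsg.POmega F (Cfsg.quadFormPlus m F) → ℂ) < Nat.card F ^ (2 * m * k) := by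
  rw [← coe_plusForm] at hpS ⊢
  have h1 := alpha_om (good_plus' hm) hp2 hpq hk hpk hpS
  have h2 : Fintype.card (Fin m ⊕ Fin m) = 2 * m := by
    rw [Fintype.card_sum, Fintype.card_fin]
    omega
  rwa [h2] at h1

theorem alpha_minus (hp2 : p ≠ 2) (hm : 4 ≤ m) (a b : F)
    (hab : ∀ z₁ z₂ : F, z₁ ^ 2 + a * z₁ * z₂ + b * z₂ ^ 2 = 0 → z₁ = 0 ∧ z₂ = 0) (hpq : ¬ p ∣ Nat.card F) {k : ℕ}
    (hk : 0 < k) (hpk : p ∣ Nat.card F ^ k - 1)
    (hpS : p ∣ Nat.card (Cfsg.POmega F (Cfsg.quadFormMinus (m - 1) F a b))) :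
    ∃ α : IrrCharacter (Cfsg.POmega F (Cfsg.quadFormMinus (m - 1) F a b)), InB0 p α ∧ NT α ∧
      charDegree (α : Cfsg.POmega F (Cfsg.quadFormMinus (m - 1) F a b) → ℂ) < Nat.card F ^ (2 * m * k) := by
  rw [← coe_minusForm] at hpS ⊢
  have h1 := alpha_om (good_minus' a b hab hm) hp2 hpq hk hpk hpS
  have h2 : Fintype.card ((Fin (m - 1) ⊕ Fin (m - 1)) ⊕ Fin 2) = 2 * m := by
    rw [Fintype.card_sum, Fintype.card_sum, Fintype.card_fin, Fintype.card_fin]
    omega
  rwa [h2] at h1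

/-- from `StIn` -/
theorem beta_stIn {X : Type} [Group X] [Finite X] {r : ℕ} (h : Cfsg.Agent.H749.Bd.StIn p r X) {b : ℕ}
    (hb : b ≤ ordProj[r] (Nat.card X)) : ∃ β : IrrCharacter X, InB0 p β ∧ b ≤ charDegree (β : X → ℂ) := by
  obtain ⟨χ, h1, -, h3⟩ := h
  exact ⟨χ, h1, by rw [h3]; exact hb⟩

end fams

/-- The data of a family: `X` a simple classical group on a space of dimension `2 w + ε` -/
structure Fam0 (p : ℕ) (F : Type) [Field F] (X : Type) [Group X] (w ε : ℕ) : Prop where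
  eps : ε ≤ 2
  odd : ε = 1 → Odd (Nat.card F)
  out : Nat.card (Cfsg.Out X) ≤ Nat.card F ^ 2
  out2 : Nat.card F = 2 → Nat.card (Cfsg.Out X) ≤ 2
  alpha : ∀ k : ℕ, 0 < k → p ∣ Nat.card F ^ k - 1 → ∃ α : IrrCharacter X, InB0 p α ∧ NT α ∧
    charDegree (α : X → ℂ) < Nat.card F ^ ((2 * w + ε) * k)
  pp : ∀ f : ℕ, orderOf ((Nat.card F : ZMod p) ^ 2) = f →
    (ordProj[p] (Nat.card X)) ^ 2 ≤ (3 * (Nat.card F ^ f + 1) ^ 2) ^ ((w + ε / 2) / f)
  levi : ∀ n < w, ∃ l : Matrix.SpecialLinearGroup (Fin n) F →* X, Function.Injective l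
  st : p ∣ Nat.card F - 1 → ∃ β : IrrCharacter X, InB0 p β ∧
    Nat.card F ^ ((w + ε / 2) * (w + ε / 2 - 1)) ≤ charDegree (β : X → ℂ)

/-- The data of a family: `X` a simple orthogonal group of a form of type `Typ Q w ε` -/
structure Fam (p : ℕ) (F : Type) [Field F] (X : Type) [Group X] (w ε : ℕ) : Prop extends Fam0 p F X w ε where
  cov : ∀ f : ℕ, 0 < f → orderOf (Nat.card F : ZMod p) = 2 * f → 2 * f + 8 ≤ 2 * w + ε →
    ∃ w' : ℕ, 2 * f * w' ≤ 2 * w + ε ∧ 2 * w + ε ≤ 2 * f * (w' + 1) ∧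
      (2 * w + ε = 2 * f * (w' + 1) → ¬ p ∣ (Nat.card F ^ w - 1) * (Nat.card F ^ (w - 1 + ε) + 1)) ∧
      ∃ β : IrrCharacter X, InB0 p β ∧ Nat.card F ^ (f * w' * (f * w' - 1)) ≤ charDegree (β : X → ℂ)

section kill

variable {S : Type u} [Group S] [Finite S] [IsSimpleGroup S] {F : Type} [Field F] [Finite F] {w ε : ℕ}
  {X : Type} [Group X] [Finite X]

/-- order one -/
theorem kill_one (hp2 : p ≠ 2) (hna : ¬ IsMulCommutative S) (hS : SizeOK S) (hpS : p ∣ Nat.card S)
    (e : S ≃* X) (h : Fam0 p F X w ε) (he : orderOf (Nat.card F : ZMod p) = 1) (hw : p ^ 2 ≤ w) : Kill p S := by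
  have hd : p ∣ Nat.card F ^ 1 - 1 := dvd_pow_sub Nat.card_pos (by rw [he])
  have hd' : p ∣ Nat.card F - 1 := by rwa [pow_one] at hd
  have hq := four_le hp2 (Finite.one_lt_card (α := F)) hd'
  have heps := h.eps
  refine kill_om hna hS hpS e (h.alpha 1 one_pos hd) (h.st hd') ?_
  intro a B ha hB
  have hP := h.pp 1 (orderOf_sq_odd he odd_one)
  rw [pow_one, Nat.div_one] at hP
  rw [mul_one] at ha
  have h9 := nine_le hp2 (p := p)
  refine Cfsg.Agent.H31.BD.ineqA hq (m := w + ε / 2) (by omega) h.out (lt_of_lt_of_le ha ?_) hP hB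
  exact Nat.pow_le_pow_right (by omega) (by omega)

/-- odd order `≥ 3` -/
theorem kill_odd (hp2 : p ≠ 2) (hna : ¬ IsMulCommutative S) (hS : SizeOK S) (hpS : p ∣ Nat.card S)
    (e : S ≃* X) (h : Fam0 p F X w ε) (hpq : ¬ p ∣ Nat.card F) {d : ℕ} (he : orderOf (Nat.card F : ZMod p) = d)
    (ho : Odd d) (hd3 : 3 ≤ d) (hw : p ^ 2 * d ≤ w) : Kill p S := by
  have hd : p ∣ Nat.card F ^ d - 1 := dvd_pow_sub Nat.card_pos (by rw [he])
  have hq : 1 < Nat.card F := Finite.one_lt_card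
  have heps := h.eps
  have h9 := nine_le hp2 (p := p)
  set W := w / d with hW
  have hWp : p ^ 2 ≤ W := (Nat.le_div_iff_mul_le (by omega)).2 hw
  have hlt : w < d * (W + 1) := by
    have := Nat.lt_mul_div_succ w (by omega : 0 < d)
    rwa [← hW] at this
  have hle : d * W ≤ w := Nat.mul_div_le w d
  have hv : (W - 1) * d < w := by
    have h1 : (W - 1) * d + d = W * d := by
      rw [← Nat.succ_mul]
      congr 1
      omega
    have h2 : W * d ≤ w := by rwa [mul_comm] at hle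
    omega
  refine kill_om hna hS hpS e (h.alpha d (by omega) hd)
    (beta_levi hp2 (D := d) (v := W - 1) (by omega) (by omega) hd (h.levi _ hv)) ?_
  intro a B ha hB
  have hP := h.pp d (orderOf_sq_odd he ho)
  refine Cfsg.Agent.H31.BD.ineqB (w := W) hq hd3 (le_of_odd hp2 hpq he ho) hWp h.out (lt_of_lt_of_le ha ?_)
    (hP.trans ?_) ?_
  · refine Nat.pow_le_pow_right (by omega) (Nat.mul_le_mul_right _ ?_)
    have h3 : 2 * d * (W + 1) = 2 * (d * (W + 1)) := by ring
    omega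
  · refine Nat.pow_le_pow_right (by positivity) ?_
    have h4 : (w + ε / 2) ≤ d * (W + 1) := by omega
    calc (w + ε / 2) / d ≤ d * (W + 1) / d := Nat.div_le_div_right h4
      _ = W + 1 := Nat.mul_div_cancel_left _ (by omega)
  · have h5 : W - 1 - 1 = W - 2 := by omega
    rw [← h5]
    exact hB

/-- `q ^ f ≡ -1` -/
theorem dvd_add_one {q f : ℕ} (hq : 1 ≤ q) (hf : 0 < f) (he : orderOf (q : ZMod p) = 2 * f) :
    p ∣ q ^ f + 1 := by
  have h1 : p ∣ q ^ (2 * f) - 1 := dvd_pow_sub hq (by rw [he])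
  rw [sub_one_eq hq] at h1
  rcases hp.out.dvd_mul.1 h1 with h2 | h2
  · exfalso
    have h3 : (q : ZMod p) ^ f = 1 := by
      have h4 : ((q ^ f - 1 : ℕ) : ZMod p) = 0 := (ZMod.natCast_eq_zero_iff _ _).2 h2
      rw [Nat.cast_sub (Nat.one_le_pow _ _ hq), Nat.cast_pow, Nat.cast_one, sub_eq_zero] at h4
      exact h4
    have h5 := orderOf_dvd_iff_pow_eq_one.2 h3
    rw [he] at h5
    have h6 := Nat.le_of_dvd hf h5
    omega
  · exact h2

theorem dvd_pow_add_one {q f k : ℕ} (h : p ∣ q ^ f + 1) (hk : Odd k) : p ∣ q ^ (f * k) + 1 := by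
  rw [pow_mul]
  have h1 : (q ^ f + 1) ∣ (q ^ f) ^ k + 1 ^ k := Odd.nat_add_dvd_pow_add_pow (q ^ f) 1 hk
  rw [one_pow] at h1
  exact h.trans h1

/-- even order -/
theorem kill_even (hp2 : p ≠ 2) (hna : ¬ IsMulCommutative S) (hS : SizeOK S) (hpS : p ∣ Nat.card S)
    (e : S ≃* X) (h : Fam p F X w ε) (hpq : ¬ p ∣ Nat.card F) {f : ℕ} (hf : 0 < f)
    (he : orderOf (Nat.card F : ZMod p) = 2 * f)
    (hw : p ^ 2 * (2 * f) < 2 * w + ε ∨ (p ^ 2 * (2 * f) = 2 * w + ε ∧ ε = 2))
    (exc : Nat.card F = 2 → ε = 2 → w = 9 → p = 3 → Kill p S) : Kill p S := by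
  have hq : 1 < Nat.card F := Finite.one_lt_card
  have heps := h.eps
  have h9 := nine_le hp2 (p := p)
  have hp2f := le_of_even hpq he
  have hqf := dvd_add_one hq.le hf he
  have hd : p ∣ Nat.card F ^ (2 * f) - 1 := dvd_pow_sub hq.le (by rw [he])
  have h9f : 9 * (2 * f) ≤ p ^ 2 * (2 * f) := Nat.mul_le_mul_right _ h9
  have hpar : Odd (p ^ 2) := (hp.out.odd_of_ne_two hp2).pow
  obtain ⟨w', h1, h2, h3, hβ⟩ := h.cov f hf he (by (clear * - hf hw h9f; omega))
  -- `w' ≥ p ^ 2`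
  have hw' : p ^ 2 ≤ w' := by
    by_contra hcon
    push Not at hcon
    have h4 : 2 * f * (w' + 1) ≤ 2 * f * p ^ 2 := Nat.mul_le_mul_left _ hcon
    have h5 : 2 * f * p ^ 2 = p ^ 2 * (2 * f) := mul_comm _ _
    rcases hw with hw | ⟨hw, hε⟩
    · omega
    · have h6 : 2 * w + ε = 2 * f * (w' + 1) := by omega
      apply h3 h6
      have h7 : w - 1 + ε = f * p ^ 2 := by
        have h8 : 2 * w + 2 = 2 * (f * p ^ 2) := by
          have h11 := hw
          rw [hε] at h11
          rw [← h11]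
          ring
        have h10 : 1 ≤ w := by
          by_contra h10
          have : w = 0 := by (clear * - h10; omega)
          rw [this, hε] at hw
          omega
        (clear * - hε h8 h10; omega)
      rw [h7]
      exact (dvd_pow_add_one hqf hpar).mul_left _
  by_cases hx : 4 ≤ Nat.card F ^ f
  · -- the general case
    refine kill_om hna hS hpS e (h.alpha (2 * f) (by omega) hd) hβ ?_
    intro a B ha hB
    have hP := h.pp f (orderOf_sq_even he)
    refine Cfsg.Agent.H31.BD.ineqC hq hx hf hp2f hw' h.out (lt_of_lt_of_le ha ?_) (hP.trans ?_) hB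
    · exact Nat.pow_le_pow_right (by omega) (Nat.mul_le_mul_right _ h2)
    · refine Nat.pow_le_pow_right (by positivity) ?_
      have h4 : 2 * f * (w' + 1) = 2 * (f * (w' + 1)) := by ring
      have h5 : (w + ε / 2) ≤ f * (w' + 1) := by omega
      calc (w + ε / 2) / f ≤ f * (w' + 1) / f := Nat.div_le_div_right h5
        _ = w' + 1 := Nat.mul_div_cancel_left _ hf
  · -- `q = 2`, `p = 3`
    have hq2 : Nat.card F = 2 ∧ f = 1 := by
      have h4 : Nat.card F ≤ Nat.card F ^ f := Nat.le_self_pow hf.ne' _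
      have h5 : Nat.card F ≠ 3 := by
        intro h5
        rw [h5] at hx hqf
        have h6 : f = 1 := by
          by_contra h6
          apply hx
          calc 4 ≤ 3 ^ 2 := by norm_num
            _ ≤ 3 ^ f := Nat.pow_le_pow_right (by norm_num) (by omega)
        rw [h6] at hqf
        have h7 : p ∣ 2 ^ 2 := by simpa using hqf
        exact hp2 ((Nat.prime_dvd_prime_iff_eq hp.out Nat.prime_two).1 (hp.out.dvd_of_dvd_pow h7))
      have h6 : Nat.card F = 2 := by omega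
      refine ⟨h6, ?_⟩
      by_contra h7
      apply hx
      rw [h6]
      calc 4 = 2 ^ 2 := by norm_num
        _ ≤ 2 ^ f := Nat.pow_le_pow_right (by norm_num) (by omega)
    obtain ⟨hq2, rfl⟩ := hq2
    have hp3 : p = 3 := by
      rw [hq2] at hqf
      have h7 : p ∣ 3 := by simpa using hqf
      exact (Nat.prime_dvd_prime_iff_eq hp.out Nat.prime_three).1 h7
    have hε1 : ε ≠ 1 := by
      intro h4
      have h5 := h.odd h4
      rw [hq2] at h5
      exact absurd h5 (by decide)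
    subst hp3
    rw [hq2] at h3 hβ hd hqf
    by_cases hex : ε = 2 ∧ w = 9
    · exact exc hq2 hex.1 hex.2 rfl
    refine kill_om hna hS hpS e (h.alpha (2 * 1) (by omega) (by rw [hq2]; exact hd)) hβ ?_
    intro a B ha hB
    have hP := h.pp 1 (orderOf_sq_even he)
    rw [hq2, pow_one, Nat.div_one] at hP
    rw [hq2] at ha
    have h27 : 3 * (2 + 1) ^ 2 = 27 := by norm_num
    rw [h27] at hP
    rw [one_mul] at hB
    refine Cfsg.Agent.H31.BD.ineqD (m := w + ε / 2) (w := w') ?_ (h.out2 hq2) ?_ hP hB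
    · -- the parity of `w'`
      have h4 : w + ε / 2 = w' ∨ w + ε / 2 = w' + 1 := by (clear * - h1 h2; omega)
      rcases h4 with h4 | h4
      · exact Or.inl ⟨h4, by omega⟩
      · right
        refine ⟨h4, ?_⟩
        have h5 : 2 * w + ε = 2 * 1 * (w' + 1) := by (clear * - h2 h4; omega)
        have h6 := h3 h5
        by_contra h7
        have h8 : w' = 9 := by omega
        rcases (show ε = 0 ∨ ε = 2 by (clear * - heps h2 hp h4; omega)) with h10 | h10
        · apply h6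
          have h11 : w = 10 := by (clear * - hw' h4 h7 h10; omega)
          rw [h10, h11]
          norm_num
        · exact hex ⟨h10, by (clear * - hw' h4 h7 h10; omega)⟩
    · refine lt_of_lt_of_le ha (Nat.pow_le_pow_right (by norm_num) ?_)
      (clear * - heps hε1; omega)

end kill

end Cfsg.Agent.H674.BD.Rows
end
end

-- part: H619/BD/Row
section
prune_inst 0x2303045406c62120000000596d3207e62f60005b0002b0000f1e00942058ffb228980af60e69019009248aa0500310000000000f0400000000e000000011c00a0802ac202b348a10ca00019003084000000000000000000000000000000041004000000000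
set_option linter.all false
open scoped Cfsg.Agent.FastGrp

-- part: H619/BD/Glue
section
/-!
# From the data `KD p S` to `Kill p S` (S4932, helper619)
-/

set_option autoImplicit false

open Cfsg

namespace Cfsg.Agent.H619.BD

open Cfsg.Agent.H589.BD Cfsg.Agent.H686.CharKit Cfsg.Agent.H684.BlockTools

universe u

theorem nt_of_degree {S : Type u} [Group S] {χ : IrrCharacter S} (h : 1 < charDegree (χ : S → ℂ)) : NT χ := by
  apply nt_of_ne_triv
  rintro rfl
  have h1 : charDegree ((triv S : IrrCharacter S) : S → ℂ) = 1 := (charDegree_eq_one_iff _).2 rfl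
  omega

theorem not_rel {o a b : ℕ} (ho : o ∣ 2) (h3 : a ≠ b) (h4 : a ≠ 2 * b) (h5 : b ≠ 2 * a) :
    ¬ Rel o a b := by
  rintro ⟨d, d', hd, hd', h⟩
  have h1 : d = 1 ∨ d = 2 := (Nat.dvd_prime Nat.prime_two).1 (hd.trans ho)
  have h2 : d' = 1 ∨ d' = 2 := (Nat.dvd_prime Nat.prime_two).1 (hd'.trans ho)
  rcases h1 with rfl | rfl <;> rcases h2 with rfl | rfl <;> omega

variable {p : ℕ} [Fact p.Prime] {S : Type u} [Group S] [Finite S] [IsSimpleGroup S]

/-- **`kill_common` for `|Out S| ≤ 2`.** -/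
theorem kill_of_pair (hna : ¬ IsMulCommutative S) (hS : SizeOK S) (hp : p ∣ Nat.card S) (ho : Nat.card (Out S) ∣ 2)
    {a b g : ℕ} (ha : B0D p S a) (hb : B0D p S b) (h1 : 1 < a) (h2 : 1 < b) (hg : Nat.card (Out S) < g) (ga : g ∣ a)
    (gb : g ∣ b) (h3 : a ≠ b) (h4 : a ≠ 2 * b) (h5 : b ≠ 2 * a) : Kill p S := by
  obtain ⟨α, hα, rfl⟩ := ha
  obtain ⟨β, hβ, rfl⟩ := hb
  exact kill_common hna hS hp α β hα hβ (nt_of_degree h1) (nt_of_degree h2) hg ga gb (not_rel ho h3 h4 h5)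

/-- **From the data to `Kill`.** -/
theorem KD.kill (h : KD p S) (hna : ¬ IsMulCommutative S) (hS : SizeOK S) (hp : p ∣ Nat.card S)
    (ho : Nat.card (Out S) ∣ 2) (h2 : p = 2 ∨ Nat.card (Out S) = 1) : Kill p S := by
  have hlt : ∀ {r : ℕ}, r.Prime → r ≠ p → Nat.card (Out S) < r := by
    intro r hr hrp
    rcases h2 with h2 | h2
    · have h3 := Nat.le_of_dvd two_pos ho
      have h4 := hr.two_le
      have h5 : r ≠ 2 := fun h => hrp (h.trans h2.symm)
      omega
    · rw [h2]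
      exact hr.one_lt
  rcases h with ⟨a, b, r, ha, hb, h1, h1', hr, hrp, ra, rb, h3, h4, h5⟩ | ⟨a, r, ha, h1, hr, hrp, hr2, hd, u, hu⟩
  · exact kill_of_pair hna hS hp ho ha hb h1 h1' (hlt hr hrp) ra rb h3 h4 h5
  · obtain ⟨α, hα, rfl⟩ := ha
    exact kill_zero hna hS α hα (nt_of_degree h1) hr hrp (hlt hr hrp) hd u hu

end Cfsg.Agent.H619.BD
end

-- part: H619/BD/Suz
section
/-!
# `Suz` (S4932, helper619)

`1001 = 7 · 11 · 13`, an involution with a centralizer of order `161280 = 7 · 23040`.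
-/

set_option autoImplicit false

open Cfsg

namespace Cfsg.Agent.H619.BD

open Cfsg.Agent.H619.R4 Cfsg.Agent.H690.Spor

universe u

theorem kd_suz {S : Type u} [Group S] (h : Spor.IsoSuz S) : KD 2 S := by
  obtain ⟨e⟩ := h
  have hc : Nat.card Spor.Suz = 448345497600 := Cfsg.Agent.NotCT.Orders.suz (K := Spor.Suz) ⟨MulEquiv.refl _⟩
  have : Finite Spor.Suz := Nat.finite_of_card_ne_zero (by rw [hc]; norm_num)
  obtain ⟨hi, q₁, q₂, h1, h2⟩ := Cfsg.Agent.S1680.result
  obtain ⟨R, hR⟩ := RankThree.R3.of_index _ (by rw [hi]) h1 h2 (by norm_num) (by norm_num) (by norm_num)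
  have hrc := rc_suz hR
  have hz : Nat.card (Subgroup.centralizer ({Cfsg.Agent.KFacts.SuzLFour.e0} : Set Spor.Suz)) = 161280 :=
    Cfsg.Agent.KFacts.SuzTwoB.card_CE
  have ho : orderOf (Cfsg.Agent.KFacts.SuzLFour.e0 : Spor.Suz) = 2 := by
    refine orderOf_eq_prime (by rw [pow_two]; exact Cfsg.Agent.KFacts.SuzLFour.e0_sq) ?_
    intro h0
    rw [h0] at hz
    have h3 : Subgroup.centralizer ({(1 : Spor.Suz)} : Set Spor.Suz) = ⊤ := by
      rw [Subgroup.eq_top_iff']
      intro x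
      rw [Subgroup.mem_centralizer_singleton_iff, mul_one, one_mul]
    rw [h3, Subgroup.card_top, hc] at hz
    norm_num at hz
  refine KD.congr e.symm (KD.invol 7 hrc.2 (by decide) (by norm_num) (by norm_num) (by norm_num) ?_ ho ?_)
  · rw [factorization_card (k := 1) hc (by norm_num) (by norm_num) (by norm_num) (by norm_num)]
    norm_num
  · rw [hz]
    norm_num

end Cfsg.Agent.H619.BD
end

-- part: H619/BD/McL
section
/-!
# `McL` (S4932, helper619)

The rational characters of the degrees `5103 = 3^6 · 7` and `9625 = 5^3 · 7 · 11` (helper956).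
-/

set_option autoImplicit false

open Cfsg

namespace Cfsg.Agent.H619.BD

open Cfsg.Agent.Characters.Core Cfsg.Agent.H956.K4.McLRow
open Cfsg.Agent.H904.McLCent Cfsg.Agent.McLType.X275 Cfsg.Agent.McLType.Gens
open Cfsg.Agent.H956.K4.McLBase (card_K0)

universe u

theorem kd_mcl {S : Type u} [Group S] (h : Spor.IsoMcL S) : KD 2 S := by
  obtain ⟨θ, R⟩ := exists_rep h
  let f : S ≃* K0 := (MonoidHom.ofInjective R.inj).trans (MulEquiv.subgroupCongr R.range)
  have hc : Nat.card S = 898128000 := by rw [Nat.card_congr f.toEquiv, card_K0]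
  have hfin : Finite S := Nat.finite_of_card_ne_zero (by rw [hc]; norm_num)
  obtain ⟨χ₂, h2, h2'⟩ := transfer f Cfsg.Agent.H956.K4.McLDeg.deg_5103
  obtain ⟨χ₃, h3, h3'⟩ := transfer f Cfsg.Agent.H956.K4.McLDeg.deg_9625
  have hd : ∀ (χ : IrrCharacter S) {d : ℕ}, charDegree (χ : S → ℂ) = d → (χ : S → ℂ) 1 = d := fun χ d hd => by
    rw [Cfsg.Agent.Blocks.Basic.irr_one_eq_charDegree χ.2, hd]
  have b2 : B0D 2 S 5103 := B0D.of_rat χ₂.2 (rat_of_rt (isIrr_isCharacter χ₂.2) h2') (hd _ h2) (by decide)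
  have b3 : B0D 2 S 9625 := B0D.of_rat χ₃.2 (rat_of_rt (isIrr_isCharacter χ₃.2) h3') (hd _ h3) (by decide)
  exact KD.common 7 b2 b3 (by norm_num) (by norm_num) (by norm_num) (by norm_num) (by norm_num) (by norm_num)
    (by norm_num) (by norm_num) (by norm_num)

end Cfsg.Agent.H619.BD
end

-- part: H619/BD/Conway
section
/-!
# `Co1`, `Co2` (S4932, helper619)

`Co2` : the rational characters of the degrees `23` and `2277 = 3^2 · 11 · 23`; `Co1` : `299 = 13 · 23` and a
character in the principal `2`-block of odd degree divisible by `1771 = 7 · 11 · 23` (helper345).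
-/

set_option autoImplicit false

namespace Cfsg.Agent.H619.BD

universe u

section co2

open Cfsg Cfsg.Agent.H345.K4.Co2

theorem kd_co2 {S : Type u} [Group S] (h : Spor.IsoCo2 S) : KD 2 S := by
  classical
  obtain ⟨e⟩ := h
  have hfin : Finite Spor.Co2 := Finite.of_equiv _ (MulEquiv.refl Spor.Co2).toEquiv
  have := Fintype.ofFinite Spor.Co2
  obtain ⟨μ, hμ⟩ := Cfsg.Agent.H843.IMC.Co2A.exists_mu
  have hμd : charDegree (μ : Spor.Co2 → ℂ) = 23 := Cfsg.Agent.H769.PB.RowCoTwo.deg_mu hμ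
  obtain ⟨β, hβ, rβ⟩ := exists_2277
  have b1 : B0D 2 Spor.Co2 23 := B0D.of_rat μ.2 (mu_rat hμ)
    (by rw [Cfsg.Agent.Blocks.Basic.irr_one_eq_charDegree μ.2, hμd]) (by decide)
  have b2 : B0D 2 Spor.Co2 2277 := B0D.of_rat β.2 rβ
    (by rw [Cfsg.Agent.Blocks.Basic.irr_one_eq_charDegree β.2, hβ]) (by decide)
  exact KD.congr e.symm (KD.common 23 b1 b2 (by norm_num) (by norm_num) (by norm_num) (by norm_num) (by norm_num)
    (by norm_num) (by norm_num) (by norm_num) (by norm_num))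

end co2

section co1

open Cfsg Cfsg.Agent.Characters.Core Cfsg.Agent.H618.Sigma
open Cfsg.Agent.H843.IMC Cfsg.Agent.H843.IMC.LamCo1 Cfsg.Agent.H843.IMC.LamAll Cfsg.Agent.H843.IMC.Syn
open Cfsg.Agent.SporadicA.GolayBase Cfsg.Agent.CoOneType.ClosingFacts Cfsg.Agent.H419.LeechIrr
open Cfsg.Agent.H419.Spor.Co1 (chi)
open Cfsg.Agent.H345.K4.Count13 Cfsg.Agent.H345.K4.Co1 Cfsg.Agent.H345.K4

theorem exists_w : ∃ χ : IrrCharacter Spor.Co1, H601.K4.Good (χ : Spor.Co1 → ℂ) ∧
    1771 ∣ charDegree (χ : Spor.Co1 → ℂ) := by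
  classical
  have hc : Nat.card Spor.Co1 = 4157776806543360000 := NotCT.Orders.co1 ⟨MulEquiv.refl _⟩
  have hfin : Finite Spor.Co1 := Nat.finite_of_card_ne_zero (by rw [hc]; norm_num)
  have := Fintype.ofFinite Spor.Co1
  obtain ⟨k, hk⟩ := H740.K4.exists_cube Spor.Co1
  obtain ⟨a, b1, b2, b3, ha, ⟨s1, s2, s3⟩, ⟨n1, n2, n3⟩, e12, e21, ⟨n12, n13, n23⟩, ⟨c1, c2, c3⟩, ⟨k2, k3⟩, hT,
    -, ⟨t11, t12, t13, t14⟩, ⟨t21, t22, t23, t24⟩, ⟨t31, t32, t33, t34⟩⟩ := H935.K4.Co1Thirteen.thirteen_data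
  have D : Data (mk a) (mk b1) (mk b2) (mk b3) :=
    ⟨ha, s1, s2, s3, e12, e21, n12, n1, n2, c1, c2, k2, k3, hT⟩
  obtain ⟨-, n, hn⟩ := H311.OdmRowCo1.norm_data (MulEquiv.refl Spor.Co1) (z := mk a) ha
  have hval : ∀ b : Co0, mk b * mk a = mk a * mk b → chi (a * b) = 0 → chi ((a * b) ^ 2) = 2 →
      chi ((a * b) ^ 3) = 0 → chi ((a * b) ^ 4) = -2 → W 4 (mk b * mk a) = 1 := by
    intro b hb h1 h2 h3 h4
    rw [hb]
    have h5 : mk a * mk b = mk (a * b) := rfl
    rw [h5, W_four, h1, h2, h3, h4]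
    norm_num
  obtain ⟨χ₀, χ₁, g0, g1, hne, d0, d1⟩ := Good13.two_good hk D hn (isCharacter_W (by decide)) W_rat W_one'
    (hval b1 c1 t11 t12 t13 t14) (hval b2 c2 t21 t22 t23 t24) (hval b3 c3 t31 t32 t33 t34) dvd_deg
  exact ⟨χ₀, H740.K4.good_of hk χ₀.2 g0, d0⟩

theorem kd_co1 {S : Type u} [Group S] (h : Spor.IsoCo1 S) : KD 2 S := by
  classical
  obtain ⟨e⟩ := h
  have hc : Nat.card Spor.Co1 = 4157776806543360000 := NotCT.Orders.co1 ⟨MulEquiv.refl _⟩
  have hfin : Finite Spor.Co1 := Nat.finite_of_card_ne_zero (by rw [hc]; norm_num)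
  have := Fintype.ofFinite Spor.Co1
  obtain ⟨ξ, hξ, hξv⟩ := Co1B.exists_299
  obtain ⟨χ, g0, d0⟩ := exists_w
  have b1 : B0D 2 Spor.Co1 299 := B0D.of_rat ξ.2 (xi_rat hξv)
    (by rw [Cfsg.Agent.Blocks.Basic.irr_one_eq_charDegree ξ.2, hξ]) (by decide)
  have b2 : B0D 2 Spor.Co1 (charDegree (χ : Spor.Co1 → ℂ)) := ⟨χ, fun M hM => g0.b0 M hM χ.2, rfl⟩
  have hpos : 0 < charDegree (χ : Spor.Co1 → ℂ) := Cfsg.Agent.Blocks.Basic.charDegree_pos χ.2
  have hle : 1771 ≤ charDegree (χ : Spor.Co1 → ℂ) := Nat.le_of_dvd hpos d0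
  exact KD.congr e.symm (KD.common 23 b1 b2 (by norm_num) (by omega) (by norm_num) (by norm_num) (by norm_num)
    ((by norm_num : 23 ∣ 1771).trans d0) (by omega) (by omega) (by omega))

end co1

end Cfsg.Agent.H619.BD
end

-- part: H619/BD/Tits
section
/-!
# The Tits group (S4932, helper619)

`1755 = 1 + 78 + 351 + 650 + 675`; `351 = 27 · 13`, `675 = 27 · 25`.
-/

set_option autoImplicit false

open Cfsg

namespace Cfsg.Agent.H619.BD.Tits

open Cfsg.Agent.H619.R4 Cfsg.Agent.H494.R4.TitsAct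
open Cfsg.Agent.H707.RowTitsModel Cfsg.Agent.SporadicB.RuTits
open Cfsg.Agent.H707.Odd.Tits (B')

universe u

theorem huniq675 (a' : Fin 5 → ℚ) (h : ∀ i, ∑ j, (B' i j : ℚ) * a' j = (-3) * a' i) (i : Fin 5) :
    a' i = a' 0 * (![1, -3/10, 1/40, 1/40, -1/64] : Fin 5 → ℚ) i := by
  have h0 := h 0
  have h1 := h 1
  have h2 := h 2
  have h3 := h 3
  simp only [B', Fin.sum_univ_five, Matrix.cons_val] at h0 h1 h2 h3
  norm_num at h0 h1 h2 h3
  fin_cases i
  · show a' 0 = a' 0 * 1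
    rw [mul_one]
  · show a' 1 = a' 0 * (-3 / 10)
    linarith
  · show a' 2 = a' 0 * (1 / 40)
    linarith
  · show a' 3 = a' 0 * (1 / 40)
    linarith
  · show a' 4 = a' 0 * (-1 / 64)
    linarith

theorem hi (q : T) (x : X) : (id q : T) • x = q • x := rfl

theorem hn (g q : T) : ∃ q' : T, ∀ x : X, (g * id q * g⁻¹) • x = q' • x := ⟨g * q * g⁻¹, fun _ => rfl⟩

theorem finite_T : Finite T :=
  Nat.finite_of_card_ne_zero (by rw [Cfsg.Agent.SporadicB.RuTits.card_T]; norm_num)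

theorem rc351 : RC T 351 := by
  have := finite_T
  exact rc_351 (G := T) id hi hn

theorem rc675 : RC T 675 := by
  have := finite_T
  exact rc_of (G := T) id hi hn 1 B' count1 ![1, -3/10, 1/40, 1/40, -1/64] (-3) (by decide +kernel) huniq675 rfl 675
    (by decide +kernel)

theorem kd_tits {S : Type u} [Group S] (h : Cfsg.Lie.IsoTits S) : KD 2 S := by
  obtain ⟨e⟩ := exists_equiv h
  have := finite_T
  exact KD.congr e.symm (KD.real 3 rc351 rc675 (by decide) (by decide) (by norm_num) (by norm_num) (by norm_num)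
    (by norm_num) (by norm_num) (by norm_num) (by norm_num))

end Cfsg.Agent.H619.BD.Tits
end

-- part: H89/BD/Spor
section
/-!
# S4932, rows `M12`, `M22`, `J2`, `J3`, `J4`, `p = 2` (helper89)
-/

set_option autoImplicit false

namespace Cfsg.Agent.H89.BD

open Cfsg Cfsg.Agent.H619.BD Cfsg.Agent.H619.R4

universe u

theorem rc_of_rat {S : Type*} [Group S] {χ : S → ℂ} (hχ : IsIrrCharacter S χ) (hr : ∀ g, ∃ q : ℚ, χ g = q)
    {d : ℕ} (h1 : χ 1 = d) : RC S d := by
  refine ⟨⟨χ, hχ⟩, fun g => ?_, Cfsg.Agent.Blocks.Basic.charDegree_of_eq h1⟩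
  obtain ⟨q, hq⟩ := hr g
  show (χ g).im = 0
  rw [hq]
  exact Complex.ratCast_im q

theorem kd_m12 {S : Type u} [Group S] (h : Spor.IsoM12 S) : KD 2 S := by
  obtain ⟨e⟩ := h
  have hfin : Finite Spor.M12 := Nat.finite_of_card_ne_zero (by rw [Cfsg.Agent.H395.K4.M12.card]; norm_num)
  refine KD.congr e.symm ?_
  exact KD.real (a := 11) (b := 55) 11
    (rc_of_rat Cfsg.Agent.H395.K4.M12.irr11 Cfsg.Agent.H395.K4.M12.rat11 Cfsg.Agent.H395.K4.M12.c11_one)
    (rc_of_rat Cfsg.Agent.H395.K4.M12.irr55 Cfsg.Agent.H395.K4.M12.rat55 Cfsg.Agent.H395.K4.M12.c55_one)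
    (by decide) (by decide) (by norm_num) (by norm_num) (by norm_num) (by norm_num) (by norm_num) (by norm_num)
    (by norm_num)

theorem kd_m22 {S : Type u} [Group S] (h : Spor.IsoM22 S) : KD 2 S := by
  have hM := Cfsg.Agent.H921.K4.M22.isM22 h
  have hfin : Finite S := Nat.finite_of_card_ne_zero (by rw [hM.2]; norm_num)
  obtain ⟨f, hf⟩ := Cfsg.Agent.H417.DegMTwentyTwo.exists_enum hM
  have key : ∀ i : Fin 12, i = 0 ∨ i = 1 ∨ i = 4 ∨ i = 5 ∨ i = 8 ∨ i = 11 →
      RC S (Cfsg.Agent.M22.DegreesEnd.LB.getD i 0) := by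
    intro i hi
    have h1 := Cfsg.Agent.H921.K4.M22.hD i hi
    have h2 := Cfsg.Agent.H921.K4.uniq_of_enum f Cfsg.Agent.H921.K4.M22.D hf i h1.1 h1.2
    exact ⟨f i, h2.real, hf i⟩
  have h21 : RC S 21 := key 1 (by simp)
  have h231 : RC S 231 := key 8 (by simp)
  exact KD.real 7 h21 h231 (by decide) (by decide) (by norm_num) (by norm_num) (by norm_num) (by norm_num) (by norm_num)
    (by norm_num) (by norm_num)

theorem kd_j2 {S : Type u} [Group S] (h : Spor.IsoJ2 S) : KD 2 S := by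
  obtain ⟨f⟩ := Cfsg.Agent.J2.HundredGens.J2_iso Cfsg.Agent.H300.K4.JTwo.card_J2
  obtain ⟨e⟩ := h
  refine KD.congr (e.trans f).symm ?_
  obtain ⟨a, ha1, ha2, ha3⟩ := Cfsg.Agent.H300.K4.JTwoDeg.exists_63
  obtain ⟨b, hb1, hb2, hb3⟩ := Cfsg.Agent.H300.K4.JTwoDeg.exists_175
  exact KD.real 7 (rc_of_rat ha1 (fun g => ⟨_, ha3 g⟩) ha2) (rc_of_rat hb1 hb3 hb2) (by decide) (by decide) (by norm_num)
    (by norm_num) (by norm_num) (by norm_num) (by norm_num) (by norm_num) (by norm_num)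

theorem kd_j3 {S : Type u} [Group S] (h : Spor.IsoJ3 S) : KD 2 S := by
  have hc : Nat.card S = 50232960 := NotCT.Orders.j3 h
  have hfin : Finite S := Nat.finite_of_card_ne_zero (by rw [hc]; norm_num)
  obtain ⟨χ, h1, h2⟩ := Cfsg.Agent.H90.R4.J3.exists_real h (d₀ := 1215) Cfsg.Agent.H90.R4.J3.chk_a
    Cfsg.Agent.H90.R4.J3.bd_a
  obtain ⟨ψ, h3, h4⟩ := Cfsg.Agent.H90.R4.J3.exists_real h (d₀ := 1615) Cfsg.Agent.H90.R4.J3.chk_b
    Cfsg.Agent.H90.R4.J3.bd_b
  exact KD.real 5 ⟨χ, h1, Cfsg.Agent.Blocks.Basic.charDegree_of_eq h2⟩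
    ⟨ψ, h3, Cfsg.Agent.Blocks.Basic.charDegree_of_eq h4⟩ (by decide) (by decide) (by norm_num)
    (by norm_num) (by norm_num) (by norm_num) (by norm_num) (by norm_num) (by norm_num)

theorem kd_j4 {S : Type u} [Group S] (h : Spor.IsoJ4 S) : KD 2 S := by
  obtain ⟨e⟩ := h
  have hfin := Cfsg.Agent.H492.IMJ4.finite_j4
  refine KD.congr e.symm ?_
  obtain ⟨χ, h1, h2⟩ := Cfsg.Agent.H492.K4J4.val_889111
  obtain ⟨ψ, h3, h4⟩ := Cfsg.Agent.H492.K4J4.val_4290927
  exact KD.real 43 (RC.of_conj (fun g => h2 (starRingEnd ℂ) g) h1) (RC.of_conj (fun g => h4 (starRingEnd ℂ) g) h3)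
    (by decide) (by decide) (by norm_num)
    (by norm_num) (by norm_num) (by norm_num) (by norm_num) (by norm_num) (by norm_num)

end Cfsg.Agent.H89.BD
end

-- part: H728/DL/Fi22
section
/-!
# S4932: the data of `Kill 2 Fi22` (helper728)

`429 = 3 * 11 * 13` is the degree of a real character, `Fi22` has elements of order `22`.
-/

set_option autoImplicit false

open Cfsg

namespace Cfsg.Agent.H728.DL.Fi22

open Cfsg.Agent.H619.BD Cfsg.Agent.H619.R4 Cfsg.Agent.H187.FiTwoZ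

universe u

theorem model : KD 2 ↥(⊤ : Subgroup Cfsg.Agent.Fischer.Group22.G) := by
  let T : Type := ↥(⊤ : Subgroup Cfsg.Agent.Fischer.Group22.G)
  let f : T ≃* Spor.Fi22 := Subgroup.topEquiv.trans Cfsg.Agent.R01.Fi22Facts.E
  have hcT : Nat.card T = 64561751654400 := Cfsg.Agent.H713.Spor.Fi22.card_fi22 f
  have hfT : Finite T := Nat.finite_of_card_ne_zero (by rw [hcT]; norm_num)
  have hP := pair_of Cfsg.Agent.Fischer.Rank22.R ⊤ same_top (k := 693) (l := 2816) (m := 126)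
    Cfsg.Agent.LThreeM.FiTwo.nb_card Cfsg.Agent.LThreeM.FiTwo.cn_b (by rw [Nat.card_eq_fintype_card, Fintype.card_fin])
    (by norm_num) (by norm_num) (r := 63) (s := -9) (by norm_num) (by norm_num) (by norm_num) (f := 429) (g := 3080)
    (by norm_num) (by norm_num) (by norm_num)
  obtain ⟨u, hu⟩ := Cfsg.Agent.H713.Spor.Fi22.exists_22 f
  refine KD.zero 11 (B0D.of_real hP.rc.1 (by decide)) (by norm_num) (by norm_num) (by norm_num) (by norm_num) ?_ u
    (by rw [hu])
  have h1 : (Nat.card T).factorization 11 = 1 :=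
    factorization_card hcT (by norm_num) (by norm_num) (by norm_num) (by norm_num)
  show 11 ^ (Nat.card T).factorization 11 ∣ 429
  rw [h1]
  norm_num

/-- **`Fi22`, `p = 2`.** -/
theorem kd_fi22 {S : Type u} [Group S] (h : Spor.IsoFi22 S) : KD 2 S := by
  obtain ⟨e⟩ := h
  let f : ↥(⊤ : Subgroup Cfsg.Agent.Fischer.Group22.G) ≃* Spor.Fi22 :=
    Subgroup.topEquiv.trans Cfsg.Agent.R01.Fi22Facts.E
  have hfT : Finite ↥(⊤ : Subgroup Cfsg.Agent.Fischer.Group22.G) :=
    Nat.finite_of_card_ne_zero (by rw [Cfsg.Agent.H713.Spor.Fi22.card_fi22 f]; norm_num)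
  exact model.congr (f.trans e.symm)

end Cfsg.Agent.H728.DL.Fi22
end

-- part: H728/DL/Fi23
section
/-!
# S4932: the data of `Kill 2 Fi23` and `Kill 3 Fi23` (helper728)

* `b0_three` : `782` and `30888` are degrees of characters in the principal `3`-block (points: `31671`);
* `b0_two` : `106743` and `30888` in the principal `2`-block (action on `137632` points).
-/

set_option autoImplicit false

open Cfsg

namespace Cfsg.Agent.H728.DL.Fi23

open Cfsg.Agent.H619.BD Cfsg.Agent.H619.R4 Cfsg.Agent.H187.FiTwoZ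

universe u

theorem card_fi23 : Nat.card Spor.Fi23 = 4089470473293004800 := Cfsg.Agent.NotCT.Orders.fi23 ⟨MulEquiv.refl _⟩

theorem finite_fi23 : Finite Spor.Fi23 := Nat.finite_of_card_ne_zero (by rw [card_fi23]; norm_num)

theorem b0_three_model : B0D 3 Spor.Fi23 782 ∧ B0D 3 Spor.Fi23 30888 := by
  have hfin := finite_fi23
  obtain ⟨R, h0, -, hD⟩ := Cfsg.Agent.R08.FiTwentyThree.exists_rank3
  have hcX := Cfsg.Agent.LThreeM.FiThree.card_X
  have hP := pair_of R ⊤ same_top (k := 3510) (l := 28160) (m := 351)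
    (Cfsg.Agent.LThreeM.FiThree.nb_card R h0 hD) (Cfsg.Agent.LThreeM.FiThree.cn_b R h0 hD)
    hcX (by norm_num) (by norm_num) (r := 351) (s := -9) (by norm_num) (by norm_num) (by norm_num) (f := 782)
    (g := 30888) (by norm_num) (by norm_num) (by norm_num)
  have hfX : Finite (Spor.Fi23 ⧸ Cfsg.Agent.Fischer.Fi23Class.K) := Nat.finite_of_card_ne_zero (by rw [hcX]; norm_num)
  obtain ⟨h1, h2⟩ := hP.b0d R.x0 (trans_of R ⊤ same_top) (p := 3) (e := 4) (by norm_num) (by norm_num) (by norm_num)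
    (by norm_num)
  exact ⟨h1.congr Subgroup.topEquiv, h2.congr Subgroup.topEquiv⟩

theorem pair_model : ∃ (X : Type) (_ : MulAction Spor.Fi23 X), (∃ _ : Nonempty X, Finite X) ∧
    MulAction.IsPretransitive Spor.Fi23 X ∧ Pair Spor.Fi23 X 106743 30888 := by
  have hfin := finite_fi23
  have hc := card_fi23
  obtain ⟨X, i, k, m, R, hR, h1, h2, h3⟩ := Cfsg.Agent.H678.DG.FiPts.exists_R3
  have hcX := hR.cardn
  have hfX : Finite X := Nat.finite_of_card_ne_zero (by rw [hcX]; omega)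
  have hne : Nonempty X := by
    by_contra hcon
    rw [not_nonempty_iff] at hcon
    rw [Nat.card_of_isEmpty] at hcX
    omega
  refine ⟨X, i, ⟨hne, hfX⟩, hR.trans, ?_⟩
  obtain ⟨x, hx, hd⟩ : ∃ x ∈ [(106743, 30888)], Pair Spor.Fi23 X x.1 x.2 := by
    rcases Cfsg.Agent.H678.DG.FiPts.subdeg h1 h2 h3 with ⟨rfl, rfl⟩ | ⟨rfl, rfl⟩
    · exact pair_of_R3 hR hc rfl (P := 427301280806400) (by norm_num) [(2, 4), (3, 4), (5, 1), (13, 1)]
        [2, 7, 11, 17, 23] (by simp only [List.forall_mem_cons]; norm_num)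
        (by simp only [List.forall_mem_cons]; norm_num) (by decide) (by norm_num) (Or.inl (by decide)) [(106743, 30888)]
        (by decide +kernel)
    · exact pair_of_R3 hR hc rfl (P := 427301280806400) (by norm_num) [(2, 4), (3, 4), (5, 1), (13, 1)]
        [2, 7, 11, 17, 23] (by simp only [List.forall_mem_cons]; norm_num)
        (by simp only [List.forall_mem_cons]; norm_num) (by decide) (by norm_num) (Or.inl (by decide)) [(106743, 30888)]
        (by decide +kernel)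
  rw [List.mem_singleton] at hx
  subst hx
  exact hd

theorem b0_two_model : B0D 2 Spor.Fi23 106743 ∧ B0D 2 Spor.Fi23 30888 := by
  have hfin := finite_fi23
  obtain ⟨X, i, ⟨⟨x₀⟩, hfX⟩, ht, hP⟩ := pair_model
  exact hP.b0d x₀ (fun x => ht.exists_smul_eq x₀ x) (p := 2) (e := 5) (by norm_num) (by norm_num) (by norm_num)
    (by norm_num)

/-- **`Fi23`, `p = 3`.** -/
theorem b0_three {S : Type u} [Group S] (h : Spor.IsoFi23 S) : B0D 3 S 782 ∧ B0D 3 S 30888 := by
  obtain ⟨e⟩ := h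
  have hfin := finite_fi23
  exact ⟨b0_three_model.1.congr e.symm, b0_three_model.2.congr e.symm⟩

/-- **`Fi23`, `p = 2`.** -/
theorem b0_two {S : Type u} [Group S] (h : Spor.IsoFi23 S) : B0D 2 S 106743 ∧ B0D 2 S 30888 := by
  obtain ⟨e⟩ := h
  have hfin := finite_fi23
  exact ⟨b0_two_model.1.congr e.symm, b0_two_model.2.congr e.symm⟩

theorem kd_two {S : Type u} [Group S] (h : Spor.IsoFi23 S) : KD 2 S :=
  KD.common 13 (b0_two h).1 (b0_two h).2 (by norm_num) (by norm_num) (by norm_num) (by norm_num) (by norm_num)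
    (by norm_num) (by norm_num) (by norm_num) (by norm_num)

end Cfsg.Agent.H728.DL.Fi23
end

-- part: H728/DL/Fi24
section
/-!
# S4932: the data of `Kill 2 Fi24'` and `Kill 3 Fi24'` (helper728)

`57477 = 3 * 49 * 17 * 23` and `249458 = 2 * 11 * 17 * 23 * 29` are degrees of characters in the principal `2`-block
and in the principal `3`-block (action on the `306936` transpositions).
-/

set_option autoImplicit false

open Cfsg

namespace Cfsg.Agent.H728.DL.Fi24

open Cfsg.Agent.H619.BD Cfsg.Agent.H619.R4 Cfsg.Agent.H187.FiTwoZ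
open Cfsg.Spor Cfsg.Agent.LThreeM.SrgFix Cfsg.Agent.Fischer.Abstract Cfsg.Agent.R08.FiTwentyFour

universe u

theorem card_fi24 : Nat.card ↥(commutator Fi24) = 1255205709190661721292800 := card_commutator

theorem finite_fi24' : Finite ↥(commutator Fi24) := Nat.finite_of_card_ne_zero (by rw [card_fi24]; norm_num)

/-- any two points have a common neighbour -/
theorem common {X : Type*} [MulAction Fi24 X] (R : Rank3 Fi24 X) (hR : Set.range R.t = L) (x y : X) :
    ∃ z, R.Com z x ∧ R.Com z y := by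
  have hfX : Finite X := Nat.finite_of_card_ne_zero (by rw [Cfsg.Agent.H711.FiEven.card_X R hR]; norm_num)
  by_cases hc : R.Com x y
  · exact ⟨x, R.com_self x, hc⟩
  · have h1 := ncard_cn_ncom R hc
    rw [Cfsg.Agent.H711.FiEven.cb_card R hR] at h1
    obtain ⟨z, hz⟩ := Set.nonempty_of_ncard_ne_zero (s := cn R x y) (by rw [h1]; norm_num)
    exact ⟨z, R.com_symm hz.1.2, R.com_symm hz.2.2⟩

theorem b0_model {p e : ℕ} (he : p ^ e ∣ 306936) (h1 : 1 % p ^ e ≠ 0) (h2 : 57478 % p ^ e ≠ 0)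
    (h3 : 249459 % p ^ e ≠ 0) : B0D p ↥(commutator Fi24) 57477 ∧ B0D p ↥(commutator Fi24) 249458 := by
  have hfin : Finite Fi24 := finite_Fi24
  have hfinT := finite_fi24'
  obtain ⟨R, -, -, hR⟩ := facts.exists_rank3
  have hcX := Cfsg.Agent.H711.FiEven.card_X R hR
  have hfX : Finite (Fi24 ⧸ Cfsg.Agent.Fischer.Fi24RepOrb.H) := Nat.finite_of_card_ne_zero (by rw [hcX]; norm_num)
  have hsame : Same (commutator Fi24) (Fi24 ⧸ Cfsg.Agent.Fischer.Fi24RepOrb.H) :=
    same_of R _ index_commutator (fun x => odd (by rw [← hR]; exact ⟨x, rfl⟩)) (common R hR)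
  have hP := pair_of R (commutator Fi24) hsame (k := 31671) (l := 275264) (m := 3240)
    (Cfsg.Agent.H711.FiEven.nb_card R hR) (Cfsg.Agent.H711.FiEven.cb_card R hR) hcX
    (by norm_num) (by norm_num) (r := 351) (s := -81) (by norm_num) (by norm_num) (by norm_num)
    (f := 57477) (g := 249458) (by norm_num) (by norm_num) (by norm_num)
  exact hP.b0d R.x0 (trans_of R _ hsame) (p := p) (e := e) he h1 h2 h3

/-- **`Fi24'`, `p = 2`.** -/
theorem b0_two {S : Type u} [Group S] (h : Spor.IsoFi24' S) : B0D 2 S 57477 ∧ B0D 2 S 249458 := by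
  obtain ⟨e⟩ := h
  have hfin := finite_fi24'
  have e' : S ≃* ↥(commutator Fi24) := e
  have hm := b0_model (p := 2) (e := 3) (by norm_num) (by norm_num) (by norm_num) (by norm_num)
  exact ⟨hm.1.congr e'.symm, hm.2.congr e'.symm⟩

/-- **`Fi24'`, `p = 3`.** -/
theorem b0_three {S : Type u} [Group S] (h : Spor.IsoFi24' S) : B0D 3 S 57477 ∧ B0D 3 S 249458 := by
  obtain ⟨e⟩ := h
  have hfin := finite_fi24'
  have e' : S ≃* ↥(commutator Fi24) := e
  have hm := b0_model (p := 3) (e := 3) (by norm_num) (by norm_num) (by norm_num) (by norm_num)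
  exact ⟨hm.1.congr e'.symm, hm.2.congr e'.symm⟩

theorem kd_two {S : Type u} [Group S] (h : Spor.IsoFi24' S) : KD 2 S :=
  KD.common 17 (b0_two h).1 (b0_two h).2 (by norm_num) (by norm_num) (by norm_num) (by norm_num) (by norm_num)
    (by norm_num) (by norm_num) (by norm_num) (by norm_num)

end Cfsg.Agent.H728.DL.Fi24
end

-- part: H51/BD/KillRow
section
/-!
# `Kill 2 S` data for `Ru`, `HN`, `Th` (S4932, helper51)

* `kd_ru` : 783 of defect zero for 3, an element of order 12;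
* `kd_hn` : 16929 and 653125, common prime 19;
* `kd_th` : 4123 and 30875, common prime 19.
-/

set_option autoImplicit false
set_option maxRecDepth 100000

namespace Cfsg.Agent.H51.BD

open Cfsg Cfsg.Agent.H619.BD Cfsg.Agent.H619.R4 Cfsg.Agent.Characters.Core

universe u

section ru

open Cfsg.Agent.SporadicB Cfsg.Agent.SporadicB.RuOrder Cfsg.Agent.OddHalf.Table.OutRu

theorem rc_783 : RC H 783 := by
  have hfin : Finite H := Cfsg.Agent.H690.Spor.Ru.instFiniteH
  obtain ⟨R, hR⟩ := Cfsg.Agent.H690.Spor.Ru.r3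
  exact (real_pair hR (Or.inl (by decide)) (a := 783) (b := 3276) (d := 12) (by norm_num) (by norm_num) (by norm_num)
    (by decide +kernel)).1

/-- **`Ru`, `p = 2`.** -/
theorem kd_ru {S : Type u} [Group S] (h : Spor.IsoRu S) : KD 2 S := by
  obtain ⟨e⟩ := h
  have e' := e.trans Cfsg.Agent.RuLat.Main.equiv
  have hfin : Finite H := Cfsg.Agent.H690.Spor.Ru.instFiniteH
  refine KD.congr e'.symm (KD.zero 3 (B0D.of_real rc_783 (by decide)) (by norm_num) (by norm_num) (by norm_num)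
    (by norm_num) ?_ (W [0, 9]) (by rw [H713.Two.Ru.w12]; norm_num))
  rw [factorization_card (k := 3) card_H (by norm_num) (by norm_num) (by norm_num) (by norm_num)]
  norm_num

end ru

/-- rational characters are real -/
theorem rc_of_rat {S : Type u} [Group S] [Finite S] {χ : S → ℂ} (hχ : IsIrrCharacter S χ)
    (hr : ∀ g, ∃ q : ℚ, χ g = q) {d : ℕ} (h1 : χ 1 = d) : RC S d := by
  refine ⟨⟨χ, hχ⟩, fun g => ?_, Cfsg.Agent.Blocks.Basic.charDegree_of_eq h1⟩
  obtain ⟨q, hq⟩ := hr g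
  show (χ g).im = 0
  rw [hq]
  exact Complex.ratCast_im q

section hn

open Cfsg.Agent.H38.K4 Cfsg.Agent.H38.K4.HN Cfsg.Agent.H443.HN.Scheme Cfsg.Agent.H443.HN.Frame

theorem rc_hn : RC Spor.HN 16929 ∧ RC Spor.HN 653125 := by
  have : Finite Spor.HN := Nat.finite_of_card_ne_zero (by rw [card_G]; norm_num)
  have := Fintype.ofFinite Spor.HN
  obtain ⟨χ, N, h1, h2, -, h4, h5, h6, h7⟩ := chars_rat
  have hirr : ∀ s, N s s = 1 → IsIrrCharacter Spor.HN (χ s) := fun s h =>
    isIrr_of_classInner_self (h1 s) (by rw [h5, h, Nat.cast_one])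
  have hne : N 1 1 ≠ 1 := by
    intro h
    have h8 := Blocks.Knorr.charDegree_dvd (hirr 1 h)
    rw [charDegree_eq (h2 1), card_G] at h8
    revert h8
    show ¬ (12749 ∣ 273030912000000)
    norm_num
  have h11 : N 2 2 = 1 ∧ N 4 4 = 1 := by
    simp only [Fin.sum_univ_eight] at h7
    have e0 := h6 0
    have e1 := h6 1
    have e2 := h6 2
    have e3 := h6 3
    have e4 := h6 4
    have e5 := h6 5
    have e6 := h6 6
    have e7 := h6 7
    omega
  exact ⟨rc_of_rat (hirr 2 h11.1) (h4 2) (h2 2), rc_of_rat (hirr 4 h11.2) (h4 4) (h2 4)⟩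

/-- **`HN`, `p = 2`.** -/
theorem kd_hn {S : Type u} [Group S] (h : Spor.IsoHN S) : KD 2 S := by
  obtain ⟨e⟩ := h
  have : Finite Spor.HN := Nat.finite_of_card_ne_zero (by rw [card_G]; norm_num)
  exact KD.congr e.symm (KD.real 19 rc_hn.1 rc_hn.2 (by decide) (by decide) (by norm_num) (by norm_num) (by norm_num)
    (by norm_num) (by norm_num) (by norm_num) (by norm_num))

end hn

section th

open Cfsg.Agent.H492

theorem rc_th_of {d : ℕ} (h : ∃ χ : IrrCharacter Spor.Th, (χ : Spor.Th → ℂ) 1 = (d : ℕ) ∧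
    ∀ σ : ℂ →+* ℂ, ∀ x, σ ((χ : Spor.Th → ℂ) x) = (χ : Spor.Th → ℂ) x) : RC Spor.Th d := by
  obtain ⟨χ, h1, h2⟩ := h
  refine ⟨χ, fun g => ?_, Cfsg.Agent.Blocks.Basic.charDegree_of_eq h1⟩
  have h3 := h2 (starRingEnd ℂ) g
  exact Complex.conj_eq_iff_im.1 h3

/-- **`Th`, `p = 2`.** -/
theorem kd_th {S : Type u} [Group S] (h : Spor.IsoTh S) : KD 2 S := by
  obtain ⟨e⟩ := h
  have : Finite Spor.Th := Nat.finite_of_card_ne_zero (by rw [NotCT.Orders.th ⟨MulEquiv.refl _⟩]; norm_num)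
  exact KD.congr e.symm (KD.real 19 (rc_th_of ThRat.val_4123) (rc_th_of ThRat.val_30875) (by decide) (by decide)
    (by norm_num) (by norm_num) (by norm_num) (by norm_num) (by norm_num) (by norm_num) (by norm_num))

end th

end Cfsg.Agent.H51.BD
end

-- part: H619/BD/Row
section
/-!
# S4932, S4953: the rows of the sporadic groups and of the Tits group (helper619)
-/

set_option autoImplicit false

open Cfsg

namespace Cfsg.Agent.H619.BD

open Cfsg.Agent.H589.BD Cfsg.Agent.H51.BD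

universe u v

theorem out_one {S : Type u} [Group S] {T : Type v} [Group T] (e : S ≃* T) (h : Nat.card (Out T) = 1) :
    Nat.card (Out S) = 1 := (card_out_congr e).trans h

theorem out_two {S : Type u} [Group S] {T : Type v} [Group T] (e : S ≃* T) (h : Nat.card (Out T) = 2) :
    Nat.card (Out S) ∣ 2 := by
  rw [card_out_congr e, h]

theorem prime_two_three_five {p : ℕ} (hp : p.Prime) : p = 2 ∨ p = 3 ∨ 5 ≤ p := by
  by_contra hcon
  push Not at hcon
  have h2 := hp.two_le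
  have h3 : p = 4 := by omega
  rw [h3] at hp
  exact absurd hp (by decide)

variable {S : Type u} [Group S] [Finite S] [IsSimpleGroup S] (hna : ¬ IsMulCommutative S) (hS : SizeOK S)

include hna hS

/-- A group with trivial outer automorphism group. -/
theorem row1 {T : Type v} [Group T] (e : S ≃* T) (ho : Nat.card (Out T) = 1) (hk : KD 2 S)
    (ht : ∀ p : ℕ, p.Prime → p ≠ 2 → Tame p S) {p : ℕ} (hp : p.Prime) (hd : p ∣ Nat.card S) : Row p S := by
  rcases eq_or_ne p 2 with rfl | h2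
  · have : Fact (Nat.Prime 2) := ⟨hp⟩
    have h1 := out_one e ho
    exact Or.inl (hk.kill hna hS hd (by rw [h1]; norm_num) (Or.inl rfl))
  · exact Or.inr (ht p hp h2)

/-- A group with outer automorphism group of order `2`. -/
theorem row2 {T : Type v} [Group T] (e : S ≃* T) (ho : Nat.card (Out T) = 2) (hk : KD 2 S)
    (ht : ∀ p : ℕ, p.Prime → p ≠ 2 → Tame p S) {p : ℕ} (hp : p.Prime) (hd : p ∣ Nat.card S) : Row p S := by
  rcases eq_or_ne p 2 with rfl | h2
  · have : Fact (Nat.Prime 2) := ⟨hp⟩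
    exact Or.inl (hk.kill hna hS hd (out_two e ho) (Or.inl rfl))
  · exact Or.inr (ht p hp h2)

/-- `Kill` at `2` and `3`. -/
theorem row3 (ho : Nat.card (Out S) = 1) (hk : KD 2 S) (hk3 : KD 3 S)
    (ht : ∀ p : ℕ, p.Prime → 5 ≤ p → Tame p S) {p : ℕ} (hp : p.Prime) (hd : p ∣ Nat.card S) : Row p S := by
  have : Fact p.Prime := ⟨hp⟩
  rcases prime_two_three_five hp with rfl | rfl | h5
  · exact Or.inl (hk.kill hna hS hd (by rw [ho]; norm_num) (Or.inl rfl))
  · exact Or.inl (hk3.kill hna hS hd (by rw [ho]; norm_num) (Or.inr ho))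
  · exact Or.inr (ht p hp h5)

theorem row_m12 (h : Spor.IsoM12 S) {p : ℕ} (hp : p.Prime) (hd : p ∣ Nat.card S) : Row p S := by
  obtain ⟨e⟩ := id h
  exact row2 hna hS e S2061.result (Cfsg.Agent.H89.BD.kd_m12 h) (fun p hp h2 => tame_m12 hna hp h2 h) hp hd

theorem row_m22 (h : Spor.IsoM22 S) {p : ℕ} (hp : p.Prime) (hd : p ∣ Nat.card S) : Row p S := by
  obtain ⟨e⟩ := id h
  exact row2 hna hS e S2062.result (Cfsg.Agent.H89.BD.kd_m22 h) (fun p hp h2 => tame_m22 hna hp h2 h) hp hd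

theorem row_j2 (h : Spor.IsoJ2 S) {p : ℕ} (hp : p.Prime) (hd : p ∣ Nat.card S) : Row p S := by
  obtain ⟨e⟩ := id h
  exact row2 hna hS e S2066.result (Cfsg.Agent.H89.BD.kd_j2 h) (fun p hp h2 => tame_j2 hna hp h2 h) hp hd

theorem row_j3 (h : Spor.IsoJ3 S) {p : ℕ} (hp : p.Prime) (hd : p ∣ Nat.card S) : Row p S := by
  obtain ⟨F, _, _, ω, hF, hω, ⟨e⟩⟩ := id h
  exact row2 hna hS e (S2067.result hF ω hω) (Cfsg.Agent.H89.BD.kd_j3 h) (fun p hp h2 => tame_j3 hna hp h2 h) hp hd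

theorem row_j4 (h : Spor.IsoJ4 S) {p : ℕ} (hp : p.Prime) (hd : p ∣ Nat.card S) : Row p S := by
  obtain ⟨e⟩ := id h
  exact row1 hna hS e S2068.result (Cfsg.Agent.H89.BD.kd_j4 h) (fun p hp h2 => tame_j4 hna hp h2 h) hp hd

theorem row_co1 (h : Spor.IsoCo1 S) {p : ℕ} (hp : p.Prime) (hd : p ∣ Nat.card S) : Row p S := by
  obtain ⟨e⟩ := id h
  exact row1 hna hS e S2069.result (kd_co1 h) (fun p hp h2 => tame_co1 hna hp h2 h) hp hd

theorem row_co2 (h : Spor.IsoCo2 S) {p : ℕ} (hp : p.Prime) (hd : p ∣ Nat.card S) : Row p S := by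
  obtain ⟨e⟩ := id h
  exact row1 hna hS e S2070.result (kd_co2 h) (fun p hp h2 => tame_co2 hna hp h2 h) hp hd

theorem row_mcl (h : Spor.IsoMcL S) {p : ℕ} (hp : p.Prime) (hd : p ∣ Nat.card S) : Row p S := by
  obtain ⟨e⟩ := id h
  exact row2 hna hS e S2073.result (kd_mcl h) (fun p hp h2 => tame_mcl hna hp h2 h) hp hd

theorem row_hs (h : Spor.IsoHS S) {p : ℕ} (hp : p.Prime) (hd : p ∣ Nat.card S) : Row p S := by
  obtain ⟨e⟩ := id h
  exact row2 hna hS e S2072.result (Cfsg.Agent.H680.BD.kd_hs h) (fun p hp h2 => tame_hs hna hp h2 h) hp hd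

theorem row_suz (h : Spor.IsoSuz S) {p : ℕ} (hp : p.Prime) (hd : p ∣ Nat.card S) : Row p S := by
  obtain ⟨e⟩ := id h
  exact row2 hna hS e S2074.result (kd_suz h) (fun p hp h2 => tame_suz hna hp h2 h) hp hd

theorem row_ru (h : Spor.IsoRu S) {p : ℕ} (hp : p.Prime) (hd : p ∣ Nat.card S) : Row p S := by
  obtain ⟨e⟩ := id h
  exact row1 hna hS e S2077.result (kd_ru h) (fun p hp h2 => tame_ru hna h hp h2) hp hd

theorem row_hn (h : Spor.IsoHN S) {p : ℕ} (hp : p.Prime) (hd : p ∣ Nat.card S) : Row p S := by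
  obtain ⟨e⟩ := id h
  exact row2 hna hS e S2082.result (kd_hn h) (fun p hp h2 => tame_hn hna h hp h2) hp hd

theorem row_th (h : Spor.IsoTh S) {p : ℕ} (hp : p.Prime) (hd : p ∣ Nat.card S) : Row p S := by
  obtain ⟨e⟩ := id h
  exact row1 hna hS e S2083.result (kd_th h) (fun p hp h2 => tame_th hna h hp h2) hp hd

theorem row_fi22 (h : Spor.IsoFi22 S) {p : ℕ} (hp : p.Prime) (hd : p ∣ Nat.card S) : Row p S := by
  obtain ⟨e⟩ := id h
  exact row2 hna hS e S2079.result (Cfsg.Agent.H728.DL.Fi22.kd_fi22 h) (fun p hp h2 => tame_fi22 hna hp h2 h) hp hd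

theorem row_fi23 (h : Spor.IsoFi23 S) {p : ℕ} (hp : p.Prime) (hd : p ∣ Nat.card S) : Row p S := by
  obtain ⟨e⟩ := id h
  have h3 := Cfsg.Agent.H728.DL.Fi23.b0_three h
  exact row3 hna hS (out_one e S2080.result) (Cfsg.Agent.H728.DL.Fi23.kd_two h)
    (KD.common 2 h3.1 h3.2 (by norm_num) (by norm_num) (by norm_num) (by norm_num) (by norm_num)
      (by norm_num) (by norm_num) (by norm_num) (by norm_num))
    (fun p hp h5 => tame_fi23 hna hp h5 h) hp hd

theorem row_fi24 (h : Spor.IsoFi24' S) {p : ℕ} (hp : p.Prime) (hd : p ∣ Nat.card S) : Row p S := by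
  obtain ⟨e⟩ := id h
  have : Fact p.Prime := ⟨hp⟩
  have ho : Nat.card (Out S) = 2 := (card_out_congr e).trans S2081.result
  rcases prime_two_three_five hp with rfl | rfl | h5
  · exact Or.inl ((Cfsg.Agent.H728.DL.Fi24.kd_two h).kill hna hS hd (by rw [ho]) (Or.inl rfl))
  · have h3 := Cfsg.Agent.H728.DL.Fi24.b0_three h
    exact Or.inl (kill_of_pair hna hS hd (by rw [ho]) h3.1 h3.2 (by norm_num) (by norm_num) (g := 17)
      (by rw [ho]; norm_num) (by norm_num) (by norm_num) (by norm_num) (by norm_num) (by norm_num))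
  · exact Or.inr (tame_fi24 hna hp h5 h)

/-- The Tits group. -/
theorem row_tits (h : Lie.IsoTits S) {p : ℕ} (hp : p.Prime) (hd : p ∣ Nat.card S) : Row p S := by
  rcases eq_or_ne p 2 with rfl | h2
  · have : Fact (Nat.Prime 2) := ⟨hp⟩
    exact Or.inl ((Tits.kd_tits h).kill hna hS hd (Cfsg.Agent.H997.PF.OutPart.card_out_tits h) (Or.inl rfl))
  · exact Or.inr (Cfsg.Agent.H849.BD.tame_Tits hna h hp (by have := hp.two_le; omega))

/-- The sporadic groups, from the data of `B` and `M`. -/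
theorem row_sporadic_of (hB : ∀ (S : Type u) [Group S], Spor.IsoB S → KD 2 S ∧ KD 3 S)
    (hM : ∀ (S : Type u) [Group S], Spor.IsoM S → KD 2 S ∧ KD 3 S)
    (h : IsSporadicGroup S) {p : ℕ} (hp : p.Prime) (hd : p ∣ Nat.card S) : Row p S := by
  rcases h with h | h | h | h | h | h | h | h | h | h | h | h | h | h | h | h | h | h | h | h | h | h | h | h | h | h
  · exact Or.inr (tame_m11 hna h hp)
  · exact row_m12 hna hS h hp hd
  · exact row_m22 hna hS h hp hd
  · exact Or.inr (tame_m23 hna h hp)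
  · exact Or.inr (tame_m24 hna h hp)
  · exact Or.inr (tame_j1 hna h hp)
  · exact row_j2 hna hS h hp hd
  · exact row_j3 hna hS h hp hd
  · exact row_j4 hna hS h hp hd
  · exact row_co1 hna hS h hp hd
  · exact row_co2 hna hS h hp hd
  · exact Or.inr (tame_co3 hna h hp)
  · exact row_mcl hna hS h hp hd
  · exact row_hs hna hS h hp hd
  · exact row_suz hna hS h hp hd
  · exact Or.inr (tame_he hna h hp)
  · exact row_ru hna hS h hp hd
  · exact Or.inr (tame_on hna h hp)
  · exact Or.inr (tame_ly hna h hp)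
  · exact row_fi22 hna hS h hp hd
  · exact row_fi23 hna hS h hp hd
  · exact row_fi24 hna hS h hp hd
  · exact row_hn hna hS h hp hd
  · exact row_th hna hS h hp hd
  · obtain ⟨e⟩ := id h
    exact row3 hna hS (out_one e S2084.result) (hB S h).1 (hB S h).2 (fun p hp h5 => tame_b hna hp h5 h) hp hd
  · obtain ⟨e⟩ := id h
    exact row3 hna hS (out_one e S2085.result) (hM S h).1 (hM S h).2 (fun p hp h5 => tame_m hna hp h5 h) hp hd

end Cfsg.Agent.H619.BD
end
end
end

-- part: H619/BD/Spor_mg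
section
set_option linter.all false
open scoped Cfsg.Agent.FastGrp

-- part: H693/Sch/Baby
section
/-!
# The constituents of the permutation character of the Baby Monster on its transpositions are rational (helper693)

* `rat_b` : the Baby Monster has RATIONAL-valued irreducible characters of the degrees
  `96255, 9458750, 4275362520, 9287037474`.
-/

set_option autoImplicit false

namespace Cfsg.Agent.H693.Sch.Baby

open Cfsg Cfsg.Agent.BabyM.Inst Cfsg.Agent.H995.BSch Cfsg.Agent.H995.BSchVal Cfsg.Agent.H816.IMEig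
  Cfsg.Agent.H816.IMEig.Col Cfsg.Agent.Characters.Core Cfsg.Agent.H995.IMB

universe u

theorem rational_of {θ : ℂ} {ω : Fin 5 → ℂ} (hE : Eig (1 : Fin 5) 0 t θ ω) (hω : ∀ u, ∃ r : ℚ, ω u = (r : ℂ)) {f : ℕ}
    (hf : (f : ℂ) * ∑ u, ((∑ w, t u w : ℕ) : ℂ) * ω u ^ 2 = 13571955000) :
    ∃ χ : M.G → ℂ, IsIrrCharacter M.G χ ∧ χ 1 = (f : ℂ) ∧ ∀ g, ∃ r : ℚ, χ g = (r : ℂ) := by
  have : Finite M.G := BabyM.Instance.all.finite_G
  obtain ⟨z₀, h1, h2⟩ := exists_z
  refine Sch.exists_rational (sch.isCol BabyM.Instance.all BabyM.Instance.tr) (x₀ := QuotientGroup.mk 1) (z₀ := z₀)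
    (t := t) (θ := θ) (ω := ω) h2 (by rw [h1]; exact hE) hω ?_
  rw [card_X BabyM.Instance.all BabyM.Instance.tr, hf]
  norm_num

theorem w0_rat (u : Fin 5) : ∃ r : ℚ, H995.IMB.w0 u = (r : ℂ) :=
  ⟨(![1, 23/399, -7/228, 13/2128, -1/798] : Fin 5 → ℚ) u, by (revert u; simp only [H995.IMB.w0, _root_.Fin.forall_fin_succ, Fin.isValue, _root_.Matrix.cons_val_zero, _root_.Rat.cast_one, _root_.Matrix.cons_val_succ, _root_.Rat.cast_div, _root_.Rat.cast_ofNat, _root_.Rat.cast_neg, _root_.Matrix.cons_val_fin_one, _root_.implies_true, _root_.and_self])⟩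

theorem w1_rat (u : Fin 5) : ∃ r : ℚ, H995.IMB.w1 u = (r : ℂ) :=
  ⟨(![1, 29/2261, 7/1216, 61/1157632, -1/36176] : Fin 5 → ℚ) u, by (revert u; simp only [H995.IMB.w1, _root_.Fin.forall_fin_succ, Fin.isValue, _root_.Matrix.cons_val_zero, _root_.Rat.cast_one, _root_.Matrix.cons_val_succ, _root_.Rat.cast_div, _root_.Rat.cast_ofNat, _root_.Matrix.cons_val_fin_one, _root_.Rat.cast_neg, _root_.implies_true, _root_.and_self])⟩

theorem w2_rat (u : Fin 5) : ∃ r : ℚ, H995.IMB.w2 u = (r : ℂ) :=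
  ⟨(![1, 43/88179, -7/40128, -31/2315264, 47/15519504] : Fin 5 → ℚ) u, by (revert u; simp only [H995.IMB.w2, _root_.Fin.forall_fin_succ, Fin.isValue, _root_.Matrix.cons_val_zero, _root_.Rat.cast_one, _root_.Matrix.cons_val_succ, _root_.Rat.cast_div, _root_.Rat.cast_ofNat, _root_.Rat.cast_neg, _root_.Matrix.cons_val_fin_one, _root_.implies_true, _root_.and_self])⟩

theorem w3_rat (u : Fin 5) : ∃ r : ℚ, H995.IMB.w3 u = (r : ℂ) :=
  ⟨(![1, -1/4199, 1/13376, 1/165376, -1/739024] : Fin 5 → ℚ) u, by (revert u; simp only [H995.IMB.w3, _root_.Fin.forall_fin_succ, _root_.one_div, Fin.isValue, _root_.Matrix.cons_val_zero, _root_.Rat.cast_one, _root_.Matrix.cons_val_succ, _root_.Rat.cast_div, _root_.Rat.cast_neg, _root_.Rat.cast_ofNat, _root_.Rat.cast_inv, _root_.Matrix.cons_val_fin_one, _root_.implies_true, _root_.and_self])⟩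

theorem rat0 : ∃ χ : M.G → ℂ, IsIrrCharacter M.G χ ∧ χ 1 = ((96255 : ℕ) : ℂ) ∧ ∀ g, ∃ r : ℚ, χ g = (r : ℂ) := by
  refine rational_of (θ := 228735) (ω := H995.IMB.w0) eig0 w0_rat ?_
  simp only [Fin.sum_univ_five]
  simp [t, H995.IMB.w0]
  norm_num

theorem rat1 : ∃ χ : M.G → ℂ, IsIrrCharacter M.G χ ∧ χ 1 = ((9458750 : ℕ) : ℂ) ∧ ∀ g, ∃ r : ℚ, χ g = (r : ℂ) := by
  refine rational_of (θ := 50895) (ω := H995.IMB.w1) eig1 w1_rat ?_
  simp only [Fin.sum_univ_five]
  simp [t, H995.IMB.w1]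
  norm_num

theorem rat2 : ∃ χ : M.G → ℂ, IsIrrCharacter M.G χ ∧ χ 1 = ((4275362520 : ℕ) : ℂ) ∧ ∀ g, ∃ r : ℚ, χ g = (r : ℂ) := by
  refine rational_of (θ := 1935) (ω := H995.IMB.w2) eig2 w2_rat ?_
  simp only [Fin.sum_univ_five]
  simp [t, H995.IMB.w2]
  norm_num

theorem rat3 : ∃ χ : M.G → ℂ, IsIrrCharacter M.G χ ∧ χ 1 = ((9287037474 : ℕ) : ℂ) ∧ ∀ g, ∃ r : ℚ, χ g = (r : ℂ) := by
  refine rational_of (θ := -945) (ω := H995.IMB.w3) eig3 w3_rat ?_
  simp only [Fin.sum_univ_five]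
  simp [t, H995.IMB.w3]
  norm_num

theorem rat_model {d : ℕ} (hd : d ∈ ds) :
    ∃ χ : M.G → ℂ, IsIrrCharacter M.G χ ∧ χ 1 = (d : ℂ) ∧ ∀ g, ∃ r : ℚ, χ g = (r : ℂ) := by
  unfold ds at hd
  simp only [List.mem_cons, List.not_mem_nil, or_false] at hd
  rcases hd with rfl | rfl | rfl | rfl
  · exact rat0
  · exact rat1
  · exact rat2
  · exact rat3

/-- **Rational-valued irreducible characters of the Baby Monster.** -/
theorem rat_b {S : Type u} [Group S] (h : Spor.IsoB S) {d : ℕ} (hd : d ∈ ds) :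
    ∃ χ : IrrCharacter S, (χ : S → ℂ) 1 = (d : ℂ) ∧ charDegree (χ : S → ℂ) = d ∧
      ∀ g : S, ∃ q : ℚ, (χ : S → ℂ) g = (q : ℂ) := by
  obtain ⟨e⟩ := h
  obtain ⟨χ, hχ, h1, h2⟩ := rat_model hd
  let f : S ≃* M.G := e.trans Cfsg.Agent.BM.KHAll.iso
  have h3 : (χ ∘ f.toMonoidHom) 1 = (d : ℂ) := by
    rw [Function.comp_apply, map_one, h1]
  exact ⟨⟨χ ∘ f.toMonoidHom, isIrr_comp f.toMonoidHom f.surjective hχ⟩, h3,
    Cfsg.Agent.Blocks.Basic.charDegree_of_eq h3, fun g => h2 _⟩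

end Cfsg.Agent.H693.Sch.Baby
end

-- part: H693/Sch/Monster
section
/-!
# The nine constituents of the permutation character of the Monster on the axes are rational (helper693)

* `exists_values` : the values of the constituents, `χ g = f / 97239461142009186000 * ∑ u, #{x : c x (g x) = u} * ω u / D`;
* `rat_m` : the Monster has RATIONAL-valued irreducible characters of the nine degrees `degs`.
-/

set_option autoImplicit false

namespace Cfsg.Agent.H693.Sch.Monster

open Cfsg Cfsg.Agent.MonsterX.InstData Cfsg.Agent.Characters.Core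
open Cfsg.Agent.H816 Cfsg.Agent.H816.MEigL Cfsg.Agent.H816.MSch Cfsg.Agent.H816.MDeg Cfsg.Agent.H816.IMEig

universe u

section model

variable {P : Fin 9 → Fin 9 → ℤ} {θ D : ℤ} {ω : Fin 9 → ℤ} {R : Fin 9 → Fin 9 → ℤ} {r : Fin 9 → ℤ} {f : ℕ}

theorem exists_rational (h : Dat MSch.t MSch.k P 2 θ D ω R r 97239461142009186000 f) :
    ∃ χ : ↥M.G → ℂ, IsIrrCharacter ↥M.G χ ∧ χ 1 = f ∧ ∀ g, ∃ q : ℚ, χ g = (q : ℂ) := by
  have := finite_G
  have hE := h.toEig
  have hd := h.toDeg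
  rw [← c_b1] at hE
  refine Sch.exists_rational isCol MSch.tt_eq hE (fun u => ⟨(ω u : ℚ) / (D : ℚ), by push_cast; rfl⟩) ?_
  rw [card_XT]
  exact hd

end model

/-- The nine degrees. -/
def degs : List ℕ := [1, 196883, 842609326, 18538750076, 36173193327999, 1109944460516150, 251098487132187500,
  49609712911192813665, 47377503606648784400]

theorem rat_model {d : ℕ} (hd : d ∈ degs) :
    ∃ χ : ↥M.G → ℂ, IsIrrCharacter ↥M.G χ ∧ χ 1 = (d : ℂ) ∧ ∀ g, ∃ q : ℚ, χ g = (q : ℂ) := by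
  simp only [degs, List.mem_cons, List.not_mem_nil, or_false] at hd
  rcases hd with rfl | rfl | rfl | rfl | rfl | rfl | rfl | rfl | rfl
  · exact exists_rational dat_1
  · exact exists_rational dat_196883
  · exact exists_rational dat_842609326
  · exact exists_rational dat_18538750076
  · exact exists_rational dat_36173193327999
  · exact exists_rational dat_1109944460516150
  · exact exists_rational dat_251098487132187500
  · exact exists_rational dat_49609712911192813665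
  · exact exists_rational dat_47377503606648784400

/-- **Rational-valued irreducible characters of the Monster.** -/
theorem rat_m {S : Type u} [Group S] (h : Spor.IsoM S) {d : ℕ} (hd : d ∈ degs) :
    ∃ χ : IrrCharacter S, (χ : S → ℂ) 1 = (d : ℂ) ∧ charDegree (χ : S → ℂ) = d ∧
      ∀ g : S, ∃ q : ℚ, (χ : S → ℂ) g = (q : ℂ) := by
  obtain ⟨e⟩ := IMM.exists_equiv h
  obtain ⟨χ, hχ, h1, h2⟩ := rat_model hd
  have h3 : (χ ∘ e.toMonoidHom) 1 = (d : ℂ) := by
    rw [Function.comp_apply, map_one, h1]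
  exact ⟨⟨χ ∘ e.toMonoidHom, isIrr_comp e.toMonoidHom e.surjective hχ⟩, h3,
    Cfsg.Agent.Blocks.Basic.charDegree_of_eq h3, fun g => h2 _⟩

end Cfsg.Agent.H693.Sch.Monster
end

-- part: H58/BD/BM
section
/-!
# S4932: the data `KD 2 S`, `KD 3 S` for the Baby Monster and the Monster (helper58)

* `BM.b_two`, `BM.b_three` : the Baby Monster;
* `BM.m_two`, `BM.m_three` : the Monster.
-/

set_option autoImplicit false

open Cfsg

namespace Cfsg.Agent.H58.BD.BM

open Cfsg.Agent.H619.BD Cfsg.Agent.H619.R4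
open Cfsg.Agent.Characters Cfsg.Agent.Characters.Core

universe u

/-! ### The Baby Monster -/

namespace Baby

open Cfsg.Agent.BabyM.Inst Cfsg.Agent.H995 Cfsg.Agent.H995.BSch Cfsg.Agent.H995.BSchVal Cfsg.Agent.H995.IMB
  Cfsg.Agent.H816.IMEig Cfsg.Agent.H816.IMEig.Col

/-- An element of order `46` of the model. -/
theorem order46 : ∃ u : M.G, orderOf u = 46 := by
  have A := Cfsg.Agent.BabyM.Instance.all
  have := A.finite_G
  have hz : M.z ∈ M.G := A.C_le_G (A.grp.Q_le A.grp.z_mem)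
  set z : M.G := ⟨M.z, hz⟩ with hzdef
  have hz2 : orderOf z = 2 := by
    refine orderOf_eq_prime ?_ fun h => A.grp.z_ne (congrArg Subtype.val h)
    rw [pow_two]
    exact Subtype.ext A.grp.z_sq
  have hC : Nat.card M.C = 2 ^ 23 * 42305421312000 := A.grp.card_C
  have hle : M.C.subgroupOf M.G ≤ Subgroup.centralizer ({z} : Set M.G) := by
    intro x hx
    rw [Subgroup.mem_centralizer_singleton_iff]
    exact Subtype.ext (A.grp.z_comm x hx)
  have hd : 23 ∣ Nat.card (Subgroup.centralizer ({z} : Set M.G)) := by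
    refine dvd_trans ?_ (Subgroup.card_dvd_of_le hle)
    rw [Nat.card_congr (Subgroup.subgroupOfEquivOfLe (show M.C ≤ M.G from fun x hx => A.C_le_G hx)).toEquiv,
      hC]
    norm_num
  have : Fact (Nat.Prime 23) := ⟨by norm_num⟩
  obtain ⟨⟨y, hy⟩, hy2⟩ := exists_prime_orderOf_dvd_card' 23 hd
  rw [Subgroup.orderOf_mk] at hy2
  have hc : Commute z y := (Subgroup.mem_centralizer_singleton_iff.1 hy).symm
  refine ⟨z * y, ?_⟩
  rw [hc.orderOf_mul_eq_mul_orderOf_of_coprime (by rw [hz2, hy2]; norm_num), hz2, hy2]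

/-- The trivial spherical function. -/
noncomputable def wt : Fin 5 → ℂ := fun _ => 1

/-- **The constituents.** -/
theorem constituent {θ : ℂ} {ω : Fin 5 → ℂ} (hE : Eig (1 : Fin 5) 0 t θ ω) {f : ℕ}
    (hf : (f : ℂ) * ∑ u, ((∑ w, t u w : ℕ) : ℂ) * ω u ^ 2 = 13571955000) :
    ∃ χ : IrrCharacter M.G, (χ : M.G → ℂ) 1 = (f : ℂ) ∧ ∃ c' : M.G → ℂ, IsCharacter M.G c' ∧
      (fun g : M.G => (Nat.card (MulAction.fixedBy (X M) g) : ℂ)) = (χ : M.G → ℂ) + c' := by
  have hcol := sch.isCol BabyM.Instance.all BabyM.Instance.tr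
  have hcard := card_X BabyM.Instance.all BabyM.Instance.tr
  have hfin : Finite (X M) := Nat.finite_of_card_ne_zero (by rw [hcard]; norm_num)
  obtain ⟨z₀, h1, h2⟩ := exists_z
  refine exists_constituent hcol (x₀ := QuotientGroup.mk 1) (z₀ := z₀) (t := t) (θ := θ) (ω := ω) h2
    (by rw [h1]; exact hE) ?_
  rw [hcard, hf]
  norm_num

theorem eigt : Eig (1 : Fin 5) 0 t 3968055 wt where
  one := rfl
  eig := by
    intro u
    rw [kk_one]
    fin_cases u
    all_goals
      simp only [Fin.sum_univ_five]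
      simp [t, wt]
      try norm_num
  uniq := by
    intro φ h
    rw [kk_one] at h
    have h0 := h 0
    have h1 := h 1
    have h2 := h 2
    have h3 := h 3
    have h4 := h 4
    simp only [Fin.sum_univ_five] at h0 h1 h2 h3 h4
    simp only [t, _root_.Nat.cast_ofNat, _root_.Fin.isValue, _root_.Matrix.cons_val', _root_.Matrix.cons_val_zero, _root_.Matrix.cons_val_fin_one, _root_.CharP.cast_eq_zero, _root_.MulZeroClass.mul_zero, _root_.MulZeroClass.zero_mul, _root_.Matrix.cons_val_one, _root_.Nat.cast_one, _root_.mul_one, _root_.zero_add, _root_.Matrix.cons_val, _root_.add_zero, _root_.mul_eq_mul_left_iff, _root_.OfNat.ofNat_ne_zero, _root_.or_false, _root_.Nat.reduceAdd] at h0 h1 h2 h3 h4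
    have e1 : φ 1 = φ 0 := h0
    have e3 : 2097152 * φ 3 + 1824768 * φ 4 = 3921920 * φ 0 := by
      linear_combination (1/3968055) * h1 + (3968055 - 46134) * e1
    have e4 : 2097152 * φ 0 + 1868562432 * φ 4 = 1870659584 * φ 3 := by
      linear_combination (1/3968055) * h3 - 2097152 * e1
    have f3 : φ 3 = φ 0 := by
      linear_combination (1868562432 / (2097152 * 1868562432 + 1824768 * 1870659584)) * e3 -
        (1824768 / (2097152 * 1868562432 + 1824768 * 1870659584)) * e4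
    have f4 : φ 4 = φ 0 := by
      linear_combination (1 / 1868562432) * e4 + (1870659584 / 1868562432) * f3
    have f2 : φ 2 = φ 0 := by
      linear_combination f4 - (1 / (3968055 * 22708224)) * h2
    intro u
    fin_cases u
    · simp [wt]
    · simpa [wt] using e1
    · simpa [wt] using f2
    · simpa [wt] using f3
    · simpa [wt] using f4

/-- The five degrees. -/
def dd : Fin 5 → ℕ := ![1, 96255, 9458750, 4275362520, 9287037474]

theorem hd (i : Fin 5) : ∃ χ : IrrCharacter M.G, (χ : M.G → ℂ) 1 = (dd i : ℂ) ∧ ∃ c' : M.G → ℂ, IsCharacter M.G c' ∧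
      (fun g : M.G => (Nat.card (MulAction.fixedBy (X M) g) : ℂ)) = (χ : M.G → ℂ) + c' := by
  fin_cases i
  · refine constituent (f := 1) eigt ?_
    simp only [Fin.sum_univ_five]
    simp [t, wt]
    norm_num
  · refine constituent (f := 96255) eig0 ?_
    simp only [Fin.sum_univ_five]
    simp [t, IMB.w0]
    norm_num
  · refine constituent (f := 9458750) eig1 ?_
    simp only [Fin.sum_univ_five]
    simp [t, IMB.w1]
    norm_num
  · refine constituent (f := 4275362520) eig2 ?_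
    simp only [Fin.sum_univ_five]
    simp [t, IMB.w2]
    norm_num
  · refine constituent (f := 9287037474) eig3 ?_
    simp only [Fin.sum_univ_five]
    simp [t, IMB.w3]
    norm_num

theorem subsets : ∀ T : Finset (Fin 5), 0 ∈ T → (∑ i ∈ T, dd i) % 3 ^ 4 = 0 → T = Finset.univ := by
  decide +kernel

theorem b0 (i : Fin 5) : B0D 3 M.G (dd i) := by
  have hcard := card_X BabyM.Instance.all BabyM.Instance.tr
  have hfin : Finite (X M) := Nat.finite_of_card_ne_zero (by rw [hcard]; norm_num)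
  have hcol := sch.isCol BabyM.Instance.all BabyM.Instance.tr
  have hs : ∑ i, dd i = Nat.card (X M) := by
    rw [hcard]
    decide +kernel
  exact B0D.scheme (X := X M) (QuotientGroup.mk 1) (fun x => hcol.exists_smul _ x) (d := dd) rfl hd
    (by decide) hs (e := 4) (by decide +kernel) subsets i

end Baby

/-- **The Baby Monster, `p = 3`.** -/
theorem b_three {S : Type u} [Group S] (h : Spor.IsoB S) : KD 3 S := by
  obtain ⟨e⟩ := h
  have : Finite Cfsg.Agent.BabyM.Inst.M.G := Cfsg.Agent.BabyM.Instance.all.finite_G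
  let f : S ≃* Cfsg.Agent.BabyM.Inst.M.G := e.trans Cfsg.Agent.BM.KHAll.iso
  have h1 : B0D 3 S 96255 := (Baby.b0 1).congr f.symm
  have h2 : B0D 3 S 9458750 := (Baby.b0 2).congr f.symm
  exact KD.common 23 h1 h2 (by norm_num) (by norm_num) (by norm_num) (by norm_num) (by norm_num) (by norm_num)
    (by norm_num) (by norm_num) (by norm_num)

/-- **The Baby Monster, `p = 2`.** -/
theorem b_two {S : Type u} [Group S] (h : Spor.IsoB S) : KD 2 S := by
  have hcard : Nat.card S = 4154781481226426191177580544000000 := by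
    obtain ⟨e⟩ := h
    rw [Nat.card_congr e.toEquiv]
    exact BM.KHAll.isB.2
  have hfin : Finite S := Nat.finite_of_card_ne_zero (by rw [hcard]; norm_num)
  obtain ⟨χ, h1, h2, h3⟩ := Cfsg.Agent.H693.Sch.Baby.rat_b h (d := 96255) (by simp [Cfsg.Agent.H995.IMB.ds])
  have hb : B0D 2 S 96255 := B0D.of_rat χ.2 h3 h1 (by decide)
  obtain ⟨u, hu⟩ : ∃ u : S, orderOf u = 46 := by
    obtain ⟨e⟩ := h
    let f : S ≃* Cfsg.Agent.BabyM.Inst.M.G := e.trans Cfsg.Agent.BM.KHAll.iso
    obtain ⟨u, hu⟩ := Baby.order46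
    exact ⟨f.symm u, by rw [MulEquiv.orderOf_eq f.symm u, hu]⟩
  refine KD.zero 23 hb (by norm_num) (by norm_num) (by norm_num) (by norm_num) ?_ u (by rw [hu])
  rw [factorization_card hcard (k := 1) (by norm_num) (by norm_num) (by norm_num) (by norm_num)]
  norm_num

/-! ### The Monster -/

namespace Mon

open Cfsg.Agent.MonsterX.InstData
open Cfsg.Agent.H816 Cfsg.Agent.H816.MEigL Cfsg.Agent.H816.MSch Cfsg.Agent.H816.MDeg Cfsg.Agent.H816.IMEig

/-- **The constituents.** -/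
theorem constituent {P : Fin 9 → Fin 9 → ℤ} {θ D : ℤ} {ω : Fin 9 → ℤ} {R : Fin 9 → Fin 9 → ℤ} {r : Fin 9 → ℤ} {f : ℕ}
    (h : Dat MSch.t MSch.k P 2 θ D ω R r 97239461142009186000 f) :
    ∃ χ : IrrCharacter ↥M.G, (χ : ↥M.G → ℂ) 1 = (f : ℂ) ∧ ∃ c' : ↥M.G → ℂ, IsCharacter ↥M.G c' ∧
      (fun g : ↥M.G => (Nat.card (MulAction.fixedBy XT g) : ℂ)) = (χ : ↥M.G → ℂ) + c' := by
  have := finite_G
  have hE := h.toEig
  have hd := h.toDeg
  rw [← c_b1] at hE
  exact exists_constituent isCol MSch.tt_eq hE (by rw [card_XT]; exact hd)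

/-- The nine degrees. -/
def dd : Fin 9 → ℕ := ![1, 196883, 842609326, 18538750076, 36173193327999, 1109944460516150, 251098487132187500,
  49609712911192813665, 47377503606648784400]

theorem hd (i : Fin 9) : ∃ χ : IrrCharacter ↥M.G, (χ : ↥M.G → ℂ) 1 = (dd i : ℂ) ∧ ∃ c' : ↥M.G → ℂ,
      IsCharacter ↥M.G c' ∧ (fun g : ↥M.G => (Nat.card (MulAction.fixedBy XT g) : ℂ)) = (χ : ↥M.G → ℂ) + c' := by
  fin_cases i
  · exact constituent dat_1
  · exact constituent dat_196883
  · exact constituent dat_842609326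
  · exact constituent dat_18538750076
  · exact constituent dat_36173193327999
  · exact constituent dat_1109944460516150
  · exact constituent dat_251098487132187500
  · exact constituent dat_49609712911192813665
  · exact constituent dat_47377503606648784400

theorem subsets : ∀ T : Finset (Fin 9), 0 ∈ T → (∑ i ∈ T, dd i) % 3 ^ 7 = 0 → T = Finset.univ := by
  decide +kernel

theorem b0 (i : Fin 9) : B0D 3 ↥M.G (dd i) := by
  have := finite_G
  have hs : ∑ i, dd i = Nat.card XT := by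
    rw [card_XT]
    decide +kernel
  exact B0D.scheme (X := XT) MSch.b0 (fun x => c_trans _ x) (d := dd) rfl hd
    (by decide) hs (e := 7) (by decide +kernel) subsets i

end Mon

/-- **The Monster, `p = 3`.** -/
theorem m_three {S : Type u} [Group S] (h : Spor.IsoM S) : KD 3 S := by
  obtain ⟨e⟩ := H816.IMM.exists_equiv h
  have := H816.MSch.finite_G
  have h1 : B0D 3 S 196883 := (Mon.b0 1).congr e.symm
  have h2 : B0D 3 S 842609326 := (Mon.b0 2).congr e.symm
  exact KD.common 59 h1 h2 (by norm_num) (by norm_num) (by norm_num) (by norm_num) (by norm_num) (by norm_num)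
    (by norm_num) (by norm_num) (by norm_num)

/-- **The Monster, `p = 2`.** -/
theorem m_two {S : Type u} [Group S] (h : Spor.IsoM S) : KD 2 S := by
  have hfin : Finite S := by
    obtain ⟨e⟩ := H816.IMM.exists_equiv h
    have := H816.MSch.finite_G
    exact Finite.of_equiv _ e.symm.toEquiv
  obtain ⟨χ, h1, h2, h3⟩ := Cfsg.Agent.H693.Sch.Monster.rat_m h (d := 196883)
    (by simp [Cfsg.Agent.H693.Sch.Monster.degs])
  obtain ⟨ψ, k1, k2, k3⟩ := Cfsg.Agent.H693.Sch.Monster.rat_m h (d := 36173193327999)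
    (by simp [Cfsg.Agent.H693.Sch.Monster.degs])
  have hb : B0D 2 S 196883 := B0D.of_rat χ.2 h3 h1 (by decide)
  have hb' : B0D 2 S 36173193327999 := B0D.of_rat ψ.2 k3 k1 (by decide)
  exact KD.common 59 hb hb' (by norm_num) (by norm_num) (by norm_num) (by norm_num) (by norm_num) (by norm_num)
    (by norm_num) (by norm_num) (by norm_num)

end Cfsg.Agent.H58.BD.BM
end

-- part: H619/BD/Spor
section
/-!
# S4932, S4953: all sporadic groups (helper619)
-/

set_option autoImplicit false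

open Cfsg

namespace Cfsg.Agent.H619.BD

open Cfsg.Agent.H589.BD

universe u

/-- **The rows of the sporadic groups.** -/
theorem row_sporadic {S : Type u} [Group S] [Finite S] [IsSimpleGroup S] (hna : ¬ IsMulCommutative S) (hS : SizeOK S)
    (h : IsSporadicGroup S) {p : ℕ} (hp : p.Prime) (hd : p ∣ Nat.card S) : Row p S :=
  row_sporadic_of hna hS (fun _ _ h => ⟨Cfsg.Agent.H58.BD.BM.b_two h, Cfsg.Agent.H58.BD.BM.b_three h⟩)
    (fun _ _ h => ⟨Cfsg.Agent.H58.BD.BM.m_two h, Cfsg.Agent.H58.BD.BM.m_three h⟩) h hp hd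

end Cfsg.Agent.H619.BD
end

-- part: H726/BD/Rows
section
/-!
# S4932: the rows `E₆(q)`, `E₇(q)`, `E₈(q)` at the prime 3 (helper726)

The fields `e6`, `e7`, `e8` of `H787.BD.TabBig`.
-/

set_option autoImplicit false

namespace Cfsg.Agent.H726.BD

open Cfsg Cfsg.Agent.H589.BD Cfsg.Agent.H787.BD

universe u

theorem Pack.row {p : ℕ} (hp : p.Prime) {S : Type u} [Group S] [Finite S] [IsSimpleGroup S]
    (hna : ¬ IsMulCommutative S) (hS : SizeOK S) {T : Type} [Group T] (e : S ≃* T) (h : Pack p T) : Row p S := by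
  have : Fact p.Prime := ⟨hp⟩
  exact Or.inl ((h.of_equiv e).kill hna hS)

theorem three_ne {r : ℕ} (hr : r.Prime) (h3 : r ≠ 3) (F : Type) [Field F] [CharP F r] : (3 : F) ≠ 0 := by
  intro h
  have h1 : ((3 : ℕ) : F) = 0 := by exact_mod_cast h
  rw [CharP.cast_eq_zero_iff F r] at h1
  exact h3 ((Nat.prime_dvd_prime_iff_eq hr Nat.prime_three).1 h1)

/-- **`E₆(q)`, `p = 3`.** -/
theorem e6 : ∀ r : ℕ, r.Prime → r ≠ 3 → ∀ (F : Type) [Field F] [Fintype F] [CharP F r],
    RowsOf.{u} 3 (fun S _ => Nonempty (S ≃* Lie.chevE6.group F)) := by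
  intro r hr h3 F _ _ _ S _ _ _ hna hz _ ⟨e⟩
  exact Pack.row Nat.prime_three hna hz e (pack_E6 (three_ne hr h3 F))

/-- **`E₇(q)`, `p = 3`.** -/
theorem e7 : ∀ r : ℕ, r.Prime → r ≠ 3 → ∀ (F : Type) [Field F] [Fintype F] [CharP F r],
    RowsOf.{u} 3 (fun S _ => Nonempty (S ≃* Lie.chevE7.group F)) := by
  intro r hr h3 F _ _ _ S _ _ _ hna hz _ ⟨e⟩
  exact Pack.row Nat.prime_three hna hz e (pack_E7 (three_ne hr h3 F))

/-- **`E₈(q)`, `p = 3`.** -/
theorem e8 : ∀ r : ℕ, r.Prime → r ≠ 3 → ∀ (F : Type) [Field F] [Fintype F] [CharP F r],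
    RowsOf.{u} 3 (fun S _ => Nonempty (S ≃* Lie.chevE8.group F)) := by
  intro r hr h3 F _ _ _ S _ _ _ hna hz _ ⟨e⟩
  exact Pack.row Nat.prime_three hna hz e (pack_E8 (three_ne hr h3 F))

end Cfsg.Agent.H726.BD
end

-- part: H726/BD/TwE6Two
section
/-!
# S4932: `²E₆(2)` at the prime 3 (helper726)
-/

set_option autoImplicit false
set_option linter.unusedSectionVars false

namespace Cfsg.Agent.H726.BD

open Cfsg Cfsg.Lie Cfsg.Agent.H589.BD

universe u v

open Equiv Equiv.Perm in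
/-- an element of type `3²1²` in `A₈` -/
theorem exists_c : ∃ c : ↥(alternatingGroup (Fin 8)), c ^ 3 = 1 ∧ c ≠ 1 ∧
    Nat.card (Subgroup.centralizer ({(c : Perm (Fin 8))} : Set (Perm (Fin 8)))) ≤ 36 := by
  set c1 : Perm (Fin 8) := swap 0 1 * swap 0 2 with hc1
  set c2 : Perm (Fin 8) := swap 3 4 * swap 3 5 with hc2
  have t1 : IsThreeCycle c1 := isThreeCycle_swap_mul_swap_same (by decide) (by decide) (by decide)
  have t2 : IsThreeCycle c2 := isThreeCycle_swap_mul_swap_same (by decide) (by decide) (by decide)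
  have hd : _root_.Equiv.Perm.Disjoint c1 c2 := by
    intro x
    rw [hc1, hc2]
    revert x
    decide
  have hct : (c1 * c2).cycleType = {3, 3} := by
    rw [hd.cycleType_mul, t1.cycleType, t2.cycleType]
    rfl
  refine ⟨⟨c1 * c2, mul_mem t1.mem_alternatingGroup t2.mem_alternatingGroup⟩, ?_, ?_, ?_⟩
  · apply Subtype.ext
    show (c1 * c2) ^ 3 = 1
    have h1 : c1 ^ 3 = 1 := by rw [← t1.orderOf, pow_orderOf_eq_one]
    have h2 : c2 ^ 3 = 1 := by rw [← t2.orderOf, pow_orderOf_eq_one]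
    rw [hd.commute.mul_pow, h1, h2, one_mul]
  · intro h
    have h1 : c1 * c2 = 1 := congrArg Subtype.val h
    rw [h1, cycleType_one] at hct
    exact absurd (congrArg Multiset.card hct) (by simp)
  · show Nat.card (Subgroup.centralizer ({c1 * c2} : Set (Perm (Fin 8)))) ≤ 36
    rw [nat_card_centralizer, hct]
    decide

/-- an element of order 15 with a small centralizer -/
theorem exists_u {K : Type v} [Field K] [Fintype K] (hK : Fintype.card K = 4) (h5 : 5 ∣ Nat.card ↥(twistedE6 K 2)) :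
    ∃ u : ↥(twistedE6 K 2), 3 ∣ orderOf u ∧ Nat.card (Subgroup.centralizer ({u} : Set ↥(twistedE6 K 2))) ≤ 180 := by
  have : Fact (Nat.Prime 5) := ⟨by norm_num⟩
  obtain ⟨x, hx⟩ := exists_prime_orderOf_dvd_card' (G := ↥(twistedE6 K 2)) 5 h5
  obtain ⟨e⟩ := (Cfsg.Agent.S2227.result hK).2 x hx
  obtain ⟨c, hc3, hc1, hcc⟩ := exists_c
  set z' := e.symm ((1 : Multiplicative (ZMod 5)), c) with hz'
  set z : ↥(twistedE6 K 2) := (z' : ↥(twistedE6 K 2)) with hz
  have hxz : Commute x z := by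
    have := z'.2
    rw [Subgroup.mem_centralizer_singleton_iff] at this
    exact this.symm
  have hx5 : x ^ 5 = 1 := by rw [← hx, pow_orderOf_eq_one]
  have hz3' : z' ^ 3 = 1 := by
    rw [hz', ← map_pow]
    simp [hc3]
  have hz3 : z ^ 3 = 1 := by
    have := congrArg Subtype.val hz3'
    simpa only [_root_.SubmonoidClass.coe_pow, _root_.OneMemClass.coe_one] using this
  have hz1 : z ≠ 1 := by
    intro h
    apply hc1
    have h1 : z' = 1 := Subtype.ext h
    have h2 : e z' = 1 := by rw [h1, map_one]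
    rw [hz', MulEquiv.apply_symm_apply] at h2
    exact congrArg Prod.snd h2
  have h10 : (x * z) ^ 10 = z := by
    rw [hxz.mul_pow, show (10 : ℕ) = 5 * 2 by norm_num, pow_mul, hx5, one_pow, one_mul,
      show (5 * 2 : ℕ) = 3 * 3 + 1 by norm_num, pow_succ, pow_mul, hz3, one_pow, one_mul]
  have h6 : (x * z) ^ 6 = x := by
    rw [hxz.mul_pow, show (6 : ℕ) = 5 + 1 by norm_num, pow_succ, hx5, one_mul,
      show (5 + 1 : ℕ) = 3 * 2 by norm_num, pow_mul z, hz3, one_pow, mul_one]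
  refine ⟨x * z, ?_, ?_⟩
  · have h1 : orderOf z = 3 := orderOf_eq_prime hz3 hz1
    rw [← h1]
    nth_rw 1 [← h10]
    exact orderOf_pow_dvd _
  · have hgx : ∀ g ∈ Subgroup.centralizer ({x * z} : Set ↥(twistedE6 K 2)),
        g ∈ Subgroup.centralizer ({x} : Set ↥(twistedE6 K 2)) := by
      intro g hg
      rw [Subgroup.mem_centralizer_singleton_iff] at hg ⊢
      have : Commute g (x * z) := hg
      have := this.pow_right 6
      rw [h6] at this
      exact this
    have hgz : ∀ g ∈ Subgroup.centralizer ({x * z} : Set ↥(twistedE6 K 2)), g * z = z * g := by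
      intro g hg
      rw [Subgroup.mem_centralizer_singleton_iff] at hg
      have : Commute g (x * z) := hg
      have := this.pow_right 10
      rw [h10] at this
      exact this
    have hcomm : ∀ g : ↥(Subgroup.centralizer ({x * z} : Set ↥(twistedE6 K 2))),
        ((e ⟨g, hgx g g.2⟩).2 : Equiv.Perm (Fin 8)) ∈
          Subgroup.centralizer ({(c : Equiv.Perm (Fin 8))} : Set (Equiv.Perm (Fin 8))) := by
      intro g
      rw [Subgroup.mem_centralizer_singleton_iff]
      have h1 : (⟨g, hgx g g.2⟩ : ↥(Subgroup.centralizer ({x} : Set ↥(twistedE6 K 2)))) * z' =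
          z' * ⟨g, hgx g g.2⟩ := Subtype.ext (hgz g g.2)
      have h2 := congrArg e h1
      rw [map_mul, map_mul, hz', MulEquiv.apply_symm_apply] at h2
      have h3 := congrArg (fun a => ((a.2 : ↥(alternatingGroup (Fin 8))) : Equiv.Perm (Fin 8))) h2
      simpa only [_root_.Prod.snd_mul, _root_.Subgroup.coe_mul] using h3
    have hinj : Function.Injective (fun g : ↥(Subgroup.centralizer ({x * z} : Set ↥(twistedE6 K 2))) =>
        ((e ⟨g, hgx g g.2⟩).1, (⟨_, hcomm g⟩ :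
          ↥(Subgroup.centralizer ({(c : Equiv.Perm (Fin 8))} : Set (Equiv.Perm (Fin 8))))))) := by
      intro a b h
      rw [Prod.mk.injEq, Subtype.mk.injEq] at h
      have h1 : e ⟨a, hgx a a.2⟩ = e ⟨b, hgx b b.2⟩ := Prod.ext h.1 (Subtype.ext h.2)
      have h2 := e.injective h1
      rw [Subtype.mk.injEq] at h2
      exact Subtype.ext h2
    have h7 := Nat.card_le_card_of_injective _ hinj
    rw [Nat.card_prod] at h7
    have h8 : Nat.card (Multiplicative (ZMod 5)) = 5 := by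
      rw [Nat.card_congr Multiplicative.toAdd, Nat.card_zmod]
    rw [h8] at h7
    omega

theorem kill_two {K : Type v} [Field K] [Fintype K] {q r f : ℕ} (hr : r.Prime) (hf : f ≠ 0) (hq : q = r ^ f)
    [CharP K r] (hK : Fintype.card K = q ^ 2) (h2 : q = 2) {S : Type u} [Group S] [Finite S] [IsSimpleGroup S]
    (hna : ¬ IsMulCommutative S) (hS : SizeOK S) (e : S ≃* ↥(twistedE6 K q)) : Kill 3 S := by
  have : Fact (Nat.Prime 3) := ⟨Nat.prime_three⟩
  obtain ⟨⟨β, hβ, hd⟩, ⟨H, hH, hi⟩, ho⟩ := hyp_two hr hf hq hK h2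
  clear hq
  subst h2
  have h4 : (H.comap e.toMonoidHom).index = H.index := H.index_comap_of_surjective e.surjective
  have h5 : Nat.card (Out S) = 6 := by rw [H55.OutGen.card_out_congr e, ho]
  obtain ⟨α, hα, nα, hdα⟩ := exists_small (p := 3) (H.comap e.toMonoidHom) (h4 ▸ hH)
  rw [h4, hi] at hdα
  obtain ⟨u, hu, hcu⟩ := exists_u (K := K) (by rw [hK]; norm_num)
    ((show 5 ∣ H.index by rw [hi]; norm_num).trans H.index_dvd_card)
  have nβ : NT (tr e β) := by
    by_contra hc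
    unfold NT at hc
    push Not at hc
    have h6 : charDegree (tr e β : S → ℂ) = 2 ^ 36 := by rw [charDegree_tr, hd]
    have h7 : charDegree (tr e β : S → ℂ) = 1 :=
      Cfsg.Agent.Blocks.Basic.charDegree_of_eq (by rw [hc 1, Nat.cast_one])
    rw [h7] at h6
    norm_num at h6
  have hcS : Nat.card (Subgroup.centralizer ({e.symm u} : Set S)) =
      Nat.card (Subgroup.centralizer ({u} : Set ↥(twistedE6 K 2))) := by
    refine Nat.card_congr ⟨fun g => ⟨e g, ?_⟩, fun g => ⟨e.symm g, ?_⟩, fun g => Subtype.ext (e.symm_apply_apply _),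
      fun g => Subtype.ext (e.apply_symm_apply _)⟩
    · have h6 := Subgroup.mem_centralizer_singleton_iff.1 g.2
      rw [Subgroup.mem_centralizer_singleton_iff]
      have h7 := congrArg e h6
      simpa only [_root_.map_mul, _root_.MulEquiv.apply_symm_apply] using h7
    · have h6 := Subgroup.mem_centralizer_singleton_iff.1 g.2
      rw [Subgroup.mem_centralizer_singleton_iff]
      have h7 := congrArg e.symm h6
      simpa only [_root_.map_mul] using h7
  refine H296.BD.kill_size hna hS α (tr e β) hα (hβ.tr e) nα nβ (e.symm u) (by rwa [MulEquiv.orderOf_eq]) ?_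
  rw [h5, hcS, charDegree_tr, hd]
  have h8 : Nat.card (Subgroup.centralizer ({u} : Set ↥(twistedE6 K 2))) * charDegree (α : S → ℂ) ≤ 180 * 3968054 :=
    Nat.mul_le_mul hcu (by omega)
  have h9 : 6 * (1 + 6 * Nat.card (Subgroup.centralizer ({u} : Set ↥(twistedE6 K 2))) * charDegree (α : S → ℂ)) =
      6 + 36 * (Nat.card (Subgroup.centralizer ({u} : Set ↥(twistedE6 K 2))) * charDegree (α : S → ℂ)) := by ring
  rw [h9]
  omega

end Cfsg.Agent.H726.BD
end

-- part: H726/BD/TwE6Eight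
section
/-!
# S4932: `²E₆(8)` at the prime 3 (helper726)
-/

set_option autoImplicit false
set_option linter.unusedSectionVars false

namespace Cfsg.Agent.H726.BD

open Cfsg Cfsg.Lie Cfsg.Agent.H589.BD

universe u v

theorem kill_of_gen {p : ℕ} [hp : Fact p.Prime] {S : Type u} [Group S] [Finite S] [IsSimpleGroup S]
    (hna : ¬ IsMulCommutative S) (hS : SizeOK S) (β : IrrCharacter S) (hβ : InB0 p β) (H : Subgroup S)
    (hH : p ∣ H.index) {K o P : ℕ} (ho : Nat.card (Out S) = o) (hP : ordProj[p] (Nat.card S) = P)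
    (hK : (ordProj[p] (o * Nat.card S)) ^ 2 + 4 ≤ 4 * K)
    (h : 2 * o ^ 2 + 2 * (o * H.index) ^ 2 * (o * P * K) < charDegree (β : S → ℂ) ^ 2) : Kill p S := by
  have := Fintype.ofFinite S
  obtain ⟨M₀, hM₀⟩ := Cfsg.Agent.Blocks.Knorr.exists_isPModular p
  obtain ⟨α, h1, -, h2, h3⟩ := H940.RatB.exists_prime_degree hM₀ H hH
  have hα : ∀ M : Ideal AlgInt, IsPModular p M → α ∈ principalBlock M S := fun M hM => by
    rw [H893.Sd.mem_iff hM, ← H893.Sd.mem_iff hM₀]
    exact h1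
  have hαd : charDegree (α : S → ℂ) ≤ H.index :=
    H996.Eight.Interval.charDegree_le (H139.Unipotent.isCharacter_fixedPoint H)
      (H139.Degree.fixedPointCharacter_one H) α.2 h3
  have nα : ∃ g : S, (α : S → ℂ) g ≠ 1 := by
    by_contra hc
    push Not at hc
    exact h2 (funext hc)
  subst ho hP
  refine kill_gen hna hS (hH.trans H.index_dvd_card) α β hα hβ nα (K := K) hK (lt_of_le_of_lt ?_ h)
  gcongr

theorem kill_eight {K : Type v} [Field K] [Fintype K] {q r f : ℕ} (hr : r.Prime) (hf : f ≠ 0) (hq : q = r ^ f)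
    [CharP K r] (hK : Fintype.card K = q ^ 2) (h8 : q = 8) {S : Type u} [Group S] [Finite S] [IsSimpleGroup S]
    (hna : ¬ IsMulCommutative S) (hS : SizeOK S) (e : S ≃* ↥(twistedE6 K q)) : Kill 3 S := by
  have : Fact (Nat.Prime 3) := ⟨Nat.prime_three⟩
  obtain ⟨⟨β, hβ, hd⟩, ⟨H, hH, hi⟩, ho, h3⟩ := hyp_eight hr hf hq hK h8
  have h4 : (H.comap e.toMonoidHom).index = H.index := H.index_comap_of_surjective e.surjective
  have h5 : Nat.card (Out S) = 18 := by rw [H55.OutGen.card_out_congr e, ho]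
  have h6 : (Nat.card S).factorization 3 = 15 := by rw [Nat.card_congr e.toEquiv, h3]
  refine kill_of_gen hna hS (tr e β) (hβ.tr e) (H.comap e.toMonoidHom) (h4 ▸ hH) (K := 4169295424916644) h5
    (P := 3 ^ 15) (by rw [h6]) ?_ ?_
  · rw [Nat.factorization_mul (by norm_num) Nat.card_pos.ne', Finsupp.add_apply, h6,
      Num.fac_eq (d := 18) (k := 2) (by norm_num) (by norm_num) (by norm_num)]
    norm_num
  · rw [charDegree_tr, hd, h4, hi]
    unfold ix
    norm_num

end Cfsg.Agent.H726.BD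
end

-- part: H726/BD/RowTe
section
/-!
# S4932: the row `²E₆(q)` at the prime 3 (helper726)

The field `te` of `H787.BD.TabBig`.
-/

set_option autoImplicit false

namespace Cfsg.Agent.H726.BD

open Cfsg Cfsg.Agent.H589.BD Cfsg.Agent.H787.BD

universe u

/-- **`²E₆(q)`, `p = 3`.** -/
theorem te : ∀ r : ℕ, r.Prime → r ≠ 3 → ∀ (K : Type) [Field K] [Fintype K] [CharP K r] (q : ℕ), IsPrimePow q →
    Fintype.card K = q ^ 2 → RowsOf.{u} 3 (fun S _ => Nonempty (S ≃* Lie.twistedE6 K q)) := by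
  intro r hr h3 K _ _ _ q hq hK S _ _ _ hna hS _ ⟨e⟩
  have : Fact (Nat.Prime 3) := ⟨Nat.prime_three⟩
  obtain ⟨f, hf, hqf⟩ : ∃ f : ℕ, f ≠ 0 ∧ q = r ^ f := by
    obtain ⟨s, f, hs, hf, rfl⟩ := (isPrimePow_nat_iff q).1 hq
    have h1 : (r : ℕ) ∣ Fintype.card K := by
      obtain ⟨n, -, h2⟩ := FiniteField.card K r
      rw [h2]
      exact dvd_pow_self r n.ne_zero
    rw [hK] at h1
    have h2 : r = s := (Nat.prime_dvd_prime_iff_eq hr hs).1 (hr.dvd_of_dvd_pow (hr.dvd_of_dvd_pow h1))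
    exact ⟨f, hf.ne', by rw [h2]⟩
  have h2q : 2 ≤ q := hq.two_le
  have h3q : ¬ 3 ∣ q := by
    intro h
    rw [hqf] at h
    exact h3 ((Nat.prime_dvd_prime_iff_eq Nat.prime_three hr).1 (Nat.prime_three.dvd_of_dvd_pow h)).symm
  left
  by_cases hA : 3 ∣ q - 1
  · exact ((pack_A hr hf hqf hK h3 hA).of_equiv e).kill hna hS
  have hB : 3 ∣ q + 1 := by omega
  rcases (show q = 2 ∨ q = 5 ∨ q = 8 ∨ 11 ≤ q by (clear * - hB; omega)) with h | h | h | h
  · exact kill_two hr hf hqf hK h hna hS e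
  · exact ((pack_five hr hf hqf hK h).of_equiv e).kill hna hS
  · exact kill_eight hr hf hqf hK h hna hS e
  · exact ((pack_B hr hf hqf hK h3 hB h).of_equiv e).kill hna hS

end Cfsg.Agent.H726.BD
end

-- part: H719/BD/PsuOne
section
/-!
# `PSU_n(q)`, `p ∣ q + 1`: the Steinberg character and a small degree in the principal block (helper719, S4932)
-/

set_option autoImplicit false

open Cfsg Matrix

namespace Cfsg.Agent.H719.BD.PsuOne

open Cfsg.Agent.LieClassical.HermSiegel Cfsg.Agent.LieClassical.HermBasic Cfsg.Agent.H589.BD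

variable {F : Type*} [Field F] {q n : ℕ}

/-- the natural representation -/
def rho (n q : ℕ) (F : Type*) [Field F] : SU n F q →* ((Fin n → F) →ₗ[F] (Fin n → F)) where
  toFun g := Matrix.mulVecLin (mat g)
  map_one' := by rw [mat_one, Matrix.mulVecLin_one]; rfl
  map_mul' g h := by rw [mat_mul, Matrix.mulVecLin_mul]; rfl

theorem rho_apply (g : SU n F q) (v : Fin n → F) : rho n q F g v = act g v := rfl

theorem rho_injective : Function.Injective (rho n q F) := fun a b h => ext_act fun v => by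
  rw [← rho_apply, ← rho_apply, h]

/-- diagonal elements of order dividing `p` -/
def D (n q : ℕ) (F : Type*) [Field F] (p : ℕ) : Subgroup (SU n F q) where
  carrier := {g | ∃ a : Fin n → F, mat g = Matrix.diagonal a ∧ ∀ i, a i ^ p = 1}
  one_mem' := ⟨1, by rw [mat_one, Pi.one_def, Matrix.diagonal_one], fun i => by rw [Pi.one_apply, one_pow]⟩
  mul_mem' := by
    rintro g h ⟨a, ha, ha'⟩ ⟨b, hb, hb'⟩
    exact ⟨fun i => a i * b i, by rw [mat_mul, ha, hb, Matrix.diagonal_mul_diagonal], fun i => by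
      rw [mul_pow, ha', hb', one_mul]⟩
  inv_mem' := by
    rintro g ⟨a, ha, ha'⟩
    rcases Nat.eq_zero_or_pos p with hp | hp
    · subst hp
      have h1 : ∀ i, a i ≠ 0 := by
        intro i h0
        have h2 := det_mat g
        rw [ha, Matrix.det_diagonal, Finset.prod_eq_zero (Finset.mem_univ i) h0] at h2
        exact zero_ne_one h2
      refine ⟨fun i => (a i)⁻¹, ?_, fun i => pow_zero _⟩
      have h3 : mat g * mat g⁻¹ = 1 := by rw [← mat_mul, mul_inv_cancel, mat_one]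
      have h4 : Matrix.diagonal (fun i => (a i)⁻¹) * mat g = 1 := by
        rw [ha, Matrix.diagonal_mul_diagonal, ← Matrix.diagonal_one]
        congr 1
        funext i
        exact inv_mul_cancel₀ (h1 i)
      rw [← Matrix.mul_one (Matrix.diagonal (fun i => (a i)⁻¹)), ← h3, ← Matrix.mul_assoc, h4, Matrix.one_mul]
    · have h1 : ∀ i, a i ≠ 0 := by
        intro i h0
        have h2 := ha' i
        rw [h0, zero_pow hp.ne'] at h2
        exact zero_ne_one h2
      refine ⟨fun i => (a i)⁻¹, ?_, fun i => by rw [inv_pow, ha', inv_one]⟩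
      have h3 : mat g * mat g⁻¹ = 1 := by rw [← mat_mul, mul_inv_cancel, mat_one]
      have h4 : Matrix.diagonal (fun i => (a i)⁻¹) * mat g = 1 := by
        rw [ha, Matrix.diagonal_mul_diagonal, ← Matrix.diagonal_one]
        congr 1
        funext i
        exact inv_mul_cancel₀ (h1 i)
      rw [← Matrix.mul_one (Matrix.diagonal (fun i => (a i)⁻¹)), ← h3, ← Matrix.mul_assoc, h4, Matrix.one_mul]

theorem mat_pow (g : SU n F q) (k : ℕ) : mat (g ^ k) = mat g ^ k := by
  induction k with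
  | zero => rw [pow_zero, pow_zero, mat_one]
  | succ k ih => rw [pow_succ, pow_succ, mat_mul, ih]

theorem isPGroup_D {p : ℕ} : IsPGroup p (D n q F p) := by
  rintro ⟨g, a, ha, ha'⟩
  refine ⟨1, Subtype.ext ?_⟩
  rw [pow_one]
  apply mat_injective
  show mat (g ^ p) = mat 1
  rw [mat_pow, ha, Matrix.diagonal_pow, mat_one, ← Matrix.diagonal_one]
  congr 1
  funext i
  exact ha' i

/-- the elements of `D` -/
theorem exists_mem_D {p : ℕ} (hd : p ∣ q + 1) {ζ : F} (hζ : ζ ^ p = 1)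
    (hp : 0 < p) {i k : Fin n} (hik : k ≠ i) :
    ∃ g ∈ D n q F p, ∀ v : Fin n → F, ∀ l, act g v l = (if l = i then ζ else if l = k then ζ⁻¹ else 1) * v l := by
  have hζ0 : ζ ≠ 0 := by
    rintro rfl
    rw [zero_pow hp.ne'] at hζ
    exact zero_ne_one hζ
  set a : Fin n → F := fun l => if l = i then ζ else if l = k then ζ⁻¹ else 1 with ha
  have hap : ∀ l, a l ^ p = 1 := by
    intro l
    simp only [ha]
    split_ifs
    · exact hζ
    · rw [inv_pow, hζ, inv_one]
    · exact one_pow _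
  have haq : ∀ l, a l * a l ^ q = 1 := by
    intro l
    obtain ⟨c, hc⟩ := hd
    rw [← pow_succ', hc, pow_mul, hap, one_pow]
  have hprod : ∏ l, a l = 1 := by
    have h1 : a = Pi.mulSingle i ζ * Pi.mulSingle k ζ⁻¹ := by
      funext l
      rw [Pi.mul_apply]
      simp only [ha]
      by_cases h1 : l = i
      · subst h1
        rw [if_pos rfl, Pi.mulSingle_eq_same, Pi.mulSingle_eq_of_ne hik.symm, mul_one]
      · rw [if_neg h1, Pi.mulSingle_eq_of_ne h1, one_mul]
        by_cases h2 : l = k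
        · subst h2
          rw [if_pos rfl, Pi.mulSingle_eq_same]
        · rw [if_neg h2, Pi.mulSingle_eq_of_ne h2]
    rw [h1]
    simp only [Pi.mul_apply]
    rw [Finset.prod_mul_distrib, Finset.prod_pi_mulSingle', Finset.prod_pi_mulSingle',
      if_pos (Finset.mem_univ _), if_pos (Finset.mem_univ _), mul_inv_cancel₀ hζ0]
  refine ⟨mkSU (Matrix.diagonal a) (by rw [Matrix.det_diagonal, hprod]) ?_, ⟨a, mat_mkSU _ _ _, hap⟩, ?_⟩
  · intro u v
    rw [herm_def, herm_def]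
    refine Finset.sum_congr rfl fun l _ => ?_
    rw [Matrix.mulVec_diagonal, Matrix.mulVec_diagonal, mul_pow]
    have := haq l
    linear_combination (u l * v l ^ q) * this
  · intro v l
    show (Matrix.diagonal a *ᵥ v) l = _
    rw [Matrix.mulVec_diagonal]

/-- **No invariant totally isotropic subspaces.** -/
theorem exists_aniso [Fintype F] (hF : Fintype.card F = q ^ 2) (hn : 3 ≤ n) {p : ℕ} [hp : Fact p.Prime]
    (hd : p ∣ q + 1) (U : Submodule F (Fin n → F)) (hU : U ≠ ⊥)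
    (hinv : ∀ d ∈ D n q F p, ∀ u ∈ U, rho n q F d u ∈ U) : ∃ u ∈ U, hermForm n F q u u ≠ 0 := by
  classical
  obtain ⟨ζ, hζ, hζ1⟩ : ∃ ζ : F, ζ ^ p = 1 ∧ ζ ≠ 1 := by
    obtain ⟨z, hz⟩ := exists_prime_orderOf_dvd_card' (G := Fˣ) p (by
      rw [card_units_eq hF]
      exact Dvd.dvd.mul_right hd _)
    refine ⟨z, ?_, fun h => ?_⟩
    · rw [← Units.val_pow_eq_pow_val, ← hz, pow_orderOf_eq_one, Units.val_one]
    · rw [Units.val_eq_one.1 h, orderOf_one] at hz
      exact hp.out.one_lt.ne hz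
  have hex : ∃ N : ℕ, ∃ u ∈ U, u ≠ 0 ∧ (Finset.univ.filter fun i => u i ≠ 0).card = N := by
    obtain ⟨u, hu, hu0⟩ := (Submodule.ne_bot_iff U).1 hU
    exact ⟨_, u, hu, hu0, rfl⟩
  obtain ⟨u, hu, hu0, hcard⟩ := Nat.find_spec hex
  obtain ⟨i, hi⟩ : ∃ i, u i ≠ 0 := by
    by_contra hcon
    push Not at hcon
    exact hu0 (funext hcon)
  have hsupp : ∀ j, j ≠ i → u j = 0 := by
    intro j hj
    by_contra hj0
    obtain ⟨k, hki, hkj⟩ : ∃ k : Fin n, k ≠ i ∧ k ≠ j := by
      have h1 : (({i, j} : Finset (Fin n))).card < (Finset.univ : Finset (Fin n)).card := by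
        rw [Finset.card_univ, Fintype.card_fin]
        exact lt_of_le_of_lt Finset.card_le_two (by omega)
      obtain ⟨k, -, hk⟩ := Finset.exists_mem_notMem_of_card_lt_card h1
      simp only [Finset.mem_insert, Finset.mem_singleton, not_or] at hk
      exact ⟨k, hk.1, hk.2⟩
    obtain ⟨g, hg, hact⟩ := exists_mem_D (n := n) hd hζ hp.out.pos hki
    have h1 : rho n q F g u - u ∈ U := U.sub_mem (hinv g hg u hu) hu
    -- remove the coordinate `j`
    have hval : ∀ l, (rho n q F g u - u) l = ((if l = i then ζ else if l = k then ζ⁻¹ else 1) - 1) * u l := by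
      intro l
      rw [Pi.sub_apply, rho_apply, hact]
      ring
    refine Nat.find_min hex (m := (Finset.univ.filter fun l => (rho n q F g u - u) l ≠ 0).card) ?_ ⟨_, h1, ?_, rfl⟩
    · rw [← hcard]
      apply Finset.card_lt_card
      rw [Finset.ssubset_iff_of_subset]
      · refine ⟨j, by simpa only [_root_.ne_eq, _root_.Finset.mem_filter, _root_.Finset.mem_univ, _root_.true_and] using hj0, ?_⟩
        simp only [Finset.mem_filter, Finset.mem_univ, true_and, not_not]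
        rw [hval, if_neg hj, if_neg hkj.symm, sub_self, zero_mul]
      · intro l hl
        simp only [Finset.mem_filter, Finset.mem_univ, true_and] at hl ⊢
        intro h0
        exact hl (by rw [hval, h0, mul_zero])
    · intro h0
      have h2 := congrFun h0 i
      rw [hval, if_pos rfl] at h2
      rcases mul_eq_zero.1 h2 with h3 | h3
      · exact hζ1 (sub_eq_zero.1 h3)
      · exact hi h3
  refine ⟨u, hu, ?_⟩
  rw [herm_def, Finset.sum_eq_single i]
  · exact mul_ne_zero hi (pow_ne_zero _ hi)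
  · intro j _ hj
    rw [hsupp j hj, zero_mul]
  · intro h
    exact absurd (Finset.mem_univ _) h

section r

variable [Fintype F] {r : ℕ} [hr : Fact r.Prime] [CharP F r] {p : ℕ} [hp : Fact p.Prime]

/-- the form, linear in the second variable -/
def frm (n q : ℕ) (F : Type*) [Field F] (u : Fin n → F) : (Fin n → F) →ₗ[F] F where
  toFun v := hermForm n F q v u
  map_add' v w := herm_add_left v w u
  map_smul' c v := herm_smul_left c v u

omit [Fintype F] in
theorem ker_le : (QuotientGroup.mk' (Subgroup.center (SU n F q))).ker ≤ Subgroup.center (SU n F q) := by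
  rw [QuotientGroup.ker_mk']

/-- no `r`-subgroup is normalized by `D` -/
theorem no_r (hF : Fintype.card F = q ^ 2) (hn : 3 ≤ n) (hd : p ∣ q + 1) {Q : Subgroup (PSU n F q)}
    (hQ : IsPGroup r Q)
    (hDQ : (D n q F p).map (QuotientGroup.mk' (Subgroup.center (SU n F q))) ≤ Subgroup.normalizer (Q : Set (PSU n F q))) :
    Q = ⊥ := by
  by_contra hQ1
  have hfin : Finite (SU n F q) := inferInstance
  obtain ⟨T, hT, hDT, hT1⟩ := exists_lift _ (QuotientGroup.mk'_surjective _) ker_le hQ hQ1 hDQ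
  refine hT1 (eq_bot_of_form (K := F) (V := Fin n → F) (CharP.cast_eq_zero F r) (rho n q F) rho_injective (frm n q F)
    (fun g u v => herm_act g v u) (fun U hU hinv => ?_) hT hDT)
  obtain ⟨u, hu, h⟩ := exists_aniso hF hn hd U hU hinv
  exact ⟨u, hu, u, hu, h⟩

theorem exists_q (hF : Fintype.card F = q ^ 2) : ∃ f : ℕ, 1 ≤ f ∧ q = r ^ f := by
  have hq := H719.BD.two_le_q hF
  obtain ⟨k, -, hk⟩ := FiniteField.card F r
  have hdvd : q ∣ r ^ (k : ℕ) := by
    rw [← hk, hF]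
    exact dvd_pow_self q two_ne_zero
  obtain ⟨f, -, hf⟩ := (Nat.dvd_prime_pow hr.out).1 hdvd
  refine ⟨f, ?_, hf⟩
  rcases Nat.eq_zero_or_pos f with h0 | h0
  · rw [h0, pow_zero] at hf
    omega
  · exact h0

/-- the `r`-part of the order -/
theorem rpart (hF : Fintype.card F = q ^ 2) (hn : 2 ≤ n) :
    q ^ (n * (n - 1) / 2) ≤ r ^ (Nat.card (PSU n F q)).factorization r := by
  have hfin : Finite (PSU n F q) := Quotient.finite _
  have hq := H719.BD.two_le_q hF
  obtain ⟨f, hf1, hf⟩ := exists_q (r := r) hF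
  have h0 := S0280.result hF n hn
  have h1 : q ^ (n * (n - 1) / 2) ∣ Nat.card (PSU n F q) := by
    have hcop : Nat.Coprime q (q + 1) := by simp
    have h2 : Nat.Coprime (q ^ (n * (n - 1) / 2)) (Nat.gcd n (q + 1) * (q + 1)) :=
      Nat.Coprime.pow_left _ (Nat.Coprime.mul_right (Nat.Coprime.coprime_dvd_right (Nat.gcd_dvd_right _ _) hcop) hcop)
    refine h2.dvd_of_dvd_mul_left ?_
    rw [mul_assoc, h0]
    exact dvd_mul_right _ _
  rw [hf, ← pow_mul] at h1 ⊢
  exact Nat.pow_le_pow_right hr.out.pos ((hr.out.pow_dvd_iff_le_factorization Nat.card_pos.ne').1 h1)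

theorem p_ne (hF : Fintype.card F = q ^ 2) (hd : p ∣ q + 1) : p ≠ r := by
  rintro rfl
  obtain ⟨f, hf1, hf⟩ := exists_q (r := p) hF
  have h1 : p ∣ q := hf ▸ dvd_pow_self p (by omega)
  exact hp.out.one_lt.ne' (Nat.dvd_one.1 ((Nat.dvd_add_right h1).1 hd))

/-- **The Steinberg character.** -/
theorem st (hF : Fintype.card F = q ^ 2) (hn : 3 ≤ n) (hd : p ∣ q + 1) :
    ∃ χ : IrrCharacter (PSU n F q), InB0 p χ ∧ q ^ (n * (n - 1) / 2) ≤ charDegree (χ : PSU n F q → ℂ) := by
  obtain ⟨r, hchar⟩ := CharP.exists F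
  obtain ⟨k, hrp, hk⟩ := FiniteField.card F r
  have hr : Fact r.Prime := ⟨hrp⟩
  have hfin : Finite (SU n F q) := inferInstance
  have hfin : Finite (PSU n F q) := Quotient.finite _
  obtain ⟨χ, h1, h2⟩ := st_of_D (Cfsg.Agent.Nodes.WittInst.hasRGD_PSU (p := r) hF hn) (p_ne (r := r) hF hd)
    (D := (D n q F p).map (QuotientGroup.mk' (Subgroup.center (SU n F q)))) (isPGroup_D.map _)
    (fun Q hQ hDQ => no_r hF hn hd hQ hDQ)
  exact ⟨χ, h1, by rw [h2]; exact rpart hF (by omega)⟩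

end r

/-- the stabilizer of a line -/
def H0 (v : Fin n → F) : Subgroup (SU n F q) where
  carrier := {g | ∃ c : F, c ≠ 0 ∧ act g v = c • v}
  one_mem' := ⟨1, one_ne_zero, by rw [act_one, one_smul]⟩
  mul_mem' := by
    rintro g h ⟨c, hc, hg⟩ ⟨d, hd, hh⟩
    exact ⟨d * c, mul_ne_zero hd hc, by rw [act_mul, hh, act_smul, hg, smul_smul]⟩
  inv_mem' := by
    rintro g ⟨c, hc, hg⟩
    refine ⟨c⁻¹, inv_ne_zero hc, ?_⟩
    have h1 : act g⁻¹ (act g v) = v := act_inv_act g v
    rw [hg, act_smul] at h1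
    conv_rhs => rw [← h1]
    rw [smul_smul, inv_mul_cancel₀ hc, one_smul]

/-- the transvections with center `⟨v⟩` -/
def V0 [Fintype F] (hF : Fintype.card F = q ^ 2) (v : Fin n → F) (hv : hermForm n F q v v = 0) :
    Subgroup (SU n F q) where
  carrier := {g | ∃ c : F, ∀ x, act g x = x + (c * hermForm n F q x v) • v}
  one_mem' := ⟨0, fun x => by rw [act_one, zero_mul, zero_smul, add_zero]⟩
  mul_mem' := by
    rintro g h ⟨c, hg⟩ ⟨d, hh⟩
    refine ⟨d + c, fun x => ?_⟩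
    rw [act_mul, hh, hg, herm_add_left, herm_smul_left, hv]
    funext i
    simp only [Pi.add_apply, Pi.smul_apply, smul_eq_mul]
    ring
  inv_mem' := by
    rintro g ⟨c, hg⟩
    refine ⟨-c, fun x => ?_⟩
    have h1 := act_act_inv g x
    rw [hg] at h1
    have h2 : hermForm n F q x v = hermForm n F q (act g⁻¹ x) v := by
      conv_lhs => rw [← h1]
      rw [herm_add_left, herm_smul_left, hv, mul_zero, add_zero]
    rw [h2]
    funext i
    have h3 := congrFun h1 i
    simp only [Pi.add_apply, Pi.smul_apply, smul_eq_mul] at h3 ⊢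
    linear_combination h3

section r

variable [Fintype F] {r : ℕ} [hr : Fact r.Prime] [CharP F r] {p : ℕ} [hp : Fact p.Prime]

omit hr in
theorem isPGroup_V0 (hF : Fintype.card F = q ^ 2) {v : Fin n → F} (hv : hermForm n F q v v = 0) :
    IsPGroup r (V0 hF v hv) := by
  rintro ⟨g, c, hg⟩
  refine ⟨1, Subtype.ext ?_⟩
  rw [pow_one]
  show g ^ r = 1
  have key : ∀ k : ℕ, ∀ x, act (g ^ k) x = x + ((k : F) * c * hermForm n F q x v) • v := by
    intro k
    induction k with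
    | zero => intro x; rw [pow_zero, act_one, Nat.cast_zero, zero_mul, zero_mul, zero_smul, add_zero]
    | succ k ih =>
      intro x
      rw [pow_succ, act_mul, hg, ih, herm_add_left, herm_smul_left, hv, Nat.cast_succ]
      funext i
      simp only [Pi.add_apply, Pi.smul_apply, smul_eq_mul]
      ring
  apply ext_act
  intro x
  rw [key, CharP.cast_eq_zero F r, zero_mul, zero_mul, zero_smul, add_zero, act_one]

theorem le_normalizer (hF : Fintype.card F = q ^ 2) {v : Fin n → F} (hv : hermForm n F q v v = 0) :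
    H0 (q := q) v ≤ Subgroup.normalizer (V0 hF v hv : Set (SU n F q)) := by
  have key : ∀ g ∈ H0 (q := q) v, ∀ t ∈ V0 hF v hv, g * t * g⁻¹ ∈ V0 hF v hv := by
    rintro g ⟨c, hc, hg⟩ t ⟨d, ht⟩
    refine ⟨d * c * c ^ q, fun x => ?_⟩
    rw [act_mul, act_mul, ht, act_add, act_smul, hg, act_act_inv]
    have h1 : hermForm n F q (act g⁻¹ x) v = hermForm n F q x (c • v) := by
      rw [herm_act_left, inv_inv, hg]
    rw [h1, herm_smul_right]
    funext i
    simp only [Pi.add_apply, Pi.smul_apply, smul_eq_mul]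
    ring
  intro g hg
  rw [Subgroup.mem_normalizer_iff]
  intro t
  refine ⟨fun ht => key g hg t ht, fun ht => ?_⟩
  have h1 := key g⁻¹ (inv_mem hg) _ ht
  rwa [inv_inv, mul_assoc, mul_assoc, inv_mul_cancel, mul_one, inv_mul_cancel_left] at h1

/-- the stabilizer of an isotropic line has index divisible by `p` -/
theorem dvd_index (hF : Fintype.card F = q ^ 2) (hn : 3 ≤ n) (hd : p ∣ q + 1) {v : Fin n → F}
    (hv : hermForm n F q v v = 0) (hv0 : v ≠ 0) :
    p ∣ ((H0 (q := q) v).map (QuotientGroup.mk' (Subgroup.center (SU n F q)))).index := by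
  obtain ⟨r, hchar⟩ := CharP.exists F
  obtain ⟨k, hrp, hk⟩ := FiniteField.card F r
  have hr : Fact r.Prime := ⟨hrp⟩
  have hfin : Finite (SU n F q) := inferInstance
  have hfin : Finite (PSU n F q) := Quotient.finite _
  refine dvd_index_of_D (r := r) (D := (D n q F p).map (QuotientGroup.mk' (Subgroup.center (SU n F q))))
    (isPGroup_D.map _) (fun Q hQ hDQ => no_r hF hn hd hQ hDQ)
    (V := (V0 hF v hv).map (QuotientGroup.mk' (Subgroup.center (SU n F q)))) ((isPGroup_V0 hF hv).map _) ?_ ?_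
  · obtain ⟨μ, hμ0, hμ⟩ := exists_trace_zero_ne hF
    have hs : IsSiegel q v 0 μ := ⟨hv, herm_zero_left v, by rw [herm_zero_left, add_zero]; exact hμ⟩
    set t := siegel hF v 0 μ hs with ht
    have hact : ∀ x, act t x = x + (μ * hermForm n F q x v) • v := by
      intro x
      rw [ht, act_siegel, herm_zero_right hF, smul_zero, add_zero, sub_zero]
    have htV : t ∈ V0 hF v hv := ⟨μ, hact⟩
    have ht1 : t ≠ 1 := by
      intro h1
      obtain ⟨x, hx⟩ := exists_herm_ne_zero hF hv0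
      have hx' : hermForm n F q x v ≠ 0 := by
        rw [herm_swap hF]
        exact pow_ne_zero _ hx
      have h2 := hact x
      rw [h1, act_one, left_eq_add] at h2
      rcases smul_eq_zero.1 h2 with h3 | h3
      · rcases mul_eq_zero.1 h3 with h4 | h4
        · exact hμ0 h4
        · exact hx' h4
      · exact hv0 h3
    intro hbot
    have h1 : QuotientGroup.mk' (Subgroup.center (SU n F q)) t = 1 := by
      rw [← Subgroup.mem_bot, ← hbot]
      exact Subgroup.mem_map_of_mem _ htV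
    have h2 : t ∈ Subgroup.center (SU n F q) := (QuotientGroup.eq_one_iff t).1 h1
    apply ht1
    have h3 : orderOf t ∣ Nat.card (Subgroup.center (SU n F q)) := by
      have := orderOf_dvd_natCard (⟨t, h2⟩ : Subgroup.center (SU n F q))
      rwa [Subgroup.orderOf_mk] at this
    rw [S0279.result hF n hn] at h3
    obtain ⟨j, hj⟩ := isPGroup_V0 (r := r) hF hv ⟨t, htV⟩
    have h4 : t ^ r ^ j = 1 := congrArg Subtype.val hj
    have h5 := Nat.dvd_gcd h3 (orderOf_dvd_of_pow_eq_one h4)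
    have h6 : Nat.gcd (Nat.gcd n (q + 1)) (r ^ j) = 1 := by
      rw [← Nat.coprime_iff_gcd_eq_one]
      apply Nat.Coprime.pow_right
      apply Nat.Coprime.coprime_dvd_left (Nat.gcd_dvd_right _ _)
      obtain ⟨f, hf1, hf⟩ := exists_q (r := r) hF
      rw [Nat.coprime_comm, Nat.Prime.coprime_iff_not_dvd hrp]
      intro h7
      have h8 : r ∣ q := hf ▸ dvd_pow_self r (by omega)
      exact hrp.one_lt.ne' (Nat.dvd_one.1 ((Nat.dvd_add_right h8).1 h7))
    rw [h6] at h5
    exact orderOf_eq_one_iff.1 (Nat.dvd_one.1 h5)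
  · refine (Subgroup.map_mono (le_normalizer hF hv)).trans ?_
    exact Subgroup.le_normalizer_map _

/-- the index of the stabilizer of an isotropic line -/
theorem index_le (hF : Fintype.card F = q ^ 2) {v : Fin n → F} (hv : hermForm n F q v v = 0) (hv0 : v ≠ 0) :
    (H0 (q := q) v).index * (q ^ 2 - 1) ≤ Nat.card {w : Fin n → F // hermForm n F q w w = 0} - 1 := by
  classical
  have hfin : Finite (SU n F q) := inferInstance
  have h1 : Nat.card Fˣ = q ^ 2 - 1 := by
    rw [Nat.card_eq_fintype_card, Fintype.card_units, hF]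
  let X := {w : Fin n → F // hermForm n F q w w = 0}
  have h0 : hermForm n F q (0 : Fin n → F) 0 = 0 := herm_zero_left _
  have h2 : Nat.card {w : X // w ≠ ⟨0, h0⟩} = Nat.card X - 1 := by
    have := Fintype.ofFinite X
    rw [Nat.card_eq_fintype_card, Fintype.card_subtype_compl, Fintype.card_subtype_eq, Nat.card_eq_fintype_card]
  rw [← h2, Subgroup.index, ← h1, ← Nat.card_prod]
  refine Nat.card_le_card_of_injective (fun x : (SU n F q ⧸ H0 (q := q) v) × Fˣ =>
    (⟨⟨(x.2 : F) • act x.1.out v, ?_⟩, ?_⟩ : {w : X // w ≠ ⟨0, h0⟩})) ?_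
  · rw [herm_smul_left, herm_smul_right, herm_act, hv, mul_zero, mul_zero]
  · intro h3
    have h4 : (x.2 : F) • act x.1.out v = 0 := congrArg Subtype.val h3
    rcases smul_eq_zero.1 h4 with h5 | h5
    · exact x.2.ne_zero h5
    · exact hv0 ((act_eq_zero _).1 h5)
  · rintro ⟨x, c⟩ ⟨y, d⟩ hxy
    have h3 : (c : F) • act x.out v = (d : F) • act y.out v := congrArg (fun z => ((z : X) : Fin n → F)) (congrArg Subtype.val hxy)
    have hx : x = y := by
      rw [← QuotientGroup.out_eq' x, ← QuotientGroup.out_eq' y, QuotientGroup.eq]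
      refine ⟨(c : F) * (d : F)⁻¹, mul_ne_zero c.ne_zero (inv_ne_zero d.ne_zero), ?_⟩
      rw [act_mul]
      have h4 : act y.out v = ((c : F) * (d : F)⁻¹) • act x.out v := by
        rw [mul_comm, ← smul_smul, h3, smul_smul, inv_mul_cancel₀ d.ne_zero, one_smul]
      rw [h4, act_smul, act_inv_act]
    subst hx
    have h5 : ((c : F) - d) • act x.out v = 0 := by rw [sub_smul, h3, sub_self]
    rcases smul_eq_zero.1 h5 with h6 | h6
    · have h7 : c = d := Units.ext (sub_eq_zero.1 h6)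
      rw [h7]
    · exact absurd ((act_eq_zero _).1 h6) hv0

/-- **The small degree.** -/
theorem small (hF : Fintype.card F = q ^ 2) (hn : 4 ≤ n) (hd : p ∣ q + 1) :
    ∃ χ : IrrCharacter (PSU n F q), InB0 p χ ∧ NT χ ∧ 2 * charDegree (χ : PSU n F q → ℂ) ≤ 3 * q ^ (2 * n - 3) := by
  have hq := H719.BD.two_le_q hF
  have hfin : Finite (SU n F q) := inferInstance
  have hfin : Finite (PSU n F q) := Quotient.finite _
  have hcard := Cfsg.Agent.LieClassical.HermCount.card_isotropic hF n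
  have hpos : 1 < Nat.card {v : Fin n → F // hermForm n F q v v = 0} := by
    rw [hcard]
    have h1 : 2 ^ n ≤ q ^ n := Nat.pow_le_pow_left hq n
    have h2 : 2 ^ (n - 1) ≤ q ^ (n - 1) := Nat.pow_le_pow_left hq _
    have h3 : 2 ^ 1 ≤ 2 ^ (n - 1) := Nat.pow_le_pow_right (by norm_num) (by omega)
    have h4 : 2 ^ 1 ≤ 2 ^ n := Nat.pow_le_pow_right (by norm_num) (by omega)
    split_ifs
    · have : 0 < (q ^ n - 1) * (q ^ (n - 1) + 1) := Nat.mul_pos (by omega) (by omega)
      omega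
    · have : 0 < (q ^ n + 1) * (q ^ (n - 1) - 1) := Nat.mul_pos (by omega) (by omega)
      omega
  obtain ⟨v, hv, hv0⟩ : ∃ v : Fin n → F, hermForm n F q v v = 0 ∧ v ≠ 0 := by
    have h1 := Finite.one_lt_card_iff_nontrivial.1 hpos
    obtain ⟨x, hx⟩ := exists_ne (⟨0, herm_zero_left _⟩ : {v : Fin n → F // hermForm n F q v v = 0})
    exact ⟨x.1, x.2, fun h => hx (Subtype.ext h)⟩
  obtain ⟨χ, h1, h2, h3⟩ := exists_small _ (dvd_index (p := p) hF (by omega) hd hv hv0)
  refine ⟨χ, h1, h2, ?_⟩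
  have h4 : ((H0 (q := q) v).map (QuotientGroup.mk' (Subgroup.center (SU n F q)))).index ≤ (H0 (q := q) v).index := by
    rw [Subgroup.index_map, MonoidHom.range_eq_top.2 (QuotientGroup.mk'_surjective _), Subgroup.index_top, mul_one]
    exact Nat.le_of_dvd (Nat.pos_of_ne_zero Subgroup.index_ne_zero_of_finite) (Subgroup.index_dvd_of_le le_sup_left)
  have h5 := index_le hF hv hv0
  rw [hcard, Nat.add_sub_cancel] at h5
  obtain ⟨k, rfl⟩ : ∃ k, n = k + 4 := ⟨n - 4, by omega⟩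
  have e1 : k + 4 - 1 = k + 3 := by omega
  have e2 : 2 * (k + 4) - 3 = 2 * k + 5 := by omega
  rw [e1] at h5
  rw [e2]
  have h6 : (H0 (q := q) v).index * (q ^ 2 - 1) ≤ q ^ (2 * k + 7) + q ^ (k + 4) := by
    refine h5.trans ?_
    have e3 : q ^ (2 * k + 7) = q ^ (k + 4) * q ^ (k + 3) := by rw [← pow_add]; congr 1; ring
    have h7 : q ^ (k + 3) ≤ q ^ (k + 4) := Nat.pow_le_pow_right (by omega) (by omega)
    have h8 : 1 ≤ q ^ (k + 3) := Nat.one_le_pow _ _ (by omega)
    have h9 : 1 ≤ q ^ (k + 4) := Nat.one_le_pow _ _ (by omega)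
    split_ifs
    · rw [e3]
      calc (q ^ (k + 4) - 1) * (q ^ (k + 3) + 1) ≤ q ^ (k + 4) * (q ^ (k + 3) + 1) :=
            Nat.mul_le_mul_right _ (Nat.sub_le _ _)
        _ = q ^ (k + 4) * q ^ (k + 3) + q ^ (k + 4) := by ring
    · rw [e3]
      calc (q ^ (k + 4) + 1) * (q ^ (k + 3) - 1) ≤ (q ^ (k + 4) + 1) * q ^ (k + 3) :=
            Nat.mul_le_mul_left _ (Nat.sub_le _ _)
        _ = q ^ (k + 4) * q ^ (k + 3) + q ^ (k + 3) := by ring
        _ ≤ _ := by omega
  set N := (H0 (q := q) v).index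
  have h7 : charDegree (χ : PSU (k + 4) F q → ℂ) ≤ N := (h3.le).trans h4
  have h8 : 2 * N ≤ 3 * q ^ (2 * k + 5) := by
    have h9 : 0 < q ^ 2 - 1 := by
      have : 2 ^ 2 ≤ q ^ 2 := Nat.pow_le_pow_left hq 2
      omega
    refine Nat.le_of_mul_le_mul_right ?_ h9
    have h10 : 3 * q ^ (2 * k + 5) * (q ^ 2 - 1) + 3 * q ^ (2 * k + 5) = 3 * q ^ (2 * k + 7) := by
      obtain ⟨m, hm⟩ : ∃ m, q ^ 2 = m + 1 := ⟨q ^ 2 - 1, by omega⟩
      have e5 : q ^ (2 * k + 7) = q ^ (2 * k + 5) * q ^ 2 := by rw [← pow_add]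
      rw [e5, hm, Nat.add_sub_cancel]
      ring
    have h11 : 3 * q ^ (2 * k + 5) + 2 * q ^ (k + 4) ≤ q ^ (2 * k + 7) := by
      have e4 : q ^ (2 * k + 7) = q ^ 2 * q ^ (2 * k + 5) := by rw [← pow_add]; congr 1; ring
      have h12 : 4 ≤ q ^ 2 := by nlinarith only [hq]
      have h13 : 2 * q ^ (k + 4) ≤ q ^ (2 * k + 5) := by
        calc 2 * q ^ (k + 4) ≤ q * q ^ (k + 4) := Nat.mul_le_mul_right _ hq
          _ = q ^ (k + 5) := by ring
          _ ≤ q ^ (2 * k + 5) := Nat.pow_le_pow_right (by omega) (by omega)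
      rw [e4]
      linarith only [h13, Nat.mul_le_mul_right (q ^ (2 * k + 5)) h12]
    have h14 : 2 * N * (q ^ 2 - 1) = 2 * (N * (q ^ 2 - 1)) := by ring
    omega
  omega

end r

end Cfsg.Agent.H719.BD.PsuOne
end

-- part: H719/BD/PsuIneq
section
/-!
# The inequalities for `PSU_n(q)`, `p ∣ q + 1` and `p ∣ q - 1` (helper719, S4932)
-/

set_option autoImplicit false

namespace Cfsg.Agent.H719.BD

theorem main_sq {q f g n α X B : ℕ} (hn : 9 ≤ n) (hα : 2 * α ≤ 3 * q ^ (2 * n - 3))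
    (hX : X ^ 2 ≤ (3 * (q + 1) ^ 2) ^ (n - 1)) (hB : q ^ (n * (n - 1) / 2) ≤ B)
    (h : 5184 * f ^ 10 * g ^ 6 * q ^ (8 * n - 12) * (27 * (q + 1) ^ 6) ^ (n - 1) < q ^ (2 * (n * (n - 1)))) :
    32 * f ^ 5 * g ^ 3 * α ^ 2 * X ^ 3 < B ^ 2 := by
  have h1 : 16 * α ^ 4 ≤ 81 * q ^ (8 * n - 12) := by
    calc 16 * α ^ 4 = (2 * α) ^ 4 := by ring
      _ ≤ (3 * q ^ (2 * n - 3)) ^ 4 := Nat.pow_le_pow_left hα 4
      _ = 81 * q ^ (8 * n - 12) := by
        rw [mul_pow, ← pow_mul]
        congr 2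
        omega
  have h2 : X ^ 6 ≤ (27 * (q + 1) ^ 6) ^ (n - 1) := by
    calc X ^ 6 = (X ^ 2) ^ 3 := by ring
      _ ≤ ((3 * (q + 1) ^ 2) ^ (n - 1)) ^ 3 := Nat.pow_le_pow_left hX 3
      _ = ((3 * (q + 1) ^ 2) ^ 3) ^ (n - 1) := by rw [← pow_mul, ← pow_mul, mul_comm (n - 1) 3]
      _ = (27 * (q + 1) ^ 6) ^ (n - 1) := by congr 1; ring
  have h3 : q ^ (2 * (n * (n - 1))) ≤ (B ^ 2) ^ 2 := by
    calc q ^ (2 * (n * (n - 1))) = (q ^ (n * (n - 1) / 2)) ^ 4 := by
          rw [← pow_mul]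
          congr 1
          have h4 : 2 ∣ n * (n - 1) := (Nat.even_mul_pred_self n).two_dvd
          omega
      _ ≤ B ^ 4 := Nat.pow_le_pow_left hB 4
      _ = (B ^ 2) ^ 2 := by ring
  refine lt_of_pow_lt_pow_left₀ 2 (Nat.zero_le _) ?_
  calc (32 * f ^ 5 * g ^ 3 * α ^ 2 * X ^ 3) ^ 2 = 64 * f ^ 10 * g ^ 6 * (16 * α ^ 4) * X ^ 6 := by ring
    _ ≤ 64 * f ^ 10 * g ^ 6 * (81 * q ^ (8 * n - 12)) * (27 * (q + 1) ^ 6) ^ (n - 1) := by gcongr
    _ = 5184 * f ^ 10 * g ^ 6 * q ^ (8 * n - 12) * (27 * (q + 1) ^ 6) ^ (n - 1) := by ring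
    _ < q ^ (2 * (n * (n - 1))) := h
    _ ≤ (B ^ 2) ^ 2 := h3

theorem pow8' {x : ℕ} (hx : 8 ≤ x) : 27 * (x + 1) ^ 6 ≤ x ^ 8 := by
  obtain ⟨y, rfl⟩ := Nat.exists_eq_add_of_le hx
  have h1 : (8 * (8 + y + 1)) ^ 6 ≤ (9 * (8 + y)) ^ 6 := Nat.pow_le_pow_left (by omega) 6
  have h2 : 27 * 9 ^ 6 ≤ 8 ^ 6 * (8 + y) ^ 2 := by
    calc 27 * 9 ^ 6 ≤ 8 ^ 6 * 8 ^ 2 := by norm_num
      _ ≤ 8 ^ 6 * (8 + y) ^ 2 := by gcongr
  have h3 : 8 ^ 6 * (27 * (8 + y + 1) ^ 6) ≤ 8 ^ 6 * (8 + y) ^ 8 := by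
    calc 8 ^ 6 * (27 * (8 + y + 1) ^ 6) = 27 * (8 * (8 + y + 1)) ^ 6 := by rw [mul_pow]; ring
      _ ≤ 27 * (9 * (8 + y)) ^ 6 := Nat.mul_le_mul_left _ h1
      _ = 27 * 9 ^ 6 * (8 + y) ^ 6 := by rw [mul_pow]; ring
      _ ≤ 8 ^ 6 * (8 + y) ^ 2 * (8 + y) ^ 6 := Nat.mul_le_mul_right _ h2
      _ = 8 ^ 6 * (8 + y) ^ 8 := by ring
  exact Nat.le_of_mul_le_mul_left h3 (by norm_num)

/-- `f ^ 5 ≤ q ^ 3` -/
theorem f5 {f q : ℕ} (h : 2 ^ f ≤ q) : f ^ 5 ≤ q ^ 3 := by
  have h1 : ∀ f : ℕ, f ^ 5 ≤ 8 ^ f := by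
    intro f
    induction f with
    | zero => norm_num
    | succ k ih =>
      by_cases hk : k ≤ 1
      · interval_cases k <;> norm_num
      · have h2 : (k + 1) ^ 5 ≤ 8 * k ^ 5 := by
          obtain ⟨j, rfl⟩ : ∃ j, k = j + 2 := ⟨k - 2, by omega⟩
          have h3 : 2 * (j + 2 + 1) ≤ 3 * (j + 2) := by omega
          have h4 : 32 * (j + 2 + 1) ^ 5 ≤ 243 * (j + 2) ^ 5 := by
            calc 32 * (j + 2 + 1) ^ 5 = (2 * (j + 2 + 1)) ^ 5 := by ring
              _ ≤ (3 * (j + 2)) ^ 5 := Nat.pow_le_pow_left h3 5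
              _ = 243 * (j + 2) ^ 5 := by ring
          omega
        calc (k + 1) ^ 5 ≤ 8 * k ^ 5 := h2
          _ ≤ 8 * 8 ^ k := Nat.mul_le_mul_left _ ih
          _ = 8 ^ (k + 1) := by ring
  calc f ^ 5 ≤ 8 ^ f := h1 f
    _ = (2 ^ f) ^ 3 := by rw [← pow_mul, mul_comm, pow_mul]; norm_num
    _ ≤ q ^ 3 := Nat.pow_le_pow_left h 3

/-- `q ≥ 8` -/
theorem main_ge {q f g n : ℕ} (hn : 9 ≤ n) (hq : 8 ≤ q) (hf : 2 ^ f ≤ q) (hg : g ≤ q + 1) :
    5184 * f ^ 10 * g ^ 6 * q ^ (8 * n - 12) * (27 * (q + 1) ^ 6) ^ (n - 1) < q ^ (2 * (n * (n - 1))) := by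
  have h1 : 5184 ≤ q ^ 5 := by
    calc 5184 ≤ 8 ^ 5 := by norm_num
      _ ≤ q ^ 5 := Nat.pow_le_pow_left hq 5
  have h2 : f ^ 10 ≤ q ^ 6 := by
    calc f ^ 10 = (f ^ 5) ^ 2 := by ring
      _ ≤ (q ^ 3) ^ 2 := Nat.pow_le_pow_left (f5 hf) 2
      _ = q ^ 6 := by ring
  have h3 : g ^ 6 ≤ q ^ 8 := by
    calc g ^ 6 ≤ (q + 1) ^ 6 := Nat.pow_le_pow_left hg 6
      _ ≤ 27 * (q + 1) ^ 6 := by omega
      _ ≤ q ^ 8 := pow8' hq
  have h3' : g ^ 6 ≤ q ^ 7 := by
    have h4 : 27 * g ^ 6 ≤ q ^ 8 := (Nat.mul_le_mul_left 27 (Nat.pow_le_pow_left hg 6)).trans (pow8' hq)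
    have h5 : 8 ^ 6 * g ^ 6 ≤ 9 ^ 6 * q ^ 6 := by
      calc 8 ^ 6 * g ^ 6 = (8 * g) ^ 6 := by rw [mul_pow]
        _ ≤ (9 * q) ^ 6 := Nat.pow_le_pow_left (by omega) 6
        _ = 9 ^ 6 * q ^ 6 := by rw [mul_pow]
    have h6 : 9 ^ 6 * q ^ 6 ≤ 8 ^ 6 * q ^ 7 := by
      calc 9 ^ 6 * q ^ 6 ≤ (8 ^ 6 * 8) * q ^ 6 := Nat.mul_le_mul_right _ (by norm_num)
        _ ≤ (8 ^ 6 * q) * q ^ 6 := Nat.mul_le_mul_right _ (Nat.mul_le_mul_left _ hq)
        _ = 8 ^ 6 * q ^ 7 := by ring
    exact Nat.le_of_mul_le_mul_left (h5.trans h6) (by norm_num)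
  have h4 : (27 * (q + 1) ^ 6) ^ (n - 1) ≤ q ^ (8 * (n - 1)) := by
    rw [pow_mul]
    exact Nat.pow_le_pow_left (pow8' hq) _
  calc 5184 * f ^ 10 * g ^ 6 * q ^ (8 * n - 12) * (27 * (q + 1) ^ 6) ^ (n - 1)
      ≤ q ^ 5 * q ^ 6 * q ^ 7 * q ^ (8 * n - 12) * q ^ (8 * (n - 1)) := by gcongr
    _ = q ^ (5 + 6 + 7 + (8 * n - 12) + 8 * (n - 1)) := by rw [pow_add, pow_add, pow_add, pow_add]
    _ < q ^ (2 * (n * (n - 1))) := by
        refine Nat.pow_lt_pow_right (by omega) ?_
        obtain ⟨k, rfl⟩ := Nat.exists_eq_add_of_le hn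
        have e1 : 9 + k - 1 = 8 + k := by omega
        have e2 : 8 * (9 + k) - 12 = 60 + 8 * k := by omega
        rw [e1, e2]
        nlinarith only []

theorem pow10' {x : ℕ} (hx : 4 ≤ x) : 27 * (x + 1) ^ 6 ≤ x ^ 10 := by
  obtain ⟨y, rfl⟩ := Nat.exists_eq_add_of_le hx
  have h1 : (4 * (4 + y + 1)) ^ 6 ≤ (5 * (4 + y)) ^ 6 := Nat.pow_le_pow_left (by omega) 6
  have h2 : 27 * 5 ^ 6 ≤ 4 ^ 6 * (4 + y) ^ 4 := by
    calc 27 * 5 ^ 6 ≤ 4 ^ 6 * 4 ^ 4 := by norm_num
      _ ≤ 4 ^ 6 * (4 + y) ^ 4 := by gcongr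
  have h3 : 4 ^ 6 * (27 * (4 + y + 1) ^ 6) ≤ 4 ^ 6 * (4 + y) ^ 10 := by
    calc 4 ^ 6 * (27 * (4 + y + 1) ^ 6) = 27 * (4 * (4 + y + 1)) ^ 6 := by rw [mul_pow]; ring
      _ ≤ 27 * (5 * (4 + y)) ^ 6 := Nat.mul_le_mul_left _ h1
      _ = 27 * 5 ^ 6 * (4 + y) ^ 6 := by rw [mul_pow]; ring
      _ ≤ 4 ^ 6 * (4 + y) ^ 4 * (4 + y) ^ 6 := Nat.mul_le_mul_right _ h2
      _ = 4 ^ 6 * (4 + y) ^ 10 := by ring
  exact Nat.le_of_mul_le_mul_left h3 (by norm_num)

/-- `4 ≤ q ≤ 7`, `n ≥ 25` -/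
theorem main_mid {q f g n : ℕ} (hn : 25 ≤ n) (hq : 4 ≤ q) (hq7 : q ≤ 7) (hf : 2 ^ f ≤ q) (hg : g ≤ q + 1) :
    5184 * f ^ 10 * g ^ 6 * q ^ (8 * n - 12) * (27 * (q + 1) ^ 6) ^ (n - 1) < q ^ (2 * (n * (n - 1))) := by
  have h1 : 5184 ≤ q ^ 7 := by
    calc 5184 ≤ 4 ^ 7 := by norm_num
      _ ≤ q ^ 7 := Nat.pow_le_pow_left hq 7
  have h2 : f ^ 10 ≤ q ^ 6 := by
    calc f ^ 10 = (f ^ 5) ^ 2 := by ring
      _ ≤ (q ^ 3) ^ 2 := Nat.pow_le_pow_left (f5 hf) 2
      _ = q ^ 6 := by ring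
  have h3 : g ^ 6 ≤ q ^ 9 := by
    calc g ^ 6 ≤ 8 ^ 6 := Nat.pow_le_pow_left (by omega) 6
      _ ≤ 4 ^ 9 := by norm_num
      _ ≤ q ^ 9 := Nat.pow_le_pow_left hq 9
  have h4 : (27 * (q + 1) ^ 6) ^ (n - 1) ≤ q ^ (10 * (n - 1)) := by
    rw [pow_mul]
    exact Nat.pow_le_pow_left (pow10' hq) _
  calc 5184 * f ^ 10 * g ^ 6 * q ^ (8 * n - 12) * (27 * (q + 1) ^ 6) ^ (n - 1)
      ≤ q ^ 7 * q ^ 6 * q ^ 9 * q ^ (8 * n - 12) * q ^ (10 * (n - 1)) := by gcongr
    _ = q ^ (7 + 6 + 9 + (8 * n - 12) + 10 * (n - 1)) := by rw [pow_add, pow_add, pow_add, pow_add]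
    _ < q ^ (2 * (n * (n - 1))) := by
        refine Nat.pow_lt_pow_right (by omega) ?_
        obtain ⟨k, rfl⟩ := Nat.exists_eq_add_of_le hn
        have e1 : 25 + k - 1 = 24 + k := by omega
        have e2 : 8 * (25 + k) - 12 = 188 + 8 * k := by omega
        rw [e1, e2]
        nlinarith only []

/-- `q = 5` -/
theorem main_five {g n : ℕ} (hn : 9 ≤ n) (hg : g ≤ 6) :
    5184 * 1 ^ 10 * g ^ 6 * 5 ^ (8 * n - 12) * (27 * (5 + 1) ^ 6) ^ (n - 1) < 5 ^ (2 * (n * (n - 1))) := by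
  have h1 : g ^ 6 ≤ 6 ^ 6 := Nat.pow_le_pow_left hg 6
  have h2 : 5184 * 1 ^ 10 * g ^ 6 ≤ 5 ^ 12 := by
    calc 5184 * 1 ^ 10 * g ^ 6 ≤ 5184 * 1 ^ 10 * 6 ^ 6 := Nat.mul_le_mul_left _ h1
      _ ≤ 5 ^ 12 := by norm_num
  have h3 : (27 * (5 + 1) ^ 6) ^ (n - 1) ≤ 5 ^ (9 * (n - 1)) := by
    rw [pow_mul]
    exact Nat.pow_le_pow_left (by norm_num) _
  by_cases hn9 : n = 9
  · subst hn9
    calc 5184 * 1 ^ 10 * g ^ 6 * 5 ^ (8 * 9 - 12) * (27 * (5 + 1) ^ 6) ^ (9 - 1) ≤
          5184 * 1 ^ 10 * 6 ^ 6 * 5 ^ (8 * 9 - 12) * (27 * (5 + 1) ^ 6) ^ (9 - 1) := by gcongr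
      _ < 5 ^ (2 * (9 * (9 - 1))) := by norm_num
  calc 5184 * 1 ^ 10 * g ^ 6 * 5 ^ (8 * n - 12) * (27 * (5 + 1) ^ 6) ^ (n - 1)
      ≤ 5 ^ 12 * 5 ^ (8 * n - 12) * 5 ^ (9 * (n - 1)) := by gcongr
    _ = 5 ^ (12 + (8 * n - 12) + 9 * (n - 1)) := by rw [pow_add, pow_add]
    _ < 5 ^ (2 * (n * (n - 1))) := by
        refine Nat.pow_lt_pow_right (by omega) ?_
        obtain ⟨k, rfl⟩ := Nat.exists_eq_add_of_le (show 10 ≤ n by omega)
        have e1 : 10 + k - 1 = 9 + k := by omega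
        have e2 : 8 * (10 + k) - 12 = 68 + 8 * k := by omega
        rw [e1, e2]
        nlinarith only []

/-- `q = 2` -/
theorem main_two {g n : ℕ} (hn : 12 ≤ n) (hg : g ≤ 3) :
    5184 * 1 ^ 10 * g ^ 6 * 2 ^ (8 * n - 12) * (27 * (2 + 1) ^ 6) ^ (n - 1) < 2 ^ (2 * (n * (n - 1))) := by
  have h1 : g ^ 6 ≤ 3 ^ 6 := Nat.pow_le_pow_left hg 6
  have h2 : 5184 * 1 ^ 10 * g ^ 6 ≤ 2 ^ 22 := by
    calc 5184 * 1 ^ 10 * g ^ 6 ≤ 5184 * 1 ^ 10 * 3 ^ 6 := Nat.mul_le_mul_left _ h1
      _ ≤ 2 ^ 22 := by norm_num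
  have h3 : (27 * (2 + 1) ^ 6) ^ (n - 1) ≤ 2 ^ (15 * (n - 1)) := by
    rw [pow_mul]
    exact Nat.pow_le_pow_left (by norm_num) _
  by_cases hn9 : n = 12
  · subst hn9
    calc 5184 * 1 ^ 10 * g ^ 6 * 2 ^ (8 * 12 - 12) * (27 * (2 + 1) ^ 6) ^ (12 - 1) ≤
          5184 * 1 ^ 10 * 3 ^ 6 * 2 ^ (8 * 12 - 12) * (27 * (2 + 1) ^ 6) ^ (12 - 1) := by gcongr
      _ < 2 ^ 132 * 2 ^ 132 := by norm_num
      _ = 2 ^ (2 * (12 * (12 - 1))) := by rw [← pow_add]
  calc 5184 * 1 ^ 10 * g ^ 6 * 2 ^ (8 * n - 12) * (27 * (2 + 1) ^ 6) ^ (n - 1)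
      ≤ 2 ^ 22 * 2 ^ (8 * n - 12) * 2 ^ (15 * (n - 1)) := by gcongr
    _ = 2 ^ (22 + (8 * n - 12) + 15 * (n - 1)) := by rw [pow_add, pow_add]
    _ < 2 ^ (2 * (n * (n - 1))) := by
        refine Nat.pow_lt_pow_right (by omega) ?_
        obtain ⟨k, rfl⟩ := Nat.exists_eq_add_of_le (show 13 ≤ n by omega)
        have e1 : 13 + k - 1 = 12 + k := by omega
        have e2 : 8 * (13 + k) - 12 = 92 + 8 * k := by omega
        rw [e1, e2]
        nlinarith only []

end Cfsg.Agent.H719.BD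
end

-- part: H719/BD/Psu
section
/-!
# The `Kill` rows of `PSU_n(q)`, `p` odd, cross characteristic (helper719, S4932)
-/

set_option autoImplicit false
set_option linter.unusedSectionVars false

namespace Cfsg.Agent.H719.BD

open Cfsg Cfsg.Agent.H589.BD Cfsg.Agent.H674.BD.Parts Cfsg.Agent.H674.BD.Rows Cfsg.Agent.H674.BD.OmNum

universe u

variable {p : ℕ} [hp : Fact p.Prime] {S : Type u} [Group S] [Finite S] [IsSimpleGroup S] {F : Type} [Field F]
  [Fintype F] {n q : ℕ}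

/-- **`p ∣ q + 1`** -/
theorem kill_psu_one (hna : ¬ IsMulCommutative S) (hS : SizeOK S) (hpS : p ∣ Nat.card S)
    (hF : Fintype.card F = q ^ 2) (hp2 : p ≠ 2) (hd : p ∣ q + 1) (e : S ≃* PSU n F q) (hn : p ^ 2 ≤ n)
    (hex : ¬ (q = 2 ∧ n ≤ 11)) : Kill p S := by
  have hq := two_le_q hF
  have hp3 : 3 ≤ p := by
    have := hp.out.two_le
    omega
  have hn9 : 9 ≤ n := le_trans (by nlinarith only [hp3]) hn
  have hfin : Finite (PSU n F q) := Quotient.finite _
  have hX : IsSimpleGroup (PSU n F q) := e.symm.isSimpleGroup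
  have hnX : ¬ IsMulCommutative (PSU n F q) := fun hc =>
    hna ⟨⟨fun a b => e.injective (by rw [map_mul, map_mul]; exact hc.is_comm.comm _ _)⟩⟩
  obtain ⟨α, hα1, hα2, hα3⟩ := PsuOne.small (p := p) (n := n) hF (by omega) hd
  obtain ⟨β, hβ1, hβ2⟩ := PsuOne.st (p := p) (n := n) hF (by omega) hd
  obtain ⟨f, hf1, h2f, h5f, h2f', hO⟩ := out_psu hF (by omega) hnX
  have hOS : Nat.card (Cfsg.Out S) = Nat.gcd n (q + 1) * (2 * f) := by rw [card_out_congr hna e, hO]
  have hcS : Nat.card S = Nat.card (PSU n F q) := Nat.card_congr e.toEquiv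
  have hPX := psu_p_one (p := p) (n := n) hp2 hF (by omega) hd
  set g := Nat.gcd n (q + 1) with hg
  have hg1 : 1 ≤ g := Nat.gcd_pos_of_pos_left _ (by omega)
  have hgq : g ≤ q + 1 := Nat.gcd_le_right _ (by omega)
  set P := ordProj[p] (Nat.card (PSU n F q)) with hP
  set X := ordProj[p] g * P with hXdef
  have hgp : 1 ≤ ordProj[p] g := Nat.ordProj_pos _ _
  have hPle : P ≤ X := Nat.le_mul_of_pos_left _ hgp
  have hP2 : 2 ≤ P := by
    have h1 : 1 ≤ (Nat.card (PSU n F q)).factorization p := by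
      rw [Nat.one_le_iff_ne_zero]
      intro h0
      rcases (Nat.factorization_eq_zero_iff _ _).1 h0 with h1 | h1 | h1
      · exact h1 hp.out
      · exact h1 (hcS ▸ hpS)
      · exact absurd h1 Nat.card_pos.ne'
    calc 2 ≤ p := hp.out.two_le
      _ = p ^ 1 := (pow_one p).symm
      _ ≤ P := Nat.pow_le_pow_right hp.out.pos h1
  have hα0 : 1 ≤ charDegree (α : PSU n F q → ℂ) := by
    have h1 := hS (tr e α) (hα2.tr e)
    rw [charDegree_tr] at h1
    omega
  set a := charDegree (α : PSU n F q → ℂ) with ha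
  set B := charDegree (β : PSU n F q → ℂ) with hB
  have hmain : 32 * f ^ 5 * g ^ 3 * a ^ 2 * X ^ 3 < B ^ 2 := by
    refine main_sq hn9 hα3 hPX hβ2 ?_
    by_cases hq8 : 8 ≤ q
    · exact main_ge hn9 hq8 h2f hgq
    by_cases hp5 : p = 3
    · subst hp5
      have h1 : q = 2 ∨ q = 5 := by
        clear * - hd hq hq8
        obtain ⟨c, hc⟩ := hd
        omega
      rcases h1 with h1 | h1
      · rw [h1] at hgq ⊢
        rw [h2f' h1]
        exact main_two (by (clear * - hex h1; omega)) (by omega)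
      · rw [h1] at hgq ⊢
        rw [h5f h1]
        exact main_five hn9 (by omega)
    · have hp5' : 5 ≤ p := by
        have h1 : p ≠ 4 := by
          rintro h4
          have := hp.out
          rw [h4] at this
          exact absurd this (by norm_num)
        omega
      have hq4 : 4 ≤ q := by
        have := Nat.le_of_dvd (by omega) hd
        omega
      exact main_mid (le_trans (by nlinarith only [hp5']) hn) hq4 (by omega) h2f hgq
  have hX1 : 1 ≤ X := by omega
  have hP1 : 1 ≤ P := by omega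
  refine H726.BD.kill_gen hna hS hpS (tr e α) (tr e β) (hα1.tr e) (hβ1.tr e) (hα2.tr e) (K := (f * X) ^ 2) ?_ ?_
  · rw [hOS, hcS]
    have h1 : ordProj[p] (g * (2 * f) * Nat.card (PSU n F q)) ≤ f * X := by
      have h2 : (2 * f).factorization p = f.factorization p := by
        rw [Nat.factorization_mul two_ne_zero (by omega), Finsupp.add_apply,
          Nat.factorization_eq_zero_of_not_dvd (fun h => hp2 ((Nat.prime_dvd_prime_iff_eq hp.out Nat.prime_two).1 h)),
          zero_add]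
      rw [Nat.factorization_mul (by positivity) Nat.card_pos.ne', Finsupp.add_apply,
        Nat.factorization_mul (by omega) (by omega), Finsupp.add_apply, h2, pow_add, pow_add, hXdef, ← hP]
      have h3 : p ^ f.factorization p ≤ f := Nat.le_of_dvd (by omega) (Nat.ordProj_dvd f p)
      calc p ^ g.factorization p * p ^ f.factorization p * P ≤ p ^ g.factorization p * f * P := by gcongr
        _ = f * (p ^ g.factorization p * P) := by ring
    have h2 : (ordProj[p] (g * (2 * f) * Nat.card (PSU n F q))) ^ 2 ≤ (f * X) ^ 2 := Nat.pow_le_pow_left h1 2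
    have h3 : 2 ≤ f * X := le_trans (by omega : 2 ≤ 1 * X) (Nat.mul_le_mul_right X hf1)
    have h4 : 2 ^ 2 ≤ (f * X) ^ 2 := Nat.pow_le_pow_left h3 2
    clear_value X P g
    generalize (f * X) ^ 2 = y at h2 h4 ⊢
    omega
  · rw [hOS, hcS, charDegree_tr, charDegree_tr, ← ha, ← hB, ← hP]
    have e1 : 2 * (g * (2 * f)) ^ 2 + 2 * (g * (2 * f) * a) ^ 2 * (g * (2 * f) * P * (f * X) ^ 2) =
        8 * (f ^ 2 * g ^ 2) + 16 * f ^ 5 * g ^ 3 * a ^ 2 * (P * X ^ 2) := by ring
    rw [e1]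
    have e2 : 16 * f ^ 5 * g ^ 3 * a ^ 2 * (P * X ^ 2) ≤ 16 * f ^ 5 * g ^ 3 * a ^ 2 * X ^ 3 := by
      refine Nat.mul_le_mul_left _ ?_
      calc P * X ^ 2 ≤ X * X ^ 2 := Nat.mul_le_mul_right _ hPle
        _ = X ^ 3 := by ring
    have e3 : 8 * (f ^ 2 * g ^ 2) ≤ 16 * f ^ 5 * g ^ 3 * a ^ 2 * X ^ 3 := by
      have h1 : f ^ 2 ≤ f ^ 5 := Nat.pow_le_pow_right hf1 (by norm_num)
      have h2 : g ^ 2 ≤ g ^ 3 := Nat.pow_le_pow_right hg1 (by norm_num)
      have h3 : 1 ≤ a ^ 2 * X ^ 3 := Nat.mul_pos (pow_pos hα0 2) (pow_pos hX1 3)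
      calc 8 * (f ^ 2 * g ^ 2) ≤ 16 * (f ^ 5 * g ^ 3) * 1 := by
            rw [mul_one]
            exact Nat.mul_le_mul (by norm_num) (Nat.mul_le_mul h1 h2)
        _ ≤ 16 * (f ^ 5 * g ^ 3) * (a ^ 2 * X ^ 3) := Nat.mul_le_mul_left _ h3
        _ = 16 * f ^ 5 * g ^ 3 * a ^ 2 * X ^ 3 := by ring
    have e4 : 32 * f ^ 5 * g ^ 3 * a ^ 2 * X ^ 3 = 16 * f ^ 5 * g ^ 3 * a ^ 2 * X ^ 3 + 16 * f ^ 5 * g ^ 3 * a ^ 2 * X ^ 3 := by
      ring
    omega

end Cfsg.Agent.H719.BD
end

private theorem dce_e785c99da1ee : _root_.True := by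
  try have : _root_.True := by simp only [_root_.Cfsg.Agent.H58.BD.BM.Baby.wt.eq_1]
  try have : _root_.True := by simp only [_root_.Cfsg.Agent.H693.Sch.Monster.degs.eq_1]
  try have : _root_.True := by simp only [_root_.Cfsg.Agent.H995.IMB.ds.eq_1]
  exact _root_.True.intro
end

section
prune_inst 0x9dfdfd3ba92ffedfff7e3ffed9dffe3384cfffefdff94bffec699f8fdf031209c5fb8d0de010ff0ed6e21410b87853fbfffeffe26bfc7ffffd5ff45ffbee4fe5f6bd08519688340fbc0fff63f07f8e7f000000000000000000000000000000000200000000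

-- part: H787/BD/Own
section
prune_inst 0x200c400800020000000010400000040000010000200000090002000a0003020000090004800002100e228000000000000000d0400000000a000000000100009000400412000104260009801000000000000000000000000000000000000004000000000
set_option linter.all false
open scoped Cfsg.Agent.FastGrp

-- part: H749/Bd/Two
section
/-!
# S4932, `p = 2` (helper749)

* `kill_two_of` : `Kill 2 S` from two real odd degrees in every almost simple group over `S` and `EvenJ S`
  (TEAM EB, S4522);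
* `kill_two_lie` : groups of Lie type of odd characteristic `r`, from `SecondOdd r S` and `EvenJ S`.
-/

set_option autoImplicit false
set_option linter.unusedSectionVars false

open Cfsg

namespace Cfsg.Agent.H749.Bd

open Cfsg.Agent.H589.BD Cfsg.Agent.H684.EB Cfsg.Agent.H610.EB Cfsg.Agent.H619.R4 Cfsg.Agent.H494.R4
open Cfsg.Agent.Blocks.Basic Cfsg.Agent.Blocks.Local Cfsg.Agent.H684.BlockTools

universe u

/-- existence of the exponent -/
theorem exists_isK (G : Type u) [Group G] [Finite G] : ∃ k : ℕ, IsK G k := by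
  obtain ⟨a, m, hm, hGm⟩ := Nat.exists_eq_two_pow_mul_odd (Nat.card_pos (α := G)).ne'
  have hcop : Nat.Coprime (2 ^ a) m := by
    apply Nat.Coprime.pow_left
    rwa [Nat.coprime_two_left]
  obtain ⟨k', h1, h2⟩ := Nat.chineseRemainder hcop 1 (m - 1)
  have hm1 : (m - 1) + 1 = m := Nat.sub_add_cancel hm.pos
  refine ⟨k', ⟨?_, ?_⟩⟩
  · rintro g ⟨j, hj⟩
    have hd : orderOf g ∣ 2 ^ a := by
      have h3 : orderOf g ∣ 2 ^ a * m := hGm ▸ orderOf_dvd_natCard g
      refine Nat.Coprime.dvd_of_dvd_mul_right ?_ h3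
      rw [hj]
      apply Nat.Coprime.pow_left
      rwa [Nat.coprime_two_left]
    calc g ^ k' = g ^ 1 := by
          rw [pow_eq_pow_iff_modEq]
          exact h1.of_dvd hd
      _ = g := pow_one g
  · intro g hg
    have hd : orderOf g ∣ m := by
      have h3 : orderOf g ∣ 2 ^ a * m := hGm ▸ orderOf_dvd_natCard g
      refine Nat.Coprime.dvd_of_dvd_mul_left ?_ h3
      apply Nat.Coprime.pow_right
      rwa [Nat.coprime_two_right]
    have e1 : k' + 1 ≡ 0 [MOD m] := by
      have := h2.add_right 1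
      rw [hm1] at this
      exact this.trans (by simp [Nat.ModEq])
    have e2 : orderOf g ∣ k' + 1 := hd.trans ((Nat.modEq_zero_iff_dvd).1 e1)
    rw [← mul_eq_one_iff_eq_inv, ← pow_succ]
    exact orderOf_dvd_iff_pow_eq_one.1 e2

/-- going up from a normal subgroup -/
theorem exists_dvd_over {p : ℕ} [Fact p.Prime] {M : Ideal AlgInt} (hM : IsPModular p M) {G : Type u} [Group G]
    [Finite G] (N : Subgroup G) [N.Normal] {χ : IrrCharacter N} (hχ : χ ∈ principalBlock M N) :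
    ∃ ψ : IrrCharacter G, ψ ∈ principalBlock M G ∧ charDegree (χ : N → ℂ) ∣ charDegree (ψ : G → ℂ) := by
  have := Fintype.ofFinite G
  have := Fintype.ofFinite N
  obtain ⟨ψ, hψ, hover⟩ := Cfsg.Agent.H684.CoverCount.exists_over hM N χ hχ
  exact ⟨ψ, hψ, (Cfsg.Agent.S0887.result N (ψ : G → ℂ) ψ.2 (χ : N → ℂ) χ.2 hover _ _
    (irr_one_eq_charDegree ψ.2) (irr_one_eq_charDegree χ.2)).1⟩

variable {S : Type u} [Group S] [Finite S] [IsSimpleGroup S]

/-- an even degree in the principal block of every group over `S` -/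
theorem exists_even (hna : ∃ a b : S, a * b ≠ b * a) (hE : EvenJ S) {A : Type u} [Group A] [Finite A]
    {N : Subgroup A} (h : Over S N) {M : Ideal AlgInt} (hM : IsPModular 2 M) :
    ∃ d ∈ cd0 M A, Even d := by
  have := Fact.mk Nat.prime_two
  have hN := h.normal
  obtain ⟨e⟩ := h.iso
  obtain ⟨k, hk⟩ := exists_isK N
  have := Fintype.ofFinite N
  have : Fintype (⊤ : Subgroup N) := Fintype.ofFinite _
  have hs : IsSimpleGroup N := e.isSimpleGroup
  have hcen : Subgroup.centralizer ((⊤ : Subgroup N) : Set N) = ⊥ := by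
    rw [Subgroup.coe_top, Subgroup.centralizer_univ]
    refine H949.LieDZ.center_eq_bot ?_
    obtain ⟨a, b, hab⟩ := hna
    refine ⟨e.symm a, e.symm b, fun h1 => hab ?_⟩
    have := congrArg e h1
    rwa [map_mul, map_mul, e.apply_symm_apply, e.apply_symm_apply] at this
  obtain ⟨χ, h1, h2, -, -⟩ := hE N ⊤ ⟨e.symm.trans Subgroup.topEquiv.symm⟩ hcen ⊤ le_rfl (by
    rw [Subgroup.relIndex_self]; exact odd_one) ⟨0, by rw [Subgroup.index_top, pow_zero]⟩ k hk M hM
  obtain ⟨ψ, h3, h4⟩ := exists_dvd_over hM N h1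
  exact ⟨_, ⟨ψ, h3, rfl⟩, even_iff_two_dvd.2 ((even_iff_two_dvd.1 h2).trans h4)⟩

/-- real odd degrees are degrees in the principal block -/
theorem mem_cd0_of_rd {A : Type u} [Group A] [Finite A] {N : Subgroup A} {d : ℕ} (h : RD A N d) (hd : Odd d)
    {M : Ideal AlgInt} (hM : IsPModular 2 M) : d ∈ cd0 M A := by
  obtain ⟨χ, h1, -, rfl⟩ := h
  exact ⟨χ, (S4483.result M hM).1 χ h1 hd, rfl⟩

theorem one_mem_cd0 {A : Type u} [Group A] [Finite A] {M : Ideal AlgInt} (hM : IsPModular 2 M) : 1 ∈ cd0 M A := by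
  have := Fact.mk Nat.prime_two
  exact ⟨triv A, triv_mem hM, charDegree_of_eq (by rw [Nat.cast_one]; rfl)⟩

/-- **`Kill 2 S`** -/
theorem kill_two_of (hna : ∃ a b : S, a * b ≠ b * a)
    (h : ∀ (A : Type u) [Group A] [Finite A] (N : Subgroup A), Over S N →
      ∃ a b : ℕ, Odd a ∧ Odd b ∧ a ≠ 1 ∧ b ≠ 1 ∧ a ≠ b ∧ RD A N a ∧ RD A N b)
    (hE : EvenJ S) : Kill 2 S := by
  intro A _ _ N hN M hM
  obtain ⟨a, b, ha, hb, ha1, hb1, hab, ra, rb⟩ := h A N hN
  obtain ⟨d, hd, hde⟩ := exists_even hna hE hN hM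
  have hfin : (cd0 M A).Finite := by
    have : Finite (IrrCharacter A) := Characters.Core.finite_irr
    refine (Set.finite_range fun χ : IrrCharacter A => charDegree (χ : A → ℂ)).subset ?_
    rintro _ ⟨χ, -, rfl⟩
    exact ⟨χ, rfl⟩
  have hsub : (({1, a, b, d} : Finset ℕ) : Set ℕ) ⊆ cd0 M A := by
    intro x hx
    simp only [Finset.coe_insert, Finset.coe_singleton, Set.mem_insert_iff, Set.mem_singleton_iff] at hx
    rcases hx with rfl | rfl | rfl | rfl
    · exact one_mem_cd0 hM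
    · exact mem_cd0_of_rd ra ha hM
    · exact mem_cd0_of_rd rb hb hM
    · exact hd
  have hcard : ({1, a, b, d} : Finset ℕ).card = 4 := by
    have hd1 : 1 ≠ d := by
      rintro rfl
      exact absurd hde (by decide)
    have had : a ≠ d := by
      rintro rfl
      exact (Nat.not_even_iff_odd.2 ha) hde
    have hbd : b ≠ d := by
      rintro rfl
      exact (Nat.not_even_iff_odd.2 hb) hde
    rw [Finset.card_insert_of_notMem, Finset.card_insert_of_notMem, Finset.card_insert_of_notMem,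
      Finset.card_singleton]
    · simpa using hbd
    · simp only [Finset.mem_insert, Finset.mem_singleton, not_or]
      exact ⟨hab, had⟩
    · simp only [Finset.mem_insert, Finset.mem_singleton, not_or]
      exact ⟨ha1.symm, hb1.symm, hd1⟩
  have h4 := Set.ncard_le_ncard hsub hfin
  rw [Set.ncard_coe_finset, hcard] at h4
  omega

/-- the characteristic divides the order -/
theorem dvd_card_lie (hna : ∃ a b : S, a * b ≠ b * a) {r : ℕ} (hr : r.Prime) (hL : IsLieTypeChar r S) :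
    r ∣ Nat.card S := by
  have : Fact r.Prime := ⟨hr⟩
  by_contra h
  let P : Sylow r S := default
  have h1 : (P : Subgroup S) = ⊥ := by
    rw [← Subgroup.card_eq_one, P.card_eq_multiplicity, Nat.factorization_eq_zero_of_not_dvd h, pow_zero]
  obtain ⟨a, b, hab⟩ := hna
  apply hab
  have h2 : a = 1 := by
    refine H949.LieDZ.regular_centralizer ⟨a, b, hab⟩ hL P (y := a) ?_ ?_
    · rw [Subgroup.mem_centralizer_iff]
      intro x hx
      have h3 : x = 1 := by
        have h4 : x ∈ (P : Subgroup S) := hx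
        rwa [h1, Subgroup.mem_bot] at h4
      rw [h3, one_mul, mul_one]
    · intro h3
      exact h (h3.trans (orderOf_dvd_natCard a))
  rw [h2, one_mul, mul_one]

/-- **groups of Lie type of odd characteristic** -/
theorem kill_two_lie (hna : ∃ a b : S, a * b ≠ b * a) {r : ℕ} (hr : r.Prime) (hr2 : r ≠ 2) (hS : IsLieTypeChar r S)
    (h2 : SecondOdd r S) (hE : EvenJ S) : Kill 2 S := by
  have := Fact.mk hr
  refine kill_two_of hna (fun A _ _ N hN => ?_) hE
  have hn := hN.normal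
  obtain ⟨e⟩ := hN.iso
  have hs : IsSimpleGroup N := e.isSimpleGroup
  have hodd := hr.odd_of_ne_two hr2
  have hspl := H979.LieSplit.hasSplit_of_isLieTypeChar hr (OddHalf.Known.isLieTypeChar_congr e.symm hS)
  have hdvd : r ∣ Nat.card N := by
    rw [Nat.card_congr e.toEquiv]
    exact dvd_card_lie hna hr hS
  obtain ⟨d, hd, hdr, hrd⟩ := h2 A N ⟨e.symm⟩ hN.cent
  have hpos : 0 < (Nat.card N).factorization r := hr.factorization_pos_of_dvd Nat.card_pos.ne' hdvd
  refine ⟨_, d, hodd.pow, hd, ?_, ?_, ?_, H685.R4.rd_steinberg N hspl hdvd, hrd⟩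
  · exact (Nat.one_lt_pow hpos.ne' hr.one_lt).ne'
  · intro h1
    exact hdr 0 (by rw [h1, pow_zero])
  · exact fun h1 => hdr _ h1.symm

end Cfsg.Agent.H749.Bd
end

-- part: H749/Bd/TwoLie
section
/-!
# S4932, `p = 2`, groups of Lie type of odd characteristic (helper749)

`kill_two_lie_odd` : `Kill 2 S`, or `S` is one of `PSL₂`, `PSL₃`, `PSU₃`, `G₂`, `³D₄`, `²G₂`.
-/

set_option autoImplicit false

open Cfsg

namespace Cfsg.Agent.H749.Bd

open Cfsg.Agent.H589.BD Cfsg.Agent.H694.EB Cfsg.Agent.H494.R4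

universe u

theorem kill_two_lie_odd {S : Type u} [Group S] [Finite S] [IsSimpleGroup S] (hna : ¬ IsMulCommutative S) {r : ℕ}
    (hr : r.Prime) (hr2 : r ≠ 2) (h : IsLieTypeChar r S) :
    Kill 2 S ∨ LowOdd r S ∨ ∃ (F : Type) (_ : Field F) (_ : Fintype F),
      Nonempty (S ≃* Matrix.ProjectiveSpecialLinearGroup (Fin 2) F) := by
  have hna' : ∃ a b : S, a * b ≠ b * a := by
    by_contra hcon
    push Not at hcon
    exact hna ⟨⟨hcon⟩⟩
  by_cases h2 : ∃ (F : Type) (_ : Field F) (_ : Fintype F),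
      Nonempty (S ≃* Matrix.ProjectiveSpecialLinearGroup (Fin 2) F)
  · exact Or.inr (Or.inr h2)
  · rcases lie_odd hr hr2 h with hE | hL
    · exact Or.inl (kill_two_lie hna' hr hr2 h (second_lie_odd hna' hr hr2 h h2) hE)
    · exact Or.inr (Or.inl hL)

end Cfsg.Agent.H749.Bd
end

-- part: H787/BD/Two
section
/-!
# S4932 / S4953: `PSL₂(q)` for all primes, and the prime `2` in odd characteristic (helper787)
-/

set_option autoImplicit false

namespace Cfsg.Agent.H787.BD

open Cfsg Cfsg.Agent.H589.BD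

universe u v

/-- `PSL₂(F)` simple nonabelian: at least four elements in `F` -/
theorem four_le_card {S : Type u} [Group S] [Finite S] [IsSimpleGroup S] (hna : ¬ IsMulCommutative S)
    {F : Type v} [Field F] [Fintype F] (e : S ≃* Matrix.ProjectiveSpecialLinearGroup (Fin 2) F) :
    4 ≤ Fintype.card F := by
  by_contra hcon
  have h60 := H894.sixty_le hna
  rw [Nat.card_congr e.toEquiv] at h60
  have h2 : 2 ≤ Fintype.card F := Fintype.one_lt_card
  rcases (show Fintype.card F = 2 ∨ Fintype.card F = 3 by omega) with h | h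
  · have h1 : Nat.card (Matrix.ProjectiveSpecialLinearGroup (Fin 2) F) ≤
        Nat.card (Matrix.SpecialLinearGroup (Fin 2) F) :=
      Nat.card_le_card_of_surjective (QuotientGroup.mk' (Subgroup.center (Matrix.SpecialLinearGroup (Fin 2) F)))
        (QuotientGroup.mk'_surjective _)
    have h3 : Nat.card (Matrix.SpecialLinearGroup (Fin 2) F) ≤ Nat.card (Matrix (Fin 2) (Fin 2) F) :=
      Nat.card_le_card_of_injective (fun x => (x : Matrix (Fin 2) (Fin 2) F)) Subtype.val_injective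
    have h4 : Nat.card (Matrix (Fin 2) (Fin 2) F) = 16 := by
      change Nat.card (Fin 2 → Fin 2 → F) = 16
      rw [Nat.card_eq_fintype_card, Fintype.card_fun, Fintype.card_fun, Fintype.card_fin, h]
      norm_num
    omega
  · have h1 := SmallSimple.PSLTwoPart.card_psl_two_odd (F := F) (by rw [h]; decide)
    rw [h] at h1
    omega

/-- `PSL₂(q)`, all primes. -/
theorem psl_two_any {p : ℕ} [hp : Fact p.Prime] {S : Type u} [Group S] [Finite S] [IsSimpleGroup S]
    (hna : ¬ IsMulCommutative S) {F : Type v} [Field F] [Fintype F]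
    (e : S ≃* Matrix.ProjectiveSpecialLinearGroup (Fin 2) F) : Tame p S := by
  have h4 := four_le_card hna e
  by_cases hpF : p ∣ Fintype.card F
  · have hO : H585.BD.OutAb p S := H585.BD.OutAb.congr e (H585.BD.outAb_psl_two h4)
    have : Finite (Matrix.ProjectiveSpecialLinearGroup (Fin 2) F) := Finite.of_equiv S e.toEquiv
    have : Finite (Matrix.SpecialLinearGroup (Fin 2) F) := inferInstance
    obtain ⟨r, hr⟩ := CharP.exists F
    obtain ⟨f, hrp, hf⟩ := FiniteField.card F r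
    have h1 : p = r := by
      rw [hf] at hpF
      exact (Nat.prime_dvd_prime_iff_eq hp.out hrp).1 (hp.out.dvd_of_dvd_pow hpF)
    subst h1
    have h := H755.Dl.DlLe_charp (F := F) (n := 2) (G := Matrix.SpecialLinearGroup (Fin 2) F)
      (S := Matrix.ProjectiveSpecialLinearGroup (Fin 2) F) (p := p) (f := QuotientGroup.mk' _)
      (ρ := Matrix.SpecialLinearGroup.toGL) (QuotientGroup.mk'_surjective _)
      Matrix.SpecialLinearGroup.toGL_injective
    have h5 : Nat.clog 2 2 = 1 := by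
      rw [Nat.clog_eq_one (by norm_num) (by norm_num)]
    rw [h5] at h
    exact H585.BD.tame_one (H585.BD.center_simple hna) (H246.Dl.DlLe.of_equiv e h) hO
  · exact H585.BD.tame_psl_two hna e h4 hpF

/-- **`p = 2`, groups of Lie type in odd characteristic.** -/
theorem two_row {r : ℕ} (hr : r.Prime) (h2 : r ≠ 2) : RowsOf.{u} 2 (fun S _ => IsLieTypeChar r S) := by
  intro S _ _ _ hna hz hd h
  have : Fact (Nat.Prime 2) := ⟨Nat.prime_two⟩
  rcases H749.Bd.kill_two_lie_odd hna hr h2 h with hk | hl | ⟨F, iF, iT, ⟨e⟩⟩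
  · exact Or.inl hk
  · cases hl with
    | psl F iF iT iC n hn h4 e =>
      rcases hn with rfl | rfl
      · exact Or.inr (psl_two_any hna e)
      · exact Or.inr (H585.BD.tame_psl_three_two hna e (not_dvd_card Nat.prime_two hr h2.symm F))
    | psu3 F iF iT iC q hF e =>
      have h3 := not_dvd_card Nat.prime_two hr h2.symm F
      have h4 : ¬ 2 ∣ q := fun h => h3 (by rw [hF]; exact h.trans (dvd_pow_self q (by norm_num)))
      exact Or.inr (H585.BD.tame_psu_three_two hna hF e (fun h5 => h4 (by rw [h5.2])) h4)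
    | g2 F iF iT iC h3 e =>
      exact Or.inr (H849.BD.tame_G2 hna h3 e Nat.prime_two (not_dvd_card Nat.prime_two hr h2.symm F))
    | d4 F iF iT iC q hq hF e =>
      exact Or.inr (H849.BD.tame_3D4 hna hq hF e Nat.prime_two (not_dvd_card Nat.prime_two hr h2.symm F))
    | ree h3 h =>
      obtain ⟨F, _, _, m, hm, hF, ⟨e⟩⟩ := h
      exact Or.inr (H849.BD.tame_Ree hna hm hF e Nat.prime_two (by norm_num))
  · exact Or.inr (psl_two_any hna e)

end Cfsg.Agent.H787.BD
end

-- part: H654/BD/Own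
section
/-!
# S4932, S4953: own characteristic (helper654)

* `kill_own` : a simple group `S` of Lie type in characteristic `p` satisfies `Kill p S` unless it is `PSL(2,F)`.

`Irr(A) = B₀(A) ∪ Irr(A | St)`. If `A/N` is abelian all characters over `St` have the same degree and `A` has at least
five degrees (`H638.FD.Rows.row_lie`). If `A/N` is nonabelian, `core_nonab`.
-/

set_option autoImplicit false

open Cfsg
open scoped ComplexConjugate

namespace Cfsg.Agent.H654.BD

open Cfsg.Agent.Characters Cfsg.Agent.Characters.Core Cfsg.Agent.Blocks.Basic Cfsg.Agent.H589.BD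
  Cfsg.Agent.H686.CharKit

universe u

variable {p : ℕ} [hp : Fact p.Prime]

/-- **The centralizer of a Sylow `p`-subgroup of the socle is a `p`-group.** -/
theorem centralizer_pgroup {A : Type u} [Group A] [Finite A] (N : Subgroup A) [N.Normal] [IsSimpleGroup N]
    (hL : IsLieTypeChar p N) (hc : Subgroup.centralizer (N : Set A) = ⊥) (U : Sylow p N) :
    IsPGroup p (Subgroup.centralizer (((U : Subgroup N).map N.subtype : Subgroup A) : Set A)) := by
  rintro ⟨x, hx⟩
  refine ⟨(orderOf x).factorization p, Subtype.ext ?_⟩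
  show x ^ p ^ (orderOf x).factorization p = 1
  set y := x ^ p ^ (orderOf x).factorization p with hy
  have hyo : ¬ p ∣ orderOf y := by
    rw [hy, orderOf_pow, Nat.gcd_eq_right (Nat.ordProj_dvd _ _)]
    exact Nat.not_dvd_ordCompl hp.out (orderOf_pos x).ne'
  have hyc : y ∈ Subgroup.centralizer (((U : Subgroup N).map N.subtype : Subgroup A) : Set A) :=
    Subgroup.pow_mem _ hx _
  have h1 : ((MulAut.conjNormal y : MulAut N)) = 1 := by
    refine S4613.result p hL _ (fun h => hyo (h.trans (orderOf_map_dvd (MulAut.conjNormal : A →* MulAut N) y))) U ?_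
    intro u hu
    apply Subtype.ext
    rw [MulAut.conjNormal_apply]
    have h2 := Subgroup.mem_centralizer_iff.1 hyc (u : A) ⟨u, hu, rfl⟩
    rw [← h2, mul_inv_cancel_right]
  have h2 : y ∈ Subgroup.centralizer (N : Set A) := by
    rw [Subgroup.mem_centralizer_iff]
    intro n hn
    have h3 := congrArg Subtype.val (DFunLike.congr_fun h1 (⟨n, hn⟩ : N))
    rw [MulAut.conjNormal_apply, MulAut.one_apply] at h3
    have h4 : y * n * y⁻¹ = n := h3
    calc n * y = (y * n * y⁻¹) * y := by rw [h4]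
      _ = y * n := by group
  rw [hc, Subgroup.mem_bot] at h2
  exact h2

/-- **Own characteristic.** -/
theorem kill_own {S : Type u} [Group S] [Finite S] [IsSimpleGroup S] (hL : IsLieTypeChar p S) (hS : SizeOK S) :
    Kill p S ∨ ∃ (F : Type) (_ : Field F) (_ : Fintype F), 4 ≤ Fintype.card F ∧
      Nonempty (S ≃* Matrix.ProjectiveSpecialLinearGroup (Fin 2) F) := by
  classical
  by_cases hex : ∃ (F : Type) (_ : Field F) (_ : Fintype F), 4 ≤ Fintype.card F ∧
      Nonempty (S ≃* Matrix.ProjectiveSpecialLinearGroup (Fin 2) F)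
  · exact Or.inr hex
  left
  intro A _ _ N hN M hM
  have := hN.normal
  obtain ⟨e⟩ := hN.iso
  have hprime : M.IsPrime := Blocks.Local.isPrime_of_isPModular hM
  have := Fintype.ofFinite A
  have := Fintype.ofFinite N
  have hsN : IsSimpleGroup N := e.isSimpleGroup_congr.2 ‹_›
  have hLN : IsLieTypeChar p N := (CpQuot.Congr.isLieTypeChar_iff e p).2 hL
  obtain ⟨st, hdeg, hst, hpN⟩ := H947.PQ.exists_st hp.out hLN
  obtain ⟨U⟩ : Nonempty (Sylow p N) := inferInstance
  have hU := centralizer_pgroup N hLN hN.cent U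
  have h5 : 5 ≤ (charDegrees A).ncard := by
    rcases H638.FD.Rows.row_lie N hN.normal hN.cent hp.out hLN with h | ⟨F, i1, i2, h1, ⟨f⟩⟩
    · exact h
    · exact (hex ⟨F, i1, i2, h1, ⟨e.symm.trans f⟩⟩).elim
  have hover : ∀ (χ : IrrCharacter A) (θ : IrrCharacter N), θ ≠ st →
      classInner (fun n : N => (χ : A → ℂ) n) (θ : N → ℂ) ≠ 0 → χ ∈ principalBlock M A := fun χ θ hθ h =>
    mem_principal_of_over hM N U hU (hst θ hθ M hM) h
  have hidx : N.index ≤ Nat.card (Out S) := by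
    have : Finite (Out S) := inferInstance
    exact Nat.le_of_dvd Nat.card_pos (H625.R4.index_dvd_out N e.symm hN.cent)
  have hstone : st ≠ H893.Sd.one N := by
    intro h
    rw [h] at hdeg
    have h1 := irr_one_eq_charDegree (H893.Sd.one N).2
    have h2 : ((H893.Sd.one N : IrrCharacter N) : N → ℂ) 1 = 1 := rfl
    rw [h2] at h1
    have h3 : charDegree ((H893.Sd.one N : IrrCharacter N) : N → ℂ) = 1 := by exact_mod_cast h1.symm
    rw [h3] at hdeg
    have h4 := hp.out.factorization_pos_of_dvd Nat.card_pos.ne' hpN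
    exact (Nat.one_lt_pow h4.ne' hp.out.one_lt).ne hdeg
  by_cases hlin : ∀ χ : IrrCharacter A, N ≤ chKer χ → charDegree (χ : A → ℂ) = 1
  · -- abelian quotient
    refine core_abelian N (fun x y => ?_) st hover h5
    refine mem_of_forall_chKer N fun χ hχ => ?_
    obtain ⟨f, hf⟩ := Characters.Linear.exists_hom_of_isIrrCharacter χ.2 (by
      rw [← charDegree_irr, hlin χ hχ, Nat.cast_one])
    rw [mem_chKer, hf]
    simp only [map_mul, map_inv, map_one]
    have h1 : f x * f y * (f x)⁻¹ * (f y)⁻¹ = 1 := by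
      rw [mul_comm (f x) (f y), mul_inv_cancel_right, mul_inv_cancel]
    rw [h1]
  · push Not at hlin
    obtain ⟨ζ, hζ, hζ1⟩ := hlin
    refine core_nonab hM N hpN (fun χ hχ => ?_) (fun χ hχ => ?_) ζ hζ hζ1
    · refine hover χ (H893.Sd.one N) (Ne.symm hstone) ?_
      have h1 : (fun n : N => (χ : A → ℂ) n) = (χ : A → ℂ) 1 • ((H893.Sd.one N : IrrCharacter N) : N → ℂ) := by
        funext n
        rw [mem_chKer.1 (hχ n.2)]
        show _ = (χ : A → ℂ) 1 * 1
        rw [mul_one]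
      rw [h1, classInner_smul_left, classInner_irr_self (H893.Sd.one N).2, mul_one]
      exact isIrr_apply_one_ne_zero χ.2
    · obtain ⟨θ, hθ⟩ := exists_under N χ
      have hne : θ ≠ H893.Sd.one N := by
        rintro rfl
        apply hχ
        obtain ⟨ψ, hψ⟩ := Blocks.Deflate.exists_deflation N (χ : A → ℂ) χ.2 (by
          intro h0
          apply hθ
          rw [Core.classInner_def]
          have h1 : ∀ n : N, (χ : A → ℂ) n * conj (((H893.Sd.one N : IrrCharacter N) : N → ℂ) n) = (χ : A → ℂ) n := by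
            intro n
            show (χ : A → ℂ) n * conj (1 : ℂ) = _
            rw [map_one, mul_one]
          rw [Finset.sum_congr rfl fun n _ => h1 n, h0, mul_zero])
        intro n hn
        rw [mem_chKer, hψ, Function.comp_apply, Function.comp_apply, (QuotientGroup.eq_one_iff n).2 hn]
        rfl
      have h2 : charDegree (θ : N → ℂ) ≤ charDegree (χ : A → ℂ) :=
        H996.Eight.Interval.charDegree_le (χ := fun n : N => (χ : A → ℂ) n)
          (isCharacter_comp N.subtype (isIrr_isCharacter χ.2)) (irr_one_eq_charDegree χ.2) θ.2 hθ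
      -- transport to `S`
      have h3 := hS ⟨fun s => (θ : N → ℂ) (e.symm s),
        Blocks.CliffordCentral.isIrrCharacter_comp θ.2 e.symm.toMonoidHom e.symm.surjective⟩ (by
          by_contra h4
          push Not at h4
          apply hne
          apply Subtype.ext
          funext n
          have h5 := h4 (e n)
          have h6 : (θ : N → ℂ) (e.symm (e n)) = 1 := h5
          rw [e.symm_apply_apply] at h6
          rw [h6]; rfl)
      have h4 : charDegree (fun s => (θ : N → ℂ) (e.symm s)) = charDegree (θ : N → ℂ) := by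
        unfold charDegree
        show ⌊((θ : N → ℂ) (e.symm 1)).re⌋₊ = _
        rw [map_one]
      have h6 : Nat.card (Out S) < charDegree (fun s => (θ : N → ℂ) (e.symm s)) := h3
      omega

end Cfsg.Agent.H654.BD
end

-- part: H710/BD/AltChar
section
/-!
# Characters of the alternating groups in the principal block (helper710, S4932/S4953)

* `exists_odd` : `ch β` of odd degree `d` restricts to a character of `A_n` of degree `d` in `B₀(2)`;
* `exists_b0` : `ch β` with the residues of the trivial tuple: a character of `A_n` of degree `d` or `d / 2` in `B₀(p)`;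
* degrees of the tuples with two and three entries.
-/

set_option autoImplicit false

namespace Cfsg.Agent.H710.BD

open Cfsg Cfsg.Agent Cfsg.Agent.H614 Cfsg.Agent.H133.PB Finset

theorem exists_odd {n m : ℕ} (hn : 2 ≤ n) {β : Fin m → ℕ} (hβ : StrictMono β)
    (hs : ∑ i, β i = n + ∑ i : Fin m, (i : ℕ)) {d : ℕ} (hd : FM (Multiset.replicate n 1) β = d) (hodd : Odd d) :
    ∃ θ : IrrCharacter (alternatingGroup (Fin n)), charDegree (θ : alternatingGroup (Fin n) → ℂ) = d ∧
      ∀ M : Ideal AlgInt, IsPModular 2 M → θ ∈ principalBlock M (alternatingGroup (Fin n)) := by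
  have : Nontrivial (Fin n) := Fin.nontrivial_iff_two_le.2 hn
  have hs' : ∑ i, β i = Fintype.card (Fin n) + ∑ i : Fin m, (i : ℕ) := by rw [Fintype.card_fin, hs]
  have hirr := isIrr_ch (α := Fin n) hβ hs'
  have h1 : ch (Fin n) β 1 = d := by
    rw [ch_apply, ty_one, Fintype.card_fin, hd]
    norm_cast
  obtain ⟨ψ, hψ⟩ := exists_constituent (alternatingGroup (Fin n)) hirr
  have hdeg : charDegree (ch (Fin n) β) = d := H670.PSing.charDegree_eq_of h1
  rcases restrict_two (alternatingGroup (Fin n)) alternatingGroup.index_eq_two hirr ψ.2 hψ with h3 | ⟨h3, -⟩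
  · have h4 : charDegree (ψ : alternatingGroup (Fin n) → ℂ) = d := by
      apply H670.PSing.charDegree_eq_of
      rw [← h3 1, OneMemClass.coe_one, h1]
    refine ⟨ψ, h4, fun M hM => (Cfsg.Agent.S4483.result M hM).1 ψ (fun g => ?_) (by rw [h4]; exact hodd)⟩
    rw [← h3 g, ch_apply]
    exact Complex.intCast_im _
  · exfalso
    obtain ⟨-, h5⟩ := charDegree_pos ψ.2
    rw [h1, h5] at h3
    have h6 : d = 2 * charDegree (ψ : alternatingGroup (Fin n) → ℂ) := by exact_mod_cast h3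
    rw [h6] at hodd
    exact (Nat.not_odd_iff_even.2 (even_two_mul _)) hodd

theorem exists_half {n m p : ℕ} [hp : Fact p.Prime] (hn : 2 ≤ n) {β : Fin m → ℕ} (hβ : StrictMono β)
    (hs : ∑ i, β i = n + ∑ i : Fin m, (i : ℕ)) {d : ℕ} (hd : FM (Multiset.replicate n 1) β = d)
    (hB : ∀ M : Ideal AlgInt, IsPModular p M → ∀ h : IsIrrCharacter (Equiv.Perm (Fin n)) (ch (Fin n) β),
      (⟨ch (Fin n) β, h⟩ : IrrCharacter (Equiv.Perm (Fin n))) ∈ principalBlock M (Equiv.Perm (Fin n))) :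
    ∃ θ : IrrCharacter (alternatingGroup (Fin n)),
      (∀ M : Ideal AlgInt, IsPModular p M → θ ∈ principalBlock M (alternatingGroup (Fin n))) ∧
      (charDegree (θ : alternatingGroup (Fin n) → ℂ) = d ∨ 2 * charDegree (θ : alternatingGroup (Fin n) → ℂ) = d) := by
  have : Nontrivial (Fin n) := Fin.nontrivial_iff_two_le.2 hn
  have hs' : ∑ i, β i = Fintype.card (Fin n) + ∑ i : Fin m, (i : ℕ) := by rw [Fintype.card_fin, hs]
  have hirr := isIrr_ch (α := Fin n) hβ hs'
  have h1 : ch (Fin n) β 1 = d := by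
    rw [ch_apply, ty_one, Fintype.card_fin, hd]
    norm_cast
  have hdeg : charDegree (ch (Fin n) β) = d := H670.PSing.charDegree_eq_of h1
  obtain ⟨ψ, hψ⟩ := exists_constituent (alternatingGroup (Fin n)) hirr
  refine ⟨ψ, fun M hM => ?_, ?_⟩
  · exact H611.CoverPrincipal.mem_principalBlock_of_over p hM (alternatingGroup (Fin n)) ⟨_, hirr⟩ ψ hψ (hB M hM hirr)
  · rcases degree_two (alternatingGroup (Fin n)) alternatingGroup.index_eq_two hirr ψ.2 hψ with h3 | ⟨h3, -⟩
    · left; rw [← h3, hdeg]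
    · right; rw [← h3, hdeg]

theorem exists_b0 {n k p : ℕ} [hp : Fact p.Prime] (hn : 2 ≤ n) {β : Fin (k + 1) → ℕ} (hβ : StrictMono β)
    (hs : ∑ i, β i = n + ∑ i : Fin (k + 1), (i : ℕ)) (hc : SameCol p (tr k n) β) {d : ℕ}
    (hd : FM (Multiset.replicate n 1) β = d) :
    ∃ θ : IrrCharacter (alternatingGroup (Fin n)),
      (∀ M : Ideal AlgInt, IsPModular p M → θ ∈ principalBlock M (alternatingGroup (Fin n))) ∧
      (charDegree (θ : alternatingGroup (Fin n) → ℂ) = d ∨ 2 * charDegree (θ : alternatingGroup (Fin n) → ℂ) = d) := by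
  refine exists_half (p := p) hn hβ hs hd fun M hM h => ?_
  have hs' : ∑ i, β i = Fintype.card (Fin n) + ∑ i : Fin (k + 1), (i : ℕ) := by rw [Fintype.card_fin, hs]
  have hc' : SameCol p (tr k (Fintype.card (Fin n))) β := by rw [Fintype.card_fin]; exact hc
  exact ch_mem_principalBlock (α := Fin n) hM hβ hs' hc'

/-! ### Degrees -/

theorem FM_two {n x y : ℕ} (hxy : x < y) (hs : x + y = n + 1) {d : ℕ}
    (hd : d * (x.factorial * y.factorial) = n.factorial * (y - x)) :
    StrictMono (![x, y] : Fin 2 → ℕ) ∧ ∑ i, (![x, y] : Fin 2 → ℕ) i = n + ∑ i : Fin 2, (i : ℕ) ∧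
      FM (Multiset.replicate n 1) (![x, y] : Fin 2 → ℕ) = d := by
  have hsum : ∑ i, (![x, y] : Fin 2 → ℕ) i = n + ∑ i : Fin 2, (i : ℕ) := by
    simp only [Fin.sum_univ_succ, _root_.Nat.succ_eq_add_one, _root_.Nat.reduceAdd, _root_.Fin.isValue, _root_.Matrix.cons_val_zero, _root_.Finset.univ_unique, _root_.Fin.default_eq_zero, _root_.Matrix.cons_val_succ, _root_.Matrix.cons_val_fin_one, _root_.Finset.sum_const, _root_.Finset.card_singleton, _root_.smul_eq_mul, _root_.one_mul, _root_.Fin.coe_ofNat_eq_mod, _root_.Nat.zero_mod, _root_.Fin.val_succ, _root_.Fin.val_eq_zero, _root_.zero_add, _root_.mul_one]; omega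
  refine ⟨?_, hsum, ?_⟩
  · intro a b hab
    fin_cases a <;> fin_cases b <;> simp_all only [_root_.Nat.succ_eq_add_one, _root_.Nat.reduceAdd, _root_.Fin.sum_univ_two, _root_.Fin.isValue, _root_.Matrix.cons_val_zero, _root_.Matrix.cons_val_one, _root_.Matrix.cons_val_fin_one, _root_.Fin.coe_ofNat_eq_mod, _root_.Nat.zero_mod, _root_.Nat.mod_succ, _root_.zero_add, _root_.Nat.add_left_cancel_iff, _root_.Fin.zero_eta, _root_.lt_self_iff_false, _root_.Fin.mk_one, _root_.zero_lt_one, _root_.not_lt_zero]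
  · have h := FM_ones_formula n (![x, y] : Fin 2 → ℕ) hsum
    have h2 : ∏ i : Fin 2, ∏ j ∈ Finset.Ioi i, (((![x, y] : Fin 2 → ℕ) j : ℤ) - (![x, y] : Fin 2 → ℕ) i) = (y : ℤ) - x := by
      rw [Fin.prod_univ_two]
      have e0 : (Finset.Ioi (0 : Fin 2)) = {1} := by decide
      have e1 : (Finset.Ioi (1 : Fin 2)) = ∅ := by decide
      rw [e0, e1]
      simp
    rw [h2, Fin.prod_univ_two] at h
    simp only [Matrix.cons_val_zero, Matrix.cons_val_one] at h
    have hd' : (d : ℤ) * ((x.factorial : ℤ) * y.factorial) = n.factorial * ((y : ℤ) - x) := by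
      have h3 : ((d * (x.factorial * y.factorial) : ℕ) : ℤ) = ((n.factorial * (y - x) : ℕ) : ℤ) := by rw [hd]
      push_cast [Nat.cast_sub hxy.le] at h3
      exact h3
    have hpos : ((x.factorial : ℤ) * y.factorial) ≠ 0 := by
      exact_mod_cast Nat.mul_ne_zero (Nat.factorial_ne_zero _) (Nat.factorial_ne_zero _)
    exact mul_right_cancel₀ hpos (h.trans hd'.symm)

theorem FM_three {n x y z : ℕ} (hxy : x < y) (hyz : y < z) (hs : x + y + z = n + 3) {d : ℕ}
    (hd : d * (x.factorial * y.factorial * z.factorial) = n.factorial * ((y - x) * (z - x) * (z - y))) :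
    StrictMono (![x, y, z] : Fin 3 → ℕ) ∧ ∑ i, (![x, y, z] : Fin 3 → ℕ) i = n + ∑ i : Fin 3, (i : ℕ) ∧
      FM (Multiset.replicate n 1) (![x, y, z] : Fin 3 → ℕ) = d := by
  have hsum : ∑ i, (![x, y, z] : Fin 3 → ℕ) i = n + ∑ i : Fin 3, (i : ℕ) := by
    simp only [Fin.sum_univ_succ, _root_.Nat.succ_eq_add_one, _root_.Nat.reduceAdd, _root_.Fin.isValue, _root_.Matrix.cons_val_zero, _root_.Matrix.cons_val_succ, _root_.Finset.univ_unique, _root_.Fin.default_eq_zero, _root_.Matrix.cons_val_fin_one, _root_.Finset.sum_const, _root_.Finset.card_singleton, _root_.smul_eq_mul, _root_.one_mul, _root_.Fin.coe_ofNat_eq_mod, _root_.Nat.zero_mod, _root_.Fin.val_succ, _root_.zero_add, _root_.Fin.val_eq_zero]; omega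
  refine ⟨?_, hsum, ?_⟩
  · intro a b hab
    fin_cases a <;> fin_cases b <;> simp_all only [_root_.Nat.succ_eq_add_one, _root_.Nat.reduceAdd, _root_.Fin.zero_eta, _root_.Fin.isValue, _root_.lt_self_iff_false, _root_.Fin.mk_one, _root_.zero_lt_one, _root_.Matrix.cons_val_zero, _root_.Matrix.cons_val_one, _root_.Fin.reduceFinMk, _root_.Fin.reduceLT, _root_.Matrix.cons_val, _root_.not_lt_zero, _root_.Fin.lt_one_iff, _root_.Fin.reduceEq] <;> omega
  · have h := FM_ones_formula n (![x, y, z] : Fin 3 → ℕ) hsum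
    have h2 : ∏ i : Fin 3, ∏ j ∈ Finset.Ioi i, (((![x, y, z] : Fin 3 → ℕ) j : ℤ) - (![x, y, z] : Fin 3 → ℕ) i) =
        ((y : ℤ) - x) * (z - x) * (z - y) := by
      rw [Fin.prod_univ_three]
      have e0 : (Finset.Ioi (0 : Fin 3)) = {1, 2} := by decide
      have e1 : (Finset.Ioi (1 : Fin 3)) = {2} := by decide
      have e2 : (Finset.Ioi (2 : Fin 3)) = ∅ := by decide
      rw [e0, e1, e2]
      simp only [_root_.Fin.isValue, _root_.Matrix.cons_val_zero, _root_.Finset.mem_singleton, _root_.Fin.reduceEq, _root_.not_false_eq_true, _root_.Finset.prod_insert, _root_.Matrix.cons_val_one, _root_.Finset.prod_singleton, _root_.Matrix.cons_val, _root_.Finset.prod_empty, _root_.mul_one]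
    rw [h2, Fin.prod_univ_three] at h
    simp only [Matrix.cons_val_zero, Matrix.cons_val_one, Matrix.cons_val] at h
    have hd' : (d : ℤ) * ((x.factorial : ℤ) * y.factorial * z.factorial) =
        n.factorial * (((y : ℤ) - x) * (z - x) * (z - y)) := by
      have h3 : ((d * (x.factorial * y.factorial * z.factorial) : ℕ) : ℤ) =
        ((n.factorial * ((y - x) * (z - x) * (z - y)) : ℕ) : ℤ) := by rw [hd]
      push_cast [Nat.cast_sub hxy.le, Nat.cast_sub hyz.le, Nat.cast_sub (hxy.trans hyz).le] at h3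
      exact h3
    have hpos : ((x.factorial : ℤ) * y.factorial * z.factorial) ≠ 0 := by
      exact_mod_cast Nat.mul_ne_zero (Nat.mul_ne_zero (Nat.factorial_ne_zero _) (Nat.factorial_ne_zero _))
        (Nat.factorial_ne_zero _)
    exact mul_right_cancel₀ hpos (h.trans hd'.symm)

end Cfsg.Agent.H710.BD
end

-- part: H710/BD/AltTwo
section
/-!
# `A_n`, `n ≥ 8`, at the prime 2 (helper710, S4932/S4953)
-/

set_option autoImplicit false

namespace Cfsg.Agent.H710.BD

open Cfsg Cfsg.Agent Cfsg.Agent.H614 Cfsg.Agent.H133.PB Cfsg.Agent.H589.BD Finset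

universe u v

theorem inB0_comp {S : Type u} [Group S] {T : Type v} [Group T] (e : S ≃* T) {p : ℕ} [Fact p.Prime]
    {θ : IrrCharacter T} (h : ∀ M : Ideal AlgInt, IsPModular p M → θ ∈ principalBlock M T) :
    ∃ χ : IrrCharacter S, InB0 p χ ∧ charDegree (χ : S → ℂ) = charDegree (θ : T → ℂ) := by
  refine ⟨⟨(θ : T → ℂ) ∘ e, Cfsg.Agent.Characters.Core.isIrr_comp e.toMonoidHom e.surjective θ.2⟩, fun M hM => ?_, ?_⟩
  · have : M.IsPrime := hM.2.1.isPrime
    exact mem_principalBlock_comp e.toMonoidHom e.surjective (h M hM)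
  · show charDegree ((θ : T → ℂ) ∘ e) = _
    simp only [charDegree, Function.comp_apply, map_one]

theorem nt_of_degree {G : Type*} [Group G] [Finite G] (χ : IrrCharacter G) (h : charDegree (χ : G → ℂ) ≠ 1) : NT χ := by
  refine ⟨1, fun h1 => h ?_⟩
  obtain ⟨-, h2⟩ := charDegree_pos χ.2
  rw [h2] at h1
  exact_mod_cast h1

theorem deg_1 {n : ℕ} (hn : 2 ≤ n) : StrictMono (![1, n] : Fin 2 → ℕ) ∧
    ∑ i, (![1, n] : Fin 2 → ℕ) i = n + ∑ i : Fin 2, (i : ℕ) ∧
      FM (Multiset.replicate n 1) (![1, n] : Fin 2 → ℕ) = (n - 1 : ℕ) :=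
  FM_two (by omega) (by omega) (by rw [Nat.factorial_one, one_mul, mul_comm])

theorem deg_11 {n d : ℕ} (hn : 3 ≤ n) (hd : 2 * d = (n - 1) * (n - 2)) : StrictMono (![1, 2, n] : Fin 3 → ℕ) ∧
    ∑ i, (![1, 2, n] : Fin 3 → ℕ) i = n + ∑ i : Fin 3, (i : ℕ) ∧
      FM (Multiset.replicate n 1) (![1, 2, n] : Fin 3 → ℕ) = d :=
  FM_three (by omega) (by omega) (by omega) (by
    rw [Nat.factorial_one, one_mul, Nat.factorial_two, ← mul_assoc, mul_comm d 2, hd, show 2 - 1 = 1 from rfl, one_mul,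
      mul_comm])

theorem deg_3 {n d : ℕ} (hn : 6 ≤ n) (hd : 6 * d = n * (n - 1) * (n - 5)) : StrictMono (![3, n - 2] : Fin 2 → ℕ) ∧
    ∑ i, (![3, n - 2] : Fin 2 → ℕ) i = n + ∑ i : Fin 2, (i : ℕ) ∧
      FM (Multiset.replicate n 1) (![3, n - 2] : Fin 2 → ℕ) = d := by
  obtain ⟨m, rfl⟩ := Nat.exists_eq_add_of_le hn
  have e1 : 6 + m - 2 = m + 4 := by omega
  have e2 : 6 + m - 1 = m + 5 := by omega
  have e3 : 6 + m - 5 = m + 1 := by omega
  rw [e2, e3] at hd
  rw [e1]
  refine FM_two (by omega) (by omega) ?_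
  have e4 : m + 4 - 3 = m + 1 := by omega
  have e5 : (6 + m).factorial = (6 + m) * (m + 5) * (m + 4).factorial := by
    rw [show 6 + m = m + 4 + 1 + 1 by omega, Nat.factorial_succ, Nat.factorial_succ]; ring
  rw [e4, e5, show Nat.factorial 3 = 6 from rfl]
  calc d * (6 * (m + 4).factorial) = (6 * d) * (m + 4).factorial := by ring
    _ = _ := by rw [hd]; ring

theorem deg_2 {n d : ℕ} (hn : 4 ≤ n) (hd : 2 * d = n * (n - 3)) : StrictMono (![2, n - 1] : Fin 2 → ℕ) ∧
    ∑ i, (![2, n - 1] : Fin 2 → ℕ) i = n + ∑ i : Fin 2, (i : ℕ) ∧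
      FM (Multiset.replicate n 1) (![2, n - 1] : Fin 2 → ℕ) = d := by
  obtain ⟨m, rfl⟩ := Nat.exists_eq_add_of_le hn
  have e1 : 4 + m - 1 = m + 3 := by omega
  have e2 : 4 + m - 3 = m + 1 := by omega
  rw [e2] at hd
  rw [e1]
  refine FM_two (by omega) (by omega) ?_
  have e4 : m + 3 - 2 = m + 1 := by omega
  have e5 : (4 + m).factorial = (4 + m) * (m + 3).factorial := by
    rw [show 4 + m = m + 3 + 1 by omega, Nat.factorial_succ]
  rw [e4, e5, Nat.factorial_two]
  calc d * (2 * (m + 3).factorial) = (2 * d) * (m + 3).factorial := by ring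
    _ = _ := by rw [hd]; ring

theorem deg_21 {n d : ℕ} (hn : 5 ≤ n) (hd : 3 * d = n * (n - 2) * (n - 4)) : StrictMono (![1, 3, n - 1] : Fin 3 → ℕ) ∧
    ∑ i, (![1, 3, n - 1] : Fin 3 → ℕ) i = n + ∑ i : Fin 3, (i : ℕ) ∧
      FM (Multiset.replicate n 1) (![1, 3, n - 1] : Fin 3 → ℕ) = d := by
  obtain ⟨m, rfl⟩ := Nat.exists_eq_add_of_le hn
  have e1 : 5 + m - 1 = m + 4 := by omega
  have e2 : 5 + m - 2 = m + 3 := by omega
  have e3 : 5 + m - 4 = m + 1 := by omega
  rw [e2, e3] at hd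
  rw [e1]
  refine FM_three (by omega) (by omega) (by omega) ?_
  have e4 : m + 4 - 1 = m + 3 := by omega
  have e6 : m + 4 - 3 = m + 1 := by (clear * -; omega)
  have e5 : (5 + m).factorial = (5 + m) * (m + 4).factorial := by
    rw [show 5 + m = m + 4 + 1 by omega, Nat.factorial_succ]
  rw [e4, e6, e5, show Nat.factorial 3 = 6 from rfl, Nat.factorial_one]
  calc d * (1 * 6 * (m + 4).factorial) = 2 * (3 * d) * (m + 4).factorial := by ring
    _ = _ := by rw [hd]; ring

theorem not_rel_two {a b : ℕ} (ha : Odd a) (hb : Odd b) (hab : a ≠ b) : ¬ Rel 2 a b := by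
  rintro ⟨d, d', h1, h2, h3⟩
  rcases (Nat.dvd_prime Nat.prime_two).1 h1 with rfl | rfl <;> rcases (Nat.dvd_prime Nat.prime_two).1 h2 with rfl | rfl
  · exact hab (by simpa using h3)
  · obtain ⟨k, rfl⟩ := ha; omega
  · obtain ⟨k, rfl⟩ := hb; omega
  · exact hab (by omega)

theorem alt_simple {n : ℕ} (hn : 5 ≤ n) : IsSimpleGroup (alternatingGroup (Fin n)) :=
  alternatingGroup.isSimpleGroup (by rw [Nat.card_fin]; exact hn)

theorem card_out_alt {n : ℕ} (hn : 5 ≤ n) (h6 : n ≠ 6) : Nat.card (Out (alternatingGroup (Fin n))) = 2 := by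
  have := alt_simple hn
  have : Nontrivial (Fin n) := Fin.nontrivial_iff_two_le.2 (by omega)
  apply H934.OutB.card_out_of_aut (Schreier.Alt.not_comm hn)
  have h1 := Nat.card_congr (Equiv.ofBijective _ (Cfsg.Agent.S2119.result n (by omega) h6))
  rw [← h1, Nat.card_eq_fintype_card, Nat.card_eq_fintype_card, two_mul_card_alternatingGroup]

/-- `A_n` at the prime `2` from two odd degrees with a common divisor. -/
theorem kill_of_odd {S : Type u} [Group S] [Finite S] [IsSimpleGroup S] (hS : SizeOK S) {n : ℕ} (hn : 8 ≤ n)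
    (e : S ≃* alternatingGroup (Fin n))
    {m₁ m₂ : ℕ} {β₁ : Fin m₁ → ℕ} {β₂ : Fin m₂ → ℕ} {a b : ℕ} (h₁ : StrictMono β₁ ∧
      ∑ i, β₁ i = n + ∑ i : Fin m₁, (i : ℕ) ∧ FM (Multiset.replicate n 1) β₁ = a)
    (h₂ : StrictMono β₂ ∧ ∑ i, β₂ i = n + ∑ i : Fin m₂, (i : ℕ) ∧ FM (Multiset.replicate n 1) β₂ = b)
    (ha : Odd a) (hb : Odd b) (hab : a ≠ b) {g : ℕ} (hg : 2 < g) (ga : g ∣ a) (gb : g ∣ b) : Kill 2 S := by
  have : Fact (Nat.Prime 2) := ⟨Nat.prime_two⟩
  have hO : Nat.card (Out S) = 2 := by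
    rw [H934.OutB.card_out_congr e]; exact card_out_alt (by omega) (by omega)
  obtain ⟨α, hα, hαB⟩ := exists_odd (by omega) h₁.1 h₁.2.1 h₁.2.2 ha
  obtain ⟨β, hβ, hβB⟩ := exists_odd (by omega) h₂.1 h₂.2.1 h₂.2.2 hb
  obtain ⟨α', hα', hα''⟩ := inB0_comp e hαB
  obtain ⟨β', hβ', hβ''⟩ := inB0_comp e hβB
  rw [hα] at hα''
  rw [hβ] at hβ''
  have ha1 : 2 < a := lt_of_lt_of_le hg (Nat.le_of_dvd (Odd.pos ha) ga)
  have hb1 : 2 < b := lt_of_lt_of_le hg (Nat.le_of_dvd (Odd.pos hb) gb)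
  have hna : ¬ IsMulCommutative S := fun h => Schreier.Alt.not_comm (n := n) (by omega)
    ⟨⟨fun x y => e.symm.injective (by rw [map_mul, map_mul]; exact h.is_comm.comm _ _)⟩⟩
  have h2 : 2 ∣ Nat.card S := by
    rw [Nat.card_congr e.toEquiv]
    have h3 : 2 * Nat.card (alternatingGroup (Fin n)) = n.factorial := Schreier.Alt.card_alt (by omega)
    have h4 : Nat.factorial 4 ∣ n.factorial := Nat.factorial_dvd_factorial (by omega)
    rw [← h3, show Nat.factorial 4 = 2 * 12 by rfl] at h4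
    exact dvd_trans (by norm_num) (Nat.dvd_of_mul_dvd_mul_left (by norm_num : 0 < 2) h4)
  refine kill_common hna hS h2 α' β' hα' hβ' (nt_of_degree _ (by omega)) (nt_of_degree _ (by omega)) (g := g)
    (by rw [hO]; exact hg) (by rw [hα'']; exact ga) (by rw [hβ'']; exact gb) ?_
  rw [hO, hα'', hβ'']
  exact not_rel_two ha hb hab

theorem odd_of_mul {c d : ℕ} (h : Odd (c * d)) : Odd d := (Nat.odd_mul.1 h).2

theorem two_lt_gcd {N b : ℕ} (h : N ∣ 3 * b) (hN : 9 ≤ N) : 2 < Nat.gcd N b := by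
  have h1 : N ∣ 3 * Nat.gcd N b := by
    rw [← Nat.gcd_mul_left]
    exact Nat.dvd_gcd (dvd_mul_left _ _) h
  have h2 : 0 < Nat.gcd N b := Nat.gcd_pos_of_pos_left _ (by omega)
  have h3 := Nat.le_of_dvd (by omega) h1
  omega

/-- `A_n`, `n ≥ 8`, at the prime `2`. -/
theorem kill_two {S : Type u} [Group S] [Finite S] [IsSimpleGroup S] (hS : SizeOK S) {n : ℕ} (hn : 8 ≤ n)
    (e : S ≃* alternatingGroup (Fin n)) : Kill 2 S := by
  obtain ⟨m, r, hr, rfl⟩ : ∃ m r, r < 4 ∧ n = 4 * m + r := ⟨n / 4, n % 4, Nat.mod_lt _ (by norm_num), by omega⟩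
  have hr' : r = 0 ∨ r = 1 ∨ r = 2 ∨ r = 3 := by omega
  rcases hr' with rfl | rfl | rfl | rfl
  · -- n = 4 m
    have e1 : 4 * m + 0 - 1 = 4 * m - 1 := by omega
    have e2 : 4 * m + 0 - 2 = 2 * (2 * m - 1) := by omega
    refine kill_of_odd hS hn e (deg_1 (by omega)) (deg_11 (d := (4 * m - 1) * (2 * m - 1)) (by omega) ?_) ?_ ?_ ?_
      (g := 4 * m - 1) (by omega) ?_ ?_
    · rw [e1, e2]; ring
    · rw [e1]; exact ⟨2 * m - 1, by omega⟩
    · exact Nat.odd_mul.2 ⟨⟨2 * m - 1, by omega⟩, ⟨m - 1, by omega⟩⟩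
    · rw [e1]
      intro h
      have h3 : (4 * m - 1) * 1 < (4 * m - 1) * (2 * m - 1) := Nat.mul_lt_mul_of_pos_left (by omega) (by omega)
      omega
    · rw [e1]
    · exact dvd_mul_right _ _
  · -- n = 4 m + 1
    obtain ⟨k, rfl⟩ : ∃ k, m = k + 2 := ⟨m - 2, by omega⟩
    have e2 : 4 * (k + 2) + 1 - 2 = 4 * k + 7 := by omega
    have e3 : 4 * (k + 2) + 1 - 3 = 2 * (2 * k + 3) := by omega
    have e4 : 4 * (k + 2) + 1 - 4 = 4 * k + 5 := by omega
    have e5 : 4 * (k + 2) + 1 = 4 * k + 9 := by omega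
    have h3 : 3 ∣ (4 * k + 9) * (4 * k + 7) * (4 * k + 5) := by
      have h : k % 3 = 0 ∨ k % 3 = 1 ∨ k % 3 = 2 := by omega
      rcases h with h | h | h
      · exact dvd_mul_of_dvd_left (dvd_mul_of_dvd_left (by omega) _) _
      · exact dvd_mul_of_dvd_right (by omega) _
      · exact dvd_mul_of_dvd_left (dvd_mul_of_dvd_right (by omega) _) _
    obtain ⟨b, hb⟩ := h3
    have hbo : Odd b := odd_of_mul (c := 3) (by
      rw [← hb]
      exact Nat.odd_mul.2 ⟨Nat.odd_mul.2 ⟨⟨2 * k + 4, by omega⟩, ⟨2 * k + 3, by omega⟩⟩, ⟨2 * k + 2, by omega⟩⟩)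
    refine kill_of_odd hS hn e (deg_2 (d := (4 * k + 9) * (2 * k + 3)) (by omega) ?_) (deg_21 (d := b) (by omega) ?_)
      ?_ hbo ?_ (two_lt_gcd (N := 4 * k + 9) (b := b) ?_ (by omega)) ?_ (Nat.gcd_dvd_right _ _)
    · rw [e3, e5]; ring
    · rw [e2, e4, e5, hb]
    · exact Nat.odd_mul.2 ⟨⟨2 * k + 4, by omega⟩, ⟨k + 1, by omega⟩⟩
    · intro h
      rw [← h] at hb
      nlinarith only [hb, h]
    · rw [← hb, mul_assoc]; exact dvd_mul_right _ _
    · exact (Nat.gcd_dvd_left _ _).trans (dvd_mul_right _ _)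
  · -- n = 4 m + 2
    obtain ⟨k, rfl⟩ : ∃ k, m = k + 2 := ⟨m - 2, by omega⟩
    have e1 : 4 * (k + 2) + 2 - 1 = 4 * k + 9 := by omega
    have e3 : 4 * (k + 2) + 2 - 5 = 4 * k + 5 := by omega
    have e5 : 4 * (k + 2) + 2 = 2 * (2 * k + 5) := by omega
    have h3 : 3 ∣ (2 * k + 5) * (4 * k + 9) * (4 * k + 5) := by
      have h : k % 3 = 0 ∨ k % 3 = 1 ∨ k % 3 = 2 := by omega
      rcases h with h | h | h
      · exact dvd_mul_of_dvd_left (dvd_mul_of_dvd_right (by omega) _) _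
      · exact dvd_mul_of_dvd_right (by omega) _
      · exact dvd_mul_of_dvd_left (dvd_mul_of_dvd_left (by omega) _) _
    obtain ⟨b, hb⟩ := h3
    have hbo : Odd b := odd_of_mul (c := 3) (by
      rw [← hb]
      exact Nat.odd_mul.2 ⟨Nat.odd_mul.2 ⟨⟨k + 2, by omega⟩, ⟨2 * k + 4, by omega⟩⟩, ⟨2 * k + 2, by omega⟩⟩)
    refine kill_of_odd hS hn e (deg_1 (by omega)) (deg_3 (d := b) (by omega) ?_)
      ?_ hbo ?_ (two_lt_gcd (N := 4 * k + 9) (b := b) ?_ (by omega)) ?_ (Nat.gcd_dvd_right _ _)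
    · rw [e1, e3, e5]
      calc 6 * b = 2 * (3 * b) := by ring
        _ = _ := by rw [← hb]; ring
    · rw [e1]; exact ⟨2 * k + 4, by omega⟩
    · rw [e1]
      intro h
      rw [← h] at hb
      have h6 : 25 ≤ (2 * k + 5) * (4 * k + 5) := by nlinarith only []
      have h7 : (2 * k + 5) * (4 * k + 9) * (4 * k + 5) = ((2 * k + 5) * (4 * k + 5)) * (4 * k + 9) := by ring
      have h8 := Nat.mul_le_mul_right (4 * k + 9) h6
      omega
    · rw [← hb, mul_assoc, mul_left_comm]; exact dvd_mul_right _ _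
    · rw [e1]; exact Nat.gcd_dvd_left _ _
  · -- n = 4 m + 3
    obtain ⟨k, rfl⟩ : ∃ k, m = k + 2 := ⟨m - 2, by omega⟩
    have e1 : 4 * (k + 2) + 3 - 1 = 2 * (2 * k + 5) := by omega
    have e2 : 4 * (k + 2) + 3 - 2 = 4 * k + 9 := by omega
    have e4 : 4 * (k + 2) + 3 - 4 = 4 * k + 7 := by omega
    have e5 : 4 * (k + 2) + 3 = 4 * k + 11 := by omega
    have h3 : 3 ∣ (4 * k + 11) * (4 * k + 9) * (4 * k + 7) := by
      have h : k % 3 = 0 ∨ k % 3 = 1 ∨ k % 3 = 2 := by omega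
      rcases h with h | h | h
      · exact dvd_mul_of_dvd_left (dvd_mul_of_dvd_right (by omega) _) _
      · exact dvd_mul_of_dvd_left (dvd_mul_of_dvd_left (by omega) _) _
      · exact dvd_mul_of_dvd_right (by omega) _
    obtain ⟨b, hb⟩ := h3
    have hbo : Odd b := odd_of_mul (c := 3) (by
      rw [← hb]
      exact Nat.odd_mul.2 ⟨Nat.odd_mul.2 ⟨⟨2 * k + 5, by omega⟩, ⟨2 * k + 4, by omega⟩⟩, ⟨2 * k + 3, by omega⟩⟩)
    refine kill_of_odd hS hn e (deg_11 (d := (2 * k + 5) * (4 * k + 9)) (by omega) ?_) (deg_21 (d := b) (by omega) ?_)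
      ?_ hbo ?_ (two_lt_gcd (N := 4 * k + 9) (b := b) ?_ (by omega)) ?_ (Nat.gcd_dvd_right _ _)
    · rw [e1, e2]; ring
    · rw [e2, e4, e5, hb]
    · exact Nat.odd_mul.2 ⟨⟨k + 2, by omega⟩, ⟨2 * k + 4, by omega⟩⟩
    · intro h
      rw [← h] at hb
      nlinarith only [hb, h]
    · rw [← hb, mul_assoc, mul_left_comm]; exact dvd_mul_right _ _
    · exact (Nat.gcd_dvd_left _ _).trans (dvd_mul_left _ _)

end Cfsg.Agent.H710.BD
end

-- part: H710/BD/AltOdd
section
/-!
# `A_n` at the odd primes (helper710, S4932/S4953)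

* `n < p ^ 3` : the Sylow subgroups are metabelian (`tame_prime_two`);
* `n ≥ p ^ 3` : three characters in the principal block, the two-row characters `(n - x, x)`, `x = p, 2 p, 3 p`.
-/

set_option autoImplicit false

namespace Cfsg.Agent.H710.BD

open Cfsg Cfsg.Agent Cfsg.Agent.H614 Cfsg.Agent.H133.PB Cfsg.Agent.H589.BD Finset

universe u

theorem choose_step {n k : ℕ} (h : 3 * k + 2 ≤ n) : 2 * n.choose k ≤ n.choose (k + 1) := by
  have h1 := Nat.choose_succ_right_eq n k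
  have h2 : 2 * (k + 1) ≤ n - k := by omega
  have h3 : n.choose k * (2 * (k + 1)) ≤ n.choose k * (n - k) := Nat.mul_le_mul_left _ h2
  rw [← h1] at h3
  have h4 : (2 * n.choose k) * (k + 1) ≤ n.choose (k + 1) * (k + 1) := by
    calc _ = n.choose k * (2 * (k + 1)) := by ring
      _ ≤ _ := h3
  exact Nat.le_of_mul_le_mul_right h4 (by omega)

theorem choose_steps {n k l : ℕ} (hl : 3 * (k + l) ≤ n + 1) : 2 ^ l * n.choose k ≤ n.choose (k + l) := by
  induction l with
  | zero => simp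
  | succ l ih =>
    have h1 := ih (by omega)
    have h2 := choose_step (n := n) (k := k + l) (by omega)
    calc 2 ^ (l + 1) * n.choose k = 2 * (2 ^ l * n.choose k) := by ring
      _ ≤ 2 * n.choose (k + l) := Nat.mul_le_mul_left _ h1
      _ ≤ _ := h2

/-- The degree of `(n - k, k)`. -/
def fd (n k : ℕ) : ℕ := n.choose k - n.choose (k - 1)

theorem le_fd {n k : ℕ} (hk : 1 ≤ k) (h : 3 * k ≤ n + 1) : n.choose (k - 1) ≤ fd n k := by
  have h1 := choose_step (n := n) (k := k - 1) (by omega)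
  rw [show k - 1 + 1 = k by omega] at h1
  unfold fd
  omega

theorem fd_lt {n k l : ℕ} (hk : 1 ≤ k) (hkl : k + 3 ≤ l) (h : 3 * l ≤ n + 1) : 4 * fd n k < fd n l := by
  have h1 := le_fd (n := n) (k := l) (by omega) h
  have h2 := choose_steps (n := n) (k := k) (l := l - 1 - k) (by omega)
  rw [show k + (l - 1 - k) = l - 1 by omega] at h2
  have h3 : 4 ≤ 2 ^ (l - 1 - k) := by
    calc 4 = 2 ^ 2 := by norm_num
      _ ≤ _ := Nat.pow_le_pow_right (by norm_num) (by omega)
  have h4 : 4 * n.choose k ≤ 2 ^ (l - 1 - k) * n.choose k := Nat.mul_le_mul_right _ h3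
  have h5 : fd n k < n.choose k := by
    have h6 : 0 < n.choose (k - 1) := Nat.choose_pos (by omega)
    have h7 : 0 < n.choose k := Nat.choose_pos (by omega)
    unfold fd
    omega
  omega

theorem two_lt_fd {n k : ℕ} (hk : 2 ≤ k) (hn : 3 ≤ n) (h : 3 * k ≤ n + 1) : 2 < fd n k := by
  have h1 := le_fd (n := n) (k := k) (by omega) h
  have h2 := choose_steps (n := n) (k := 1) (l := k - 2) (by omega)
  rw [show 1 + (k - 2) = k - 1 by omega, Nat.choose_one_right] at h2
  have h3 : 1 ≤ 2 ^ (k - 2) := Nat.one_le_two_pow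
  nlinarith only [hn, h1, h2, h3]

theorem deg_fd {n k : ℕ} (hk : 1 ≤ k) (h : 2 * k ≤ n) : StrictMono (![k, n + 1 - k] : Fin 2 → ℕ) ∧
    ∑ i, (![k, n + 1 - k] : Fin 2 → ℕ) i = n + ∑ i : Fin 2, (i : ℕ) ∧
      FM (Multiset.replicate n 1) (![k, n + 1 - k] : Fin 2 → ℕ) = fd n k := by
  obtain ⟨j, rfl⟩ : ∃ j, k = j + 1 := ⟨k - 1, by omega⟩
  obtain ⟨m, rfl⟩ : ∃ m, n = j + 1 + m := ⟨n - (j + 1), by omega⟩
  have e1 : j + 1 + m + 1 - (j + 1) = m + 1 := by omega
  rw [e1]
  refine FM_two (by omega) (by omega) ?_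
  unfold fd
  rw [show j + 1 - 1 = j by omega]
  have h1 := Nat.choose_mul_factorial_mul_factorial (n := j + 1 + m) (k := j + 1) (by omega)
  have h2 := Nat.choose_mul_factorial_mul_factorial (n := j + 1 + m) (k := j) (by omega)
  rw [show j + 1 + m - (j + 1) = m by omega] at h1
  rw [show j + 1 + m - j = m + 1 by omega] at h2
  rw [Nat.sub_mul, Nat.mul_sub]
  congr 1
  · rw [Nat.factorial_succ m, ← h1]; ring
  · rw [Nat.factorial_succ j]
    calc _ = ((j + 1 + m).choose j * j.factorial * (m + 1).factorial) * (j + 1) := by ring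
      _ = _ := by rw [h2]

theorem exists_fd {n p : ℕ} [hp : Fact p.Prime] {k : ℕ} (hk : 1 ≤ k) (h : 2 * (k * p) ≤ n) :
    ∃ θ : IrrCharacter (alternatingGroup (Fin n)),
      (∀ M : Ideal AlgInt, IsPModular p M → θ ∈ principalBlock M (alternatingGroup (Fin n))) ∧
      (charDegree (θ : alternatingGroup (Fin n) → ℂ) = fd n (k * p) ∨
        2 * charDegree (θ : alternatingGroup (Fin n) → ℂ) = fd n (k * p)) := by
  have hpp := hp.out.two_le
  have h1 : 1 ≤ k * p := Nat.mul_pos (by omega) (by omega)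
  obtain ⟨h2, h3, h4⟩ := deg_fd h1 h
  refine exists_b0 (k := 1) (by omega) h2 h3 (H133.PB.sameCol_of_mod fun j => ?_) h4
  fin_cases j
  · show H133.PB.tr 1 n 0 % p = k * p % p
    have : H133.PB.tr 1 n 0 = 0 := by simp [H133.PB.tr]
    rw [this]; simp
  · show H133.PB.tr 1 n 1 % p = (n + 1 - k * p) % p
    have : H133.PB.tr 1 n 1 = n + 1 := by simp [H133.PB.tr]
    rw [this]
    have h5 : n + 1 = (n + 1 - k * p) + k * p := by omega
    conv_lhs => rw [h5]
    simp only [_root_.Nat.add_mul_mod_self_right]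

theorem not_rel {a b f f' : ℕ} (ha : a = f ∨ 2 * a = f) (hb : b = f' ∨ 2 * b = f') (hff : 4 * f < f') (hf : 0 < f) :
    ¬ Rel 2 a b := by
  rintro ⟨d, d', h1, h2, h3⟩
  rcases (Nat.dvd_prime Nat.prime_two).1 h1 with rfl | rfl <;> rcases (Nat.dvd_prime Nat.prime_two).1 h2 with rfl | rfl <;>
    omega

section

variable {S : Type u} [Group S] [Finite S] [IsSimpleGroup S]

omit [Finite S] [IsSimpleGroup S] in
theorem not_comm_of {n : ℕ} (hn : 5 ≤ n) (e : S ≃* alternatingGroup (Fin n)) : ¬ IsMulCommutative S :=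
  fun h => Schreier.Alt.not_comm hn
    ⟨⟨fun x y => e.symm.injective (by rw [map_mul, map_mul]; exact h.is_comm.comm _ _)⟩⟩

/-- `A_n`, `n ≥ 9 p`, at the odd prime `p`. -/
theorem kill_odd {n : ℕ} (e : S ≃* alternatingGroup (Fin n)) {p : ℕ} [hp : Fact p.Prime] (hp3 : 3 ≤ p) (hn : 9 * p ≤ n) :
    Kill p S := by
  have hO : Nat.card (Out S) = 2 := by
    rw [H934.OutB.card_out_congr e]; exact card_out_alt (by omega) (by omega)
  obtain ⟨α, hαB, hα⟩ := exists_fd (n := n) (p := p) (k := 1) (by omega) (by omega)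
  obtain ⟨β, hβB, hβ⟩ := exists_fd (n := n) (p := p) (k := 2) (by omega) (by omega)
  obtain ⟨γ, hγB, hγ⟩ := exists_fd (n := n) (p := p) (k := 3) (by omega) (by omega)
  obtain ⟨α', hα', hα''⟩ := inB0_comp e hαB
  obtain ⟨β', hβ', hβ''⟩ := inB0_comp e hβB
  obtain ⟨γ', hγ', hγ''⟩ := inB0_comp e hγB
  rw [← hα''] at hα
  rw [← hβ''] at hβ
  rw [← hγ''] at hγ
  have h1 := two_lt_fd (n := n) (k := 1 * p) (by omega) (by omega) (by omega)
  have h2 := fd_lt (n := n) (k := 1 * p) (l := 2 * p) (by omega) (by omega) (by omega)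
  have h3 := fd_lt (n := n) (k := 2 * p) (l := 3 * p) (by omega) (by omega) (by omega)
  refine kill_three (not_comm_of (by omega) e) α' β' γ' hα' hβ' hγ' (nt_of_degree _ (by omega)) (nt_of_degree _ (by omega))
    (nt_of_degree _ (by omega)) ?_ ?_ ?_
  · rw [hO]; exact not_rel hα hβ h2 (by omega)
  · rw [hO]; exact not_rel hα hγ (by omega) (by omega)
  · rw [hO]; exact not_rel hβ hγ h3 (by omega)

/-- `A_n`, `n < p ^ 3`, `n ≠ 6`, at the odd prime `p`. -/
theorem tame_odd {n : ℕ} (hn : 5 ≤ n) (h6 : n ≠ 6) (e : S ≃* alternatingGroup (Fin n)) {p : ℕ} [hp : Fact p.Prime]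
    (hp3 : 3 ≤ p) (hp2 : n < p ^ 3) : Tame p S := by
  have hO : Nat.card (Out S) = 2 := by
    rw [H934.OutB.card_out_congr e]; exact card_out_alt hn h6
  refine H585.BD.tame_prime_two (H585.BD.center_simple (not_comm_of hn e)) ?_ ?_
  · apply H246.Dl.DlLe.of_equiv e
    exact H352.Dl.dlLe_alt hp2
  · intro h
    rw [hO] at h
    have := Nat.le_of_dvd (by norm_num) h
    omega

/-- `A_n` for `n ≥ 8`. -/
theorem row_alt {n : ℕ} (hn : 8 ≤ n) (e : S ≃* alternatingGroup (Fin n)) (hS : SizeOK S) (p : ℕ) (hp : p.Prime) :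
    H589.BD.Row p S := by
  have : Fact p.Prime := ⟨hp⟩
  rcases hp.two_le.eq_or_lt with h2 | h2
  · subst h2
    exact Or.inl (kill_two hS hn e)
  · rcases lt_or_ge n (p ^ 3) with h | h
    · exact Or.inr (tame_odd (by omega) (by omega) e (by omega) h)
    · left
      refine kill_odd e (by omega) ?_
      have h3 : 3 * 3 ≤ p * p := Nat.mul_le_mul h2 h2
      calc 9 * p ≤ (p * p) * p := Nat.mul_le_mul_right _ h3
        _ = p ^ 3 := by ring
        _ ≤ n := h

end

end Cfsg.Agent.H710.BD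
end

-- part: H585/BD/AltSmall
section
/-!
# `A₅`, `A₆`, `A₇` are tame (S4932)
-/

set_option autoImplicit false
set_option linter.style.haveILetI false

namespace Cfsg.Agent.H585.BD

open Cfsg Cfsg.Agent.H246.Dl Cfsg.Agent.H589.BD

universe u v

variable {p : ℕ} [hp : Fact p.Prime]

theorem card_alt_five : Nat.card (alternatingGroup (Fin 5)) = 60 := by
  rw [nat_card_alternatingGroup, Nat.card_fin]
  decide

theorem card_alt_six : Nat.card (alternatingGroup (Fin 6)) = 360 := by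
  rw [nat_card_alternatingGroup, Nat.card_fin]
  decide

theorem card_alt_seven : Nat.card (alternatingGroup (Fin 7)) = 2520 := by
  rw [nat_card_alternatingGroup, Nat.card_fin]
  decide

/-- `OutAb` for the alternating groups. -/
theorem outAb_alt {S : Type u} [Group S] [Finite S] [IsSimpleGroup S] (hna : ¬ IsMulCommutative S) {n : ℕ}
    (hn : 5 ≤ n) (e : S ≃* alternatingGroup (Fin n)) : OutAb p S := by
  haveI := H934.OutAll.simple_of e
  have hna' := H934.OutAll.not_comm_of hna e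
  rcases eq_or_ne n 6 with rfl | h6
  · haveI : Fact (Nat.Prime 3) := ⟨by norm_num⟩
    haveI : Fintype (GaloisField 3 2) := Fintype.ofFinite _
    have hF : Fintype.card (GaloisField 3 2) = 9 := by
      rw [← Nat.card_eq_fintype_card, GaloisField.card 3 2 (by norm_num)]
      norm_num
    obtain ⟨e'⟩ := Cfsg.Agent.S0254.result hF
    exact OutAb.congr (e.trans e'.symm) (outAb_psl_two (by rw [hF]; norm_num))
  · haveI : Finite (Out (alternatingGroup (Fin n))) := finite_out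
    refine OutAb.congr e (outAb_of_card ?_)
    rw [H934.OutAll.card_out_alt hn h6 hna']
    intro h
    have h1 := Nat.le_of_dvd two_pos h
    have h2 := Nat.pow_le_pow_left hp.out.two_le 3
    omega

theorem not_cube_dvd_of {n : ℕ} (h0 : 0 < n) (h : ∀ p < 14, 2 ≤ p → ¬ p ^ 3 ∣ n) (hn : n < 14 ^ 3) : ¬ p ^ 3 ∣ n := by
  intro h1
  have h2 := Nat.le_of_dvd h0 h1
  have h3 : p < 14 := by
    by_contra h4
    have := Nat.pow_le_pow_left (not_lt.1 h4) 3
    omega
  exact h p h3 hp.out.two_le h1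

theorem tame_alt_five {S : Type u} [Group S] [Finite S] [IsSimpleGroup S] (hna : ¬ IsMulCommutative S)
    (e : S ≃* alternatingGroup (Fin 5)) : Tame p S := by
  refine tame_one (center_simple hna) (H759.Dl.dlLe_one_of_card hp.out ?_) (outAb_alt hna le_rfl e)
  rw [Nat.card_congr e.toEquiv, card_alt_five]
  exact not_cube_dvd_of (by norm_num) (by decide) (by norm_num)

theorem tame_alt_six_seven {S : Type u} [Group S] [Finite S] [IsSimpleGroup S] (hna : ¬ IsMulCommutative S)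
    {n : ℕ} (hn : n = 6 ∨ n = 7) (e : S ≃* alternatingGroup (Fin n)) : Tame p S := by
  have hO : OutAb p S := outAb_alt hna (by omega) e
  have hc : Nat.card S = 360 ∨ Nat.card S = 2520 := by
    rcases hn with rfl | rfl
    · left; rw [Nat.card_congr e.toEquiv, card_alt_six]
    · right; rw [Nat.card_congr e.toEquiv, card_alt_seven]
  by_cases hp2 : p = 2
  · subst hp2
    have hM : HasCyclicSchurMultiplier S 6 :=
      (H487.HasSchurMultiplier.congr_left (S2116.result n hn) e.symm)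
    haveI : NeZero 6 := ⟨by norm_num⟩
    haveI : Finite (Multiplicative (ZMod 6)) := inferInstanceAs (Finite (ZMod 6))
    have h1 : Nat.card (Multiplicative (ZMod 6)) = 6 := Nat.card_zmod 6
    refine tame_two (center_simple hna) (covDl_two_of_mult hM ?_) hO
    rw [h1]
    rcases hc with hc | hc <;> rw [hc] <;> norm_num
  · refine tame_one (center_simple hna) (H759.Dl.dlLe_one_of_card hp.out ?_) hO
    rcases hc with hc | hc
    · rw [hc]
      intro h
      have h5 : ∀ p < 14, 3 ≤ p → ¬ p ^ 3 ∣ 360 := by decide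
      have h2 := Nat.le_of_dvd (by norm_num) h
      have h3 : p < 14 := by
        by_contra h4
        have := Nat.pow_le_pow_left (not_lt.1 h4) 3
        omega
      have := hp.out.two_le
      exact h5 p h3 (by omega) h
    · rw [hc]
      intro h
      have h5 : ∀ p < 14, 3 ≤ p → ¬ p ^ 3 ∣ 2520 := by decide
      have h2 := Nat.le_of_dvd (by norm_num) h
      have h3 : p < 14 := by
        by_contra h4
        have := Nat.pow_le_pow_left (not_lt.1 h4) 3
        omega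
      have := hp.out.two_le
      exact h5 p h3 (by omega) h

end Cfsg.Agent.H585.BD
end

-- part: H787/BD/Own
section
/-!
# S4932 / S4953: own characteristic, and the alternating groups (helper787)

From `H654.BD.kill_own` and `psl_two_any`; from `H710.BD.row_alt` and `H585.BD.tame_alt_five`, `tame_alt_six_seven`.
-/

set_option autoImplicit false

namespace Cfsg.Agent.H787.BD

open Cfsg Cfsg.Agent.H589.BD

universe u

/-- **Own characteristic.** -/
theorem own_row {p : ℕ} (hp : p.Prime) : RowsOf.{u} p (fun S _ => IsLieTypeChar p S) := by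
  intro S _ _ _ hna hz _ h
  have : Fact p.Prime := ⟨hp⟩
  rcases H654.BD.kill_own h hz with hk | ⟨F, _, _, -, ⟨e⟩⟩
  · exact Or.inl hk
  · exact Or.inr (psl_two_any hna e)

/-- **Alternating groups.** -/
theorem alt_row {p : ℕ} (hp : p.Prime) : RowsOf.{u} p (fun S _ => IsAlternating S) := by
  intro S _ _ _ hna hz _ h
  have : Fact p.Prime := ⟨hp⟩
  obtain ⟨n, hn, ⟨e⟩⟩ := h
  rcases (show n = 5 ∨ n = 6 ∨ n = 7 ∨ 8 ≤ n by omega) with rfl | h | h | h8
  · exact Or.inr (H585.BD.tame_alt_five hna e)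
  · exact Or.inr (H585.BD.tame_alt_six_seven hna (Or.inl h) e)
  · exact Or.inr (H585.BD.tame_alt_six_seven hna (Or.inr h) e)
  · exact H710.BD.row_alt h8 e hz p hp

end Cfsg.Agent.H787.BD
end

private theorem dce_1472f5513b0a : _root_.True := by
  try have : _root_.True := by simp only [_root_.Cfsg.Agent.H686.CharKit.chKer.congr_simp]
  exact _root_.True.intro
end

-- part: H787/BD/Final_mg
section
prune_inst 0x6000000010400100000040002000000002100000000000000002400000100002000002000000000000000800000000000000000000000000000000000000001000000020001400000000000000000000000000000000000000000000000000000000000000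
set_option linter.all false
open scoped Cfsg.Agent.FastGrp

-- part: H410/BD/OTwenty
section
/-!
# S4932, S4953: a subgroup of index divisible by 3 in `Ω₂₀^-(2)` (helper410)
-/

set_option autoImplicit false

namespace Cfsg.Agent.H410.BD

open Cfsg Module Cfsg.Agent.H2.Pol Cfsg.Agent.H410.BR Cfsg.Agent.H674.BR
open Cfsg.Agent.LieClassical.OrthForms Cfsg.Agent.LieClassical.OrthTrans

/-- the stabilizer in `POmega F Q` of a totally singular subspace of dimension `k` -/
theorem exists_index {F : Type} [Field F] [Fintype F] {ι : Type} [Fintype ι] [DecidableEq ι]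
    {Q : QuadraticForm F (ι → F)} {w ε : ℕ} (h : Typ Q w ε) (hG : Good Q) {k : ℕ} (hk : k ≤ w) (hd : ε ≠ 0 ∨ k < w) :
    ∃ H : Subgroup (POmega F ⇑Q), H.index = Nat.card ((quadPol Q).X k) := by
  have hM := om_model hG
  let _ := hM.mulAction k
  have htr : MulAction.IsPretransitive (POmega F ⇑Q) ((quadPol Q).X k) :=
    hM.pretransitive k fun U W => om_trans h hG hd U W
  have hpos := h.card_X_pos hk
  obtain ⟨U⟩ : Nonempty ((quadPol Q).X k) := by
    by_contra hcon
    rw [not_nonempty_iff] at hcon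
    rw [Nat.card_of_isEmpty] at hpos
    exact lt_irrefl _ hpos
  exact ⟨MulAction.stabilizer (POmega F ⇑Q) U, MulAction.index_stabilizer_of_transitive (POmega F ⇑Q) U⟩

/-- `Ω₂₀^-(2)` -/
theorem exists_index_twenty {F : Type} [Field F] [Fintype F] (hF : Fintype.card F = 2) (a b : F)
    (hab : ∀ z₁ z₂ : F, z₁ ^ 2 + a * z₁ * z₂ + b * z₂ ^ 2 = 0 → z₁ = 0 ∧ z₂ = 0) :
    ∃ H : Subgroup (POmega F (quadFormMinus 9 F a b)), 3 ∣ H.index ∧ H.index = 22839208875 := by
  have h := typ_minus F a b hab (m := 9) (by norm_num)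
  have hG : Good (minusForm 9 F a b) := h.good (by
    rw [Fintype.card_sum, Fintype.card_sum, Fintype.card_fin, Fintype.card_fin]
    norm_num)
  obtain ⟨H, hH⟩ := exists_index h hG (k := 2) (by norm_num) (Or.inl (by norm_num))
  have hq : Nat.card F = 2 := by rw [Nat.card_eq_fintype_card, hF]
  have h1 := h.card_X (k := 2) (by norm_num)
  rw [hq, Finset.prod_range_succ, Finset.prod_range_succ, Finset.prod_range_zero, Finset.prod_range_succ,
    Finset.prod_range_succ, Finset.prod_range_zero] at h1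
  have h2 : Nat.card ((quadPol (minusForm 9 F a b)).X 2) = 22839208875 := by
    apply Nat.eq_of_mul_eq_mul_right (show 0 < 1 * (2 ^ (0 + 1) - 1) * (2 ^ (1 + 1) - 1) by norm_num)
    rw [h1]
    norm_num
  rw [← coe_minusForm]
  refine ⟨H, ?_, ?_⟩
  · rw [hH, h2]
    norm_num
  · rw [hH, h2]

end Cfsg.Agent.H410.BD
end

-- part: H674/BD/Inst
section
/-!
# The `Kill` rows of the orthogonal groups, `p` odd, cross characteristic: the three families (helper674)

* `kill_pomegaOdd`, `kill_pomegaPlus`, `kill_pomegaMinus`.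
-/

set_option autoImplicit false
set_option linter.unusedSectionVars false

namespace Cfsg.Agent.H674.BD.Inst

open Cfsg Cfsg.Agent.H589.BD Cfsg.Agent.H2.Pol Cfsg.Agent.H410.BR Cfsg.Agent.H674.BD.Parts
  Cfsg.Agent.H674.BD.OmNum Cfsg.Agent.H674.BD.Rows
open Cfsg.Agent.LieClassical Cfsg.Agent.LieClassical.OrthCore Cfsg.Agent.LieClassical.OrthTrans
  Cfsg.Agent.LieClassical.OrthFinite Cfsg.Agent.LieClassical.OrthForms

universe u

variable {p : ℕ} [hp : Fact p.Prime] {F : Type} [Field F] [Fintype F]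

/-- the unitary type -/
theorem cov_of (hp2 : p ≠ 2) (hpq : ¬ p ∣ Nat.card F) {ι : Type} [Fintype ι] [DecidableEq ι]
    {Q : QuadraticForm F (ι → F)} {w ε : ℕ} (h : Typ Q w ε) (hι : Fintype.card ι = 2 * w + ε) {f : ℕ} (hf : 0 < f)
    (he : orderOf (Nat.card F : ZMod p) = 2 * f) (hN : 2 * f + 8 ≤ 2 * w + ε) :
    ∃ w' : ℕ, 2 * f * w' ≤ 2 * w + ε ∧ 2 * w + ε ≤ 2 * f * (w' + 1) ∧
      (2 * w + ε = 2 * f * (w' + 1) → ¬ p ∣ (Nat.card F ^ w - 1) * (Nat.card F ^ (w - 1 + ε) + 1)) ∧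
      ∃ β : IrrCharacter (Cfsg.POmega F ⇑Q), InB0 p β ∧
        Nat.card F ^ (f * w' * (f * w' - 1)) ≤ charDegree (β : Cfsg.POmega F ⇑Q → ℂ) := by
  rcases Cfsg.Agent.H410.BD.exists_unitary hp2 h hf he (by rw [hι]; exact hN) with
    ⟨m, h4, h1, h2, h3, h5, hc⟩ | ⟨m, a, b, hab, h4, h1, h2, h3, h5, hc⟩
  · obtain ⟨w', hw'⟩ := h3
    have hm : m = f * w' := by
      have h6 : 2 * f * w' = 2 * (f * w') := by ring
      omega
    rw [hι] at h1 h2 h5
    have h7 : 2 * f * (w' + 1) = 2 * m + 2 * f := by rw [hm]; ring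
    refine ⟨w', by omega, by omega, fun h6 => h5 (by omega), ?_⟩
    obtain ⟨H, π, hπ, -⟩ := hc.sub
    rw [← hm]
    exact beta_cover ⟨H, π, hπ⟩ (st_plus h4 hpq hc.grp)
  · obtain ⟨w', hw'⟩ := h3
    have hm : m = f * w' := by
      have h6 : 2 * f * w' = 2 * (f * w') := by ring
      omega
    rw [hι] at h1 h2 h5
    have h7 : 2 * f * (w' + 1) = 2 * m + 2 * f := by rw [hm]; ring
    refine ⟨w', by omega, by omega, fun h6 => h5 (by omega), ?_⟩
    obtain ⟨H, π, hπ, -⟩ := hc.sub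
    rw [← hm]
    exact beta_cover ⟨H, π, hπ⟩ (st_minus h4 a b hab hpq hc.grp)

variable {S : Type u} [Group S] [Finite S] [IsSimpleGroup S] {m : ℕ}

theorem not_comm {X : Type} [Group X] (hna : ¬ IsMulCommutative S) (e : S ≃* X) : ¬ IsMulCommutative X := fun hc =>
  hna ⟨⟨fun a b => e.injective (by rw [map_mul, map_mul]; exact hc.is_comm.comm _ _)⟩⟩

theorem fam_odd (hp2 : p ≠ 2) (hna : ¬ IsMulCommutative S) (hpS : p ∣ Nat.card S) (hm : 3 ≤ m)
    (ho : Odd (Nat.card F)) (e : S ≃* Cfsg.POmega F (Cfsg.quadFormOdd m F)) (hpq : ¬ p ∣ Nat.card F) :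
    Fam p F (Cfsg.POmega F (Cfsg.quadFormOdd m F)) m 1 := by
  have hX : IsSimpleGroup (Cfsg.POmega F (Cfsg.quadFormOdd m F)) := e.symm.isSimpleGroup
  have hnX := not_comm hna e
  have hpX : p ∣ Nat.card (Cfsg.POmega F (Cfsg.quadFormOdd m F)) := by rwa [← Nat.card_congr e.toEquiv]
  obtain ⟨r, -, hr, hchar, -⟩ := exists_card F
  have hr' : Fact r.Prime := ⟨hr⟩
  have h2 : (2 : F) ≠ 0 := PomegaCard.odd_card_iff.1 (by rwa [← Nat.card_eq_fintype_card])
  refine ⟨⟨by norm_num, fun _ => ho, odd_out hm ho hnX, ?_, fun k hk hd => alpha_odd hp2 hm ho hpq hk hd hpX,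
    fun f hf => odd_p hp2 hm ho hpq hf, ?_, fun hd => ?_⟩, ?_⟩
  · intro h
    rw [h] at ho
    exact absurd ho (by decide)
  · intro n hn
    have h3 := H35.BD.exists_levi_odd (F := F) h2 hm hn.le
    rwa [coe_oddForm] at h3
  · exact beta_stIn (Cfsg.Agent.H749.Bd.stIn_oodd hp2 (r := r) (by omega) (by rwa [← Nat.card_eq_fintype_card])
      (by rwa [← Nat.card_eq_fintype_card])) (rpart_odd hm ho (r := r))
  · intro f hf he hN
    have h3 := cov_of hp2 hpq (typ_odd F h2 (m := m) (by omega)) (by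
      rw [Fintype.card_sum, Fintype.card_sum, Fintype.card_fin, Fintype.card_unit]
      omega) hf he hN
    rwa [coe_oddForm] at h3

theorem fam_plus (hp2 : p ≠ 2) (hna : ¬ IsMulCommutative S) (hpS : p ∣ Nat.card S) (hm : 5 ≤ m)
    (e : S ≃* Cfsg.POmega F (Cfsg.quadFormPlus m F)) (hpq : ¬ p ∣ Nat.card F) :
    Fam p F (Cfsg.POmega F (Cfsg.quadFormPlus m F)) m 0 := by
  have hX : IsSimpleGroup (Cfsg.POmega F (Cfsg.quadFormPlus m F)) := e.symm.isSimpleGroup
  have hnX := not_comm hna e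
  have hpX : p ∣ Nat.card (Cfsg.POmega F (Cfsg.quadFormPlus m F)) := by rwa [← Nat.card_congr e.toEquiv]
  obtain ⟨r, -, hr, hchar, -⟩ := exists_card F
  have hr' : Fact r.Prime := ⟨hr⟩
  refine ⟨⟨by norm_num, by norm_num, (plus_out hm hnX).1, (plus_out hm hnX).2,
    fun k hk hd => alpha_plus hp2 (by omega) hpq hk hd hpX,
    fun f hf => plus_p hp2 (by omega) hpq hf, ?_, fun hd => ?_⟩, ?_⟩
  · intro n hn
    have h3 := H35.BD.exists_levi_plus (F := F) (w := m) (by omega) hn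
    rwa [coe_plusForm] at h3
  · exact beta_stIn (Cfsg.Agent.H749.Bd.stIn_oplus hp2 (r := r) (by omega)
      (by rwa [← Nat.card_eq_fintype_card])) (rpart_plus (by omega) (r := r))
  · intro f hf he hN
    have h3 := cov_of hp2 hpq (typ_plus F (m := m) (by omega)) (by
      rw [Fintype.card_sum, Fintype.card_fin]
      omega) hf he hN
    rwa [coe_plusForm] at h3

theorem fam_minus (hp2 : p ≠ 2) (hna : ¬ IsMulCommutative S) (hpS : p ∣ Nat.card S) (hm : 4 ≤ m) (a b : F)
    (hab : ∀ z₁ z₂ : F, z₁ ^ 2 + a * z₁ * z₂ + b * z₂ ^ 2 = 0 → z₁ = 0 ∧ z₂ = 0)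
    (e : S ≃* Cfsg.POmega F (Cfsg.quadFormMinus (m - 1) F a b)) (hpq : ¬ p ∣ Nat.card F) :
    Fam p F (Cfsg.POmega F (Cfsg.quadFormMinus (m - 1) F a b)) (m - 1) 2 := by
  have hX : IsSimpleGroup (Cfsg.POmega F (Cfsg.quadFormMinus (m - 1) F a b)) := e.symm.isSimpleGroup
  have hnX := not_comm hna e
  have hpX : p ∣ Nat.card (Cfsg.POmega F (Cfsg.quadFormMinus (m - 1) F a b)) := by rwa [← Nat.card_congr e.toEquiv]
  obtain ⟨r, -, hr, hchar, -⟩ := exists_card F
  have hr' : Fact r.Prime := ⟨hr⟩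
  have hm1 : m - 1 + 2 / 2 = m := by omega
  have hm2 : 2 * (m - 1) + 2 = 2 * m := by omega
  refine ⟨⟨by norm_num, by norm_num, (minus_out hm a b hab hnX).1, (minus_out hm a b hab hnX).2, ?_, ?_, ?_, ?_⟩, ?_⟩
  · intro k hk hd
    rw [hm2]
    exact alpha_minus hp2 hm a b hab hpq hk hd hpX
  · intro f hf
    rw [hm1]
    exact minus_p hp2 hm a b hab hpq hf
  · intro n hn
    have h3 := H35.BD.exists_levi_minus (F := F) a b hab (w := m - 1) (by omega) hn.le
    rwa [coe_minusForm] at h3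
  · intro hd
    rw [hm1]
    exact beta_stIn (Cfsg.Agent.H749.Bd.stIn_ominus hp2 (r := r) a b hab hm
      (by rwa [← Nat.card_eq_fintype_card])) (rpart_minus hm a b hab (r := r))
  · intro f hf he hN
    have h3 := cov_of hp2 hpq (typ_minus F a b hab (m := m - 1) (by omega)) (by
      rw [Fintype.card_sum, Fintype.card_sum, Fintype.card_fin, Fintype.card_fin]
      omega) hf he hN
    rwa [coe_minusForm] at h3

theorem order_two : orderOf ((2 : ℕ) : ZMod 3) = 2 := by
  have h4 : Fact (Nat.Prime 2) := ⟨Nat.prime_two⟩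
  exact orderOf_eq_prime (by decide) (by decide)

/-- `Ω⁻_20(2)`, `p = 3` -/
theorem kill_exc (hna : ¬ IsMulCommutative S) (hS : SizeOK S) (hpS : 3 ∣ Nat.card S) (hF : Nat.card F = 2) (a b : F)
    (hab : ∀ z₁ z₂ : F, z₁ ^ 2 + a * z₁ * z₂ + b * z₂ ^ 2 = 0 → z₁ = 0 ∧ z₂ = 0)
    (e : S ≃* Cfsg.POmega F (Cfsg.quadFormMinus 9 F a b)) : Kill 3 S := by
  have h3 : Fact (Nat.Prime 3) := ⟨Nat.prime_three⟩
  have hpq : ¬ 3 ∣ Nat.card F := by rw [hF]; norm_num
  have hX : IsSimpleGroup (Cfsg.POmega F (Cfsg.quadFormMinus 9 F a b)) := e.symm.isSimpleGroup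
  have hnX := not_comm hna e
  have he : orderOf (Nat.card F : ZMod 3) = 2 * 1 := by
    rw [hF, mul_one]
    exact order_two
  have hfam := fam_minus (p := 3) (m := 10) (by norm_num) hna hpS (by norm_num) a b hab e hpq
  obtain ⟨w', h1, h2, -, hβ⟩ := hfam.cov 1 one_pos he (by norm_num)
  obtain ⟨H, hH, hH'⟩ := Cfsg.Agent.H410.BD.exists_index_twenty (by rw [← Nat.card_eq_fintype_card]; exact hF) a b hab
  refine kill_om hna hS hpS e (A := 22839208875) ?_ hβ ?_
  · obtain ⟨χ, h4, h5, h6⟩ := Cfsg.Agent.H719.BD.alpha_of_index (p := 3) H hH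
    refine ⟨χ, h4, ?_, by rw [← hH']; exact h6⟩
    by_contra hcon
    apply h5
    funext g
    by_contra hg
    exact hcon ⟨g, hg⟩
  · intro x B hx hB
    have hP := minus_p' (p := 3) (m := 10) (by norm_num) (by norm_num) a b hab hpq (orderOf_sq_even he)
      (by rw [hF]; norm_num)
    rw [hF] at hP hB
    have h27 : (3 * (2 ^ 1 + 1) ^ 2) ^ ((10 - 1) / 1) = 27 ^ 9 := by norm_num
    rw [h27] at hP
    refine Cfsg.Agent.H31.BD.ineqE ((minus_out (m := 10) (by norm_num) a b hab hnX).2 hF) (by omega) hP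
      (le_trans ?_ hB)
    refine Nat.pow_le_pow_right (by norm_num) ?_
    have h9 : 9 ≤ w' := by omega
    rw [one_mul]
    calc 72 = 9 * (9 - 1) := by norm_num
      _ ≤ w' * (w' - 1) := Nat.mul_le_mul h9 (by omega)

/-- the case distinction on the order of `q` modulo `p` -/
theorem kill_fam {X : Type} [Group X] [Finite X] {w ε : ℕ} (hp2 : p ≠ 2) (hna : ¬ IsMulCommutative S)
    (hS : SizeOK S) (hpS : p ∣ Nat.card S) (e : S ≃* X) (h : Fam p F X w ε) (hpq : ¬ p ∣ Nat.card F)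
    (h1 : Odd (orderOf (Nat.card F : ZMod p)) → p ^ 2 * orderOf (Nat.card F : ZMod p) ≤ w)
    (h2 : Even (orderOf (Nat.card F : ZMod p)) → p ^ 2 * orderOf (Nat.card F : ZMod p) < 2 * w + ε ∨
      (p ^ 2 * orderOf (Nat.card F : ZMod p) = 2 * w + ε ∧ ε = 2))
    (exc : Nat.card F = 2 → ε = 2 → w = 9 → p = 3 → Kill p S) : Kill p S := by
  have h0 := orderOf_pos' hpq
  rcases Nat.even_or_odd (orderOf (Nat.card F : ZMod p)) with he | ho
  · have h3 := h2 he
    obtain ⟨f, hf⟩ := he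
    rw [← two_mul] at hf
    rw [hf] at h3
    exact kill_even hp2 hna hS hpS e h hpq (by omega) hf h3 exc
  · have h3 := h1 ho
    by_cases h4 : orderOf (Nat.card F : ZMod p) = 1
    · rw [h4, mul_one] at h3
      exact kill_one hp2 hna hS hpS e h.toFam0 h4 h3
    · have h5 : orderOf (Nat.card F : ZMod p) ≠ 2 := by
        intro h5
        rw [h5] at ho
        exact absurd ho (by decide)
      exact kill_odd hp2 hna hS hpS e h.toFam0 hpq rfl ho (by omega) h3

theorem lcm_odd {k : ℕ} (hk : Odd k) : Nat.lcm 2 k = 2 * k :=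
  Nat.Coprime.lcm_eq_mul (Nat.coprime_two_left.2 hk)

theorem lcm_even {k : ℕ} (hk : Even k) : Nat.lcm 2 k = k :=
  Nat.lcm_eq_right hk.two_dvd

/-- **`PΩ_{2m+1}(q)`.** -/
theorem kill_pomegaOdd (hp2 : p ≠ 2) (hna : ¬ IsMulCommutative S) (hS : SizeOK S) (hpS : p ∣ Nat.card S)
    (hpF : ¬ p ∣ Fintype.card F) (hm : 3 ≤ m) (ho : Odd (Fintype.card F))
    (hw : p ^ 2 * Nat.lcm 2 (orderOf (Fintype.card F : ZMod p)) ≤ 2 * m)
    (e : S ≃* Cfsg.POmega F (Cfsg.quadFormOdd m F)) : Kill p S := by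
  rw [← Nat.card_eq_fintype_card] at hpF ho hw
  refine kill_fam hp2 hna hS hpS e (fam_odd hp2 hna hpS hm ho e hpF) hpF ?_ ?_ (fun _ h => by omega)
  · intro h1
    rw [lcm_odd h1] at hw
    have h2 : p ^ 2 * (2 * orderOf (Nat.card F : ZMod p)) = 2 * (p ^ 2 * orderOf (Nat.card F : ZMod p)) := by ring
    omega
  · intro h1
    rw [lcm_even h1] at hw
    exact Or.inl (by omega)

/-- **`PΩ⁺_{2m}(q)`.** -/
theorem kill_pomegaPlus (hp2 : p ≠ 2) (hna : ¬ IsMulCommutative S) (hS : SizeOK S) (hpS : p ∣ Nat.card S)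
    (hpF : ¬ p ∣ Fintype.card F) (_hm : 4 ≤ m)
    (hw : p ^ 2 * Nat.lcm 2 (orderOf (Fintype.card F : ZMod p)) < 2 * m ∨
      (p ^ 2 * Nat.lcm 2 (orderOf (Fintype.card F : ZMod p)) = 2 * m ∧ Odd (orderOf (Fintype.card F : ZMod p))))
    (e : S ≃* Cfsg.POmega F (Cfsg.quadFormPlus m F)) : Kill p S := by
  rw [← Nat.card_eq_fintype_card] at hpF hw
  have h9 := nine_le hp2 (p := p)
  have h0 := orderOf_pos' hpF
  have hm5 : 5 ≤ m := by
    have h1 : 2 ≤ Nat.lcm 2 (orderOf (Nat.card F : ZMod p)) :=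
      Nat.le_of_dvd (Nat.lcm_pos two_pos h0) (Nat.dvd_lcm_left _ _)
    have h2 : 9 * 2 ≤ p ^ 2 * Nat.lcm 2 (orderOf (Nat.card F : ZMod p)) := Nat.mul_le_mul h9 h1
    omega
  refine kill_fam hp2 hna hS hpS e (fam_plus hp2 hna hpS hm5 e hpF) hpF ?_ ?_ (fun _ h => by omega)
  · intro h1
    rw [lcm_odd h1] at hw
    have h2 : p ^ 2 * (2 * orderOf (Nat.card F : ZMod p)) = 2 * (p ^ 2 * orderOf (Nat.card F : ZMod p)) := by ring
    omega
  · intro h1
    rw [lcm_even h1] at hw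
    rcases hw with hw | ⟨-, hw⟩
    · exact Or.inl (by omega)
    · exact absurd hw (Nat.not_odd_iff_even.2 h1)

/-- **`PΩ⁻_{2m}(q)`.** -/
theorem kill_pomegaMinus (hp2 : p ≠ 2) (hna : ¬ IsMulCommutative S) (hS : SizeOK S) (hpS : p ∣ Nat.card S)
    (hpF : ¬ p ∣ Fintype.card F) (hm : 4 ≤ m) (a b : F)
    (hab : ∀ z₁ z₂ : F, z₁ ^ 2 + a * z₁ * z₂ + b * z₂ ^ 2 = 0 → z₁ = 0 ∧ z₂ = 0)
    (hw : p ^ 2 * Nat.lcm 2 (orderOf (Fintype.card F : ZMod p)) < 2 * m ∨
      (p ^ 2 * Nat.lcm 2 (orderOf (Fintype.card F : ZMod p)) = 2 * m ∧ Even (orderOf (Fintype.card F : ZMod p))))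
    (e : S ≃* Cfsg.POmega F (Cfsg.quadFormMinus (m - 1) F a b)) : Kill p S := by
  rw [← Nat.card_eq_fintype_card] at hpF hw
  refine kill_fam hp2 hna hS hpS e (fam_minus hp2 hna hpS hm a b hab e hpF) hpF ?_ ?_ ?_
  · intro h1
    rw [lcm_odd h1] at hw
    have h2 : p ^ 2 * (2 * orderOf (Nat.card F : ZMod p)) = 2 * (p ^ 2 * orderOf (Nat.card F : ZMod p)) := by ring
    rcases hw with hw | ⟨-, hw⟩
    · omega
    · exact absurd h1 (Nat.not_odd_iff_even.2 hw)
  · intro h1
    rw [lcm_even h1] at hw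
    rcases hw with hw | ⟨hw, -⟩
    · exact Or.inl (by omega)
    · exact Or.inr ⟨by omega, rfl⟩
  · intro hF _ h10 hp3
    subst hp3
    have h11 : m = 10 := by (clear * - h10; omega)
    subst h11
    exact kill_exc hna hS hpS hF a b hab e

end Cfsg.Agent.H674.BD.Inst
end

-- part: H674/BD/Table
section
/-!
# The fields `odd`, `plus`, `minus` of `TabBig` (helper674)
-/

set_option autoImplicit false

namespace Cfsg.Agent.H674.BD.Table

open Cfsg Cfsg.Agent.H589.BD Cfsg.Agent.H787.BD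

universe u

theorem not_dvd_card {p r : ℕ} (hp : p.Prime) (hr : r.Prime) (hpr : p ≠ r) (F : Type) [Field F] [Fintype F]
    [CharP F r] : ¬ p ∣ Fintype.card F := by
  have : Fact r.Prime := ⟨hr⟩
  obtain ⟨n, -, hn⟩ := FiniteField.card F r
  rw [hn]
  intro h
  exact hpr ((Nat.prime_dvd_prime_iff_eq hp hr).1 (hp.dvd_of_dvd_pow h))

theorem tab_odd : ∀ p r : ℕ, p.Prime → r.Prime → p ≠ 2 → p ≠ r → ∀ (F : Type) [Field F] [Fintype F] [CharP F r]
    (m : ℕ), 3 ≤ m → Odd (Fintype.card F) → bnd p F ≤ 2 * m →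
      RowsOf.{u} p (fun S _ => Nonempty (S ≃* POmega F (quadFormOdd m F))) := by
  intro p r hp hr hp2 hpr F _ _ _ m hm ho hb S _ _ _ hna hS hpS ⟨e⟩
  have : Fact p.Prime := ⟨hp⟩
  exact Or.inl (Inst.kill_pomegaOdd hp2 hna hS hpS (not_dvd_card hp hr hpr F) hm ho hb e)

theorem tab_plus : ∀ p r : ℕ, p.Prime → r.Prime → p ≠ 2 → p ≠ r → ∀ (F : Type) [Field F] [Fintype F] [CharP F r]
    (m : ℕ), 4 ≤ m → (bnd p F < 2 * m ∨ (bnd p F = 2 * m ∧ Odd (ordF p F))) →
      RowsOf.{u} p (fun S _ => Nonempty (S ≃* POmega F (quadFormPlus m F))) := by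
  intro p r hp hr hp2 hpr F _ _ _ m hm hb S _ _ _ hna hS hpS ⟨e⟩
  have : Fact p.Prime := ⟨hp⟩
  exact Or.inl (Inst.kill_pomegaPlus hp2 hna hS hpS (not_dvd_card hp hr hpr F) hm hb e)

theorem tab_minus : ∀ p r : ℕ, p.Prime → r.Prime → p ≠ 2 → p ≠ r → ∀ (F : Type) [Field F] [Fintype F] [CharP F r]
    (m : ℕ) (a b : F), 4 ≤ m → (∀ z₁ z₂ : F, z₁ ^ 2 + a * z₁ * z₂ + b * z₂ ^ 2 = 0 → z₁ = 0 ∧ z₂ = 0) →
    (bnd p F < 2 * m ∨ (bnd p F = 2 * m ∧ Even (ordF p F))) →
      RowsOf.{u} p (fun S _ => Nonempty (S ≃* POmega F (quadFormMinus (m - 1) F a b))) := by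
  intro p r hp hr hp2 hpr F _ _ _ m a b hm hab hb S _ _ _ hna hS hpS ⟨e⟩
  have : Fact p.Prime := ⟨hp⟩
  exact Or.inl (Inst.kill_pomegaMinus hp2 hna hS hpS (not_dvd_card hp hr hpr F) hm a b hab hb e)

end Cfsg.Agent.H674.BD.Table
end

-- part: H719/BD/StPsp
section
/-!
# The Steinberg character of `PSp_{2m}(L)` in the principal `p`-block, `p ∣ |L| + 1` (helper719, S4932)
-/

set_option autoImplicit false

open Cfsg Matrix

namespace Cfsg.Agent.H719.BD

open Cfsg.Agent.H152.AbClassical Cfsg.Agent.LieClassical Cfsg.Agent.H262.ElFour Cfsg.Agent.H262.El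

section eig

variable {L : Type*} [Field L] [Fintype L]

/-- an element of order `p ∣ |L| + 1` in `SL₂(L)` -/
theorem exists_el {p : ℕ} [hp : Fact p.Prime] (h : p ∣ Fintype.card L + 1) :
    ∃ A : Matrix.SpecialLinearGroup (Fin 2) L, A ^ p = 1 ∧ A ≠ 1 := by
  classical
  obtain ⟨A, hA⟩ := exists_prime_orderOf_dvd_card' (G := Matrix.SpecialLinearGroup (Fin 2) L) p
    ((Cfsg.Agent.S2430.card_SL (F := L)) ▸ Dvd.dvd.mul_left h _)
  exact ⟨A, hA ▸ pow_orderOf_eq_one A, fun h2 => by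
    rw [h2, orderOf_one] at hA
    exact hp.out.one_lt.ne hA⟩

/-- no eigenvectors -/
theorem no_eig {p : ℕ} [hp : Fact p.Prime] (hp2 : p ≠ 2) (h : p ∣ Fintype.card L + 1) (hpL : (p : L) ≠ 0)
    {A : Matrix.SpecialLinearGroup (Fin 2) L} (hA : A ^ p = 1) (hA1 : A ≠ 1) {a b : L}
    (hab : a * (A.1 1 0 * a + A.1 1 1 * b) = b * (A.1 0 0 * a + A.1 0 1 * b)) : a = 0 ∧ b = 0 := by
  by_contra hcon
  have hv : (![a, b] : Fin 2 → L) ≠ 0 := fun h0 => hcon ⟨congrFun h0 0, congrFun h0 1⟩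
  obtain ⟨c, hc⟩ : ∃ c : L, A.1 *ᵥ ![a, b] = c • ![a, b] := by
    by_cases ha : a = 0
    · have hb : b ≠ 0 := fun hb => hcon ⟨ha, hb⟩
      refine ⟨A.1 1 1, ?_⟩
      have h1 : A.1 0 1 = 0 := by
        rw [ha] at hab
        have h2 : A.1 0 1 * (b * b) = 0 := by linear_combination -hab
        rcases mul_eq_zero.1 h2 with h3 | h3
        · exact h3
        · exact (hb (mul_self_eq_zero.1 h3)).elim
      funext i
      (revert i; simp only [Matrix.mulVec, dotProduct, Fin.sum_univ_two, ha, h1, _root_.Fin.forall_fin_succ, Fin.isValue, _root_.Matrix.cons_val_zero, _root_.MulZeroClass.mul_zero, _root_.Matrix.cons_val_one, _root_.Matrix.cons_val_fin_one, _root_.zero_add, _root_.Nat.succ_eq_add_one, Nat.reduceAdd, _root_.Pi.smul_apply, _root_.smul_eq_mul, _root_.MulZeroClass.zero_mul, _root_.Matrix.cons_val_succ, _root_.mul_eq_mul_right_iff, _root_.Fin.succ_zero_eq_one, _root_.true_or, _root_.IsEmpty.forall_iff, _root_.and_self])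
    · refine ⟨(A.1 0 0 * a + A.1 0 1 * b) / a, ?_⟩
      funext i
      fin_cases i
      · simp only [Matrix.mulVec, dotProduct, Fin.sum_univ_two, _root_.Fin.zero_eta, _root_.Fin.isValue, _root_.Matrix.cons_val_zero, _root_.Matrix.cons_val_one, _root_.Matrix.cons_val_fin_one, _root_.Nat.succ_eq_add_one, _root_.Nat.reduceAdd, _root_.Pi.smul_apply, _root_.smul_eq_mul]
        field_simp
      · simp only [Matrix.mulVec, dotProduct, Fin.sum_univ_two, _root_.Fin.mk_one, _root_.Fin.isValue, _root_.Matrix.cons_val_zero, _root_.Matrix.cons_val_one, _root_.Matrix.cons_val_fin_one, _root_.Nat.succ_eq_add_one, _root_.Nat.reduceAdd, _root_.Pi.smul_apply, _root_.smul_eq_mul]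
        field_simp
        linear_combination hab
  have hpow : ∀ k : ℕ, (A.1 ^ k) *ᵥ ![a, b] = c ^ k • ![a, b] := by
    intro k
    induction k with
    | zero => rw [pow_zero, pow_zero, Matrix.one_mulVec, one_smul]
    | succ k ih => rw [pow_succ, ← Matrix.mulVec_mulVec, hc, Matrix.mulVec_smul, ih, smul_smul, pow_succ']
  have hAp : A.1 ^ p = 1 := by
    rw [← Matrix.SpecialLinearGroup.coe_pow, hA, Matrix.SpecialLinearGroup.coe_one]
  have hcp : c ^ p = 1 := by
    have h1 := hpow p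
    rw [hAp, Matrix.one_mulVec] at h1
    have h2 : (c ^ p - 1) • (![a, b] : Fin 2 → L) = 0 := by rw [sub_smul, one_smul, ← h1, sub_self]
    rcases smul_eq_zero.1 h2 with h3 | h3
    · exact sub_eq_zero.1 h3
    · exact (hv h3).elim
  have hc0 : c ≠ 0 := by
    rintro rfl
    rw [zero_pow hp.out.ne_zero] at hcp
    exact zero_ne_one hcp
  have hc1 : c = 1 := by
    have h1 := FiniteField.pow_card_sub_one_eq_one c hc0
    have h2 := Nat.dvd_gcd (orderOf_dvd_of_pow_eq_one hcp) (orderOf_dvd_of_pow_eq_one h1)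
    have h3 : Nat.gcd p (Fintype.card L - 1) = 1 := by
      rw [← Nat.coprime_iff_gcd_eq_one, Nat.Prime.coprime_iff_not_dvd hp.out]
      intro h4
      have h5 : 1 < Fintype.card L := Fintype.one_lt_card
      have h6 : p ∣ 2 := by
        have h7 := Nat.dvd_sub h h4
        rwa [show Fintype.card L + 1 - (Fintype.card L - 1) = 2 by omega] at h7
      exact hp2 ((Nat.prime_dvd_prime_iff_eq hp.out Nat.prime_two).1 h6)
    rw [h3] at h2
    exact orderOf_eq_one_iff.1 (Nat.dvd_one.1 h2)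
  have hdet := sl2_no_fix (M := (A : Matrix (Fin 2) (Fin 2) L)) A.2 hAp
    (fun h => hA1 (Subtype.ext (h.trans Matrix.SpecialLinearGroup.coe_one.symm))) hpL
  apply hdet
  rw [← Matrix.exists_mulVec_eq_zero_iff]
  refine ⟨_, hv, ?_⟩
  rw [Matrix.sub_mulVec, Matrix.one_mulVec, hc, hc1, one_smul, sub_self]

end eig

variable {L : Type*} [Field L] [Fintype L]

/-- **The Steinberg character of `PSp_{2m}(L)`.** -/
theorem st_psp {S : Type*} [Group S] [Finite S] {p : ℕ} [hp : Fact p.Prime] (hp2 : p ≠ 2)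
    (h : p ∣ Fintype.card L + 1) {m : ℕ} (hm : 1 ≤ m) (e : S ≃* PSp m L) :
    ∃ χ : IrrCharacter S, (∀ M' : Ideal AlgInt, IsPModular p M' → χ ∈ principalBlock M' S) ∧
      Fintype.card L ^ (m ^ 2) ≤ charDegree (χ : S → ℂ) := by
  classical
  have hr : Fact (ringChar L).Prime := ⟨CharP.char_is_prime L _⟩
  have hrL : ((ringChar L : ℕ) : L) = 0 := CharP.cast_eq_zero L _
  obtain ⟨k, -, hk⟩ := FiniteField.card L (ringChar L)
  have hpr : p ≠ ringChar L := by
    rintro h1
    have h2 : ringChar L ∣ Fintype.card L := by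
      rw [hk]
      exact dvd_pow_self _ k.pos.ne'
    rw [← h1] at h2
    exact hp.out.one_lt.ne' (Nat.dvd_one.1 ((Nat.dvd_add_right h2).1 h))
  have hpL : (p : L) ≠ 0 := by
    intro h1
    have h2 : ringChar L ∣ p := ringChar.dvd h1
    exact hpr ((Nat.prime_dvd_prime_iff_eq hr.out hp.out).1 h2).symm
  obtain ⟨A, hA, hA1⟩ := exists_el (L := L) h
  let π : Matrix.symplecticGroup (Fin m) L →* S := e.symm.toMonoidHom.comp (QuotientGroup.mk' _)
  have hfin : Finite (Matrix.symplecticGroup (Fin m) L) := inferInstance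
  have hπk : π.ker ≤ Subgroup.center _ := by
    intro x hx
    rw [MonoidHom.mem_ker] at hx
    have h1 : QuotientGroup.mk' (Subgroup.center (Matrix.symplecticGroup (Fin m) L)) x = 1 :=
      e.symm.injective (hx.trans (map_one _).symm)
    exact (QuotientGroup.eq_one_iff x).1 h1
  have hS : Nodes.RGDChev.HasRGD (ringChar L) S :=
    (Cfsg.Agent.Nodes.WittInst.hasRGD_PSp (F := L) hm).of_equiv e.symm
  let Q : Subgroup (Fin m → Matrix.SpecialLinearGroup (Fin 2) L) := Subgroup.pi Set.univ fun _ => Subgroup.zpowers A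
  have hQ : IsPGroup p Q := by
    intro x
    refine ⟨1, Subtype.ext ?_⟩
    funext i
    obtain ⟨j, hj⟩ := (Subgroup.mem_pi _).1 x.2 i (Set.mem_univ i)
    simp only [] at hj
    show ((x : Fin m → Matrix.SpecialLinearGroup (Fin 2) L) ^ p ^ 1) i = 1
    rw [Pi.pow_apply, ← hj, pow_one, ← zpow_natCast, ← _root_.zpow_mul, mul_comm, _root_.zpow_mul, zpow_natCast, hA,
      _root_.one_zpow]
  obtain ⟨χ, h1, h2⟩ := st_of_form hS hpr π (e.symm.surjective.comp (QuotientGroup.mk'_surjective _)) hπk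
    hrL (rhoS m L) rhoS_injective (fun u => SympCount.stdForm m L u) (fun g u v => rhoS_pres g u v) (D := Q.map (tHom m))
    (hQ.map _) (by
      intro U hU hinv
      obtain ⟨u, hu, hu0⟩ := (Submodule.ne_bot_iff U).1 hU
      obtain ⟨i, hi⟩ : ∃ i : Fin m, ¬ (u (Sum.inl i) = 0 ∧ u (Sum.inr i) = 0) := by
        by_contra hcon
        push Not at hcon
        apply hu0
        funext x
        rcases x with x | x
        · exact (hcon x).1
        · exact (hcon x).2
      let a : Fin m → Matrix.SpecialLinearGroup (Fin 2) L := Pi.mulSingle i A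
      have ha : a ∈ Q := by
        refine (Subgroup.mem_pi _).2 fun j _ => ?_
        by_cases hj : j = i
        · subst hj
          simp only [a, Pi.mulSingle_eq_same]
          exact Subgroup.mem_zpowers A
        · simp only [a, Pi.mulSingle_eq_of_ne hj]
          exact one_mem _
      refine ⟨u, hu, rhoS m L (tHom m a) u, hinv _ (Subgroup.mem_map_of_mem _ ha) u hu, ?_⟩
      have hact : rhoS m L (tHom m a) u = tm (fun i => (a i : Matrix (Fin 2) (Fin 2) L)) *ᵥ u := rfl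
      rw [hact, SympCount.stdForm_apply]
      intro h0
      apply hi
      refine no_eig hp2 h hpL hA hA1 ?_
      rw [Finset.sum_eq_single i] at h0
      · rw [tm_inl, tm_inr] at h0
        simp only [a, Pi.mulSingle_eq_same] at h0
        linear_combination -h0
      · intro j _ hj
        rw [tm_inl, tm_inr]
        simp only [a, Pi.mulSingle_eq_of_ne hj, Matrix.SpecialLinearGroup.coe_one]
        simp
        ring
      · intro h3
        exact absurd (Finset.mem_univ _) h3)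
  refine ⟨χ, h1, ?_⟩
  rw [h2]
  have hcS : Nat.card S * Nat.card (Subgroup.center (Matrix.symplecticGroup (Fin m) L)) =
      Nat.card (Matrix.symplecticGroup (Fin m) L) := by
    rw [Subgroup.card_eq_card_quotient_mul_card_subgroup (Subgroup.center (Matrix.symplecticGroup (Fin m) L)),
      Nat.card_congr e.toEquiv]
  have hcop : Nat.Coprime (Fintype.card L ^ (m ^ 2)) (Nat.card (Subgroup.center (Matrix.symplecticGroup (Fin m) L))) := by
    rw [SympCenter.card_center (by omega)]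
    apply Nat.Coprime.pow_left
    apply Nat.Coprime.coprime_dvd_right (Nat.gcd_dvd_right _ _)
    have h5 : 1 < Fintype.card L := Fintype.one_lt_card
    have := Nat.coprime_self_sub_right (m := 1) (n := Fintype.card L) (by omega)
    rw [this]
    exact Nat.coprime_one_right _
  have hdvd : Fintype.card L ^ (m ^ 2) ∣ Nat.card S := by
    refine hcop.dvd_of_dvd_mul_right ?_
    rw [hcS, SympCount.card_symplecticGroup]
    exact Dvd.intro _ rfl
  have h6 : (Fintype.card L ^ (m ^ 2)) = ringChar L ^ ((k : ℕ) * m ^ 2) := by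
    rw [hk, ← pow_mul]
  rw [h6]
  refine Nat.pow_le_pow_right hr.out.pos ?_
  rw [h6] at hdvd
  exact (Nat.Prime.pow_dvd_iff_le_factorization hr.out Nat.card_pos.ne').1 hdvd

end Cfsg.Agent.H719.BD
end

-- part: H674/BD/Sp
section
/-!
# The `Kill` row of the symplectic groups, `p` odd, cross characteristic (helper674)

* `kill_psp`, `tab_psp` (the field `psp` of `TabBig`).
-/

set_option autoImplicit false
set_option linter.unusedSectionVars false

namespace Cfsg.Agent.H674.BD.Sp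

open Cfsg Matrix Cfsg.Agent.H589.BD Cfsg.Agent.H787.BD Cfsg.Agent.H674.BD.Parts Cfsg.Agent.H674.BD.OmNum
  Cfsg.Agent.H674.BD.Rows Cfsg.Agent.H895.BR Cfsg.Agent.H376.SpEmb

universe u

section num

open Cfsg.Agent.H31.BD

/-- the inequality for the unitary type with the group `Sp_{2w}(q^f)` -/
theorem ineqS {q f p w o A P B : ℕ} (hq : 2 ≤ q) (hx : 4 ≤ q ^ f) (hf : 1 ≤ f) (hp : 2 * f + 1 ≤ p) (hw : p ^ 2 ≤ w)
    (ho : o ≤ q ^ 2) (hA : A < q ^ (2 * f * (w + 1) * (2 * f))) (hP : P ^ 2 ≤ (3 * (q ^ f + 1) ^ 2) ^ (w + 1))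
    (hB : q ^ (f * w ^ 2) ≤ B) : 4 * o ^ 5 * A ^ 2 * P ^ 3 ≤ B ^ 2 := by
  have h6 := P6 (pow10 hx) hP rfl
  rw [← pow_mul] at h6
  refine combine (by omega) (ho12 hq ho) hA.le h6 hB ?_
  have h1 : (2 * f + 1) ^ 2 ≤ w := (Nat.pow_le_pow_left hp 2).trans hw
  have hw1 : 9 ≤ w := le_trans (by nlinarith only [hf]) h1
  -- `24 + 16 f² (w + 1) + 10 f (w + 1) ≤ 4 f w²`
  have h2 : 24 + 4 * (2 * f * (w + 1) * (2 * f)) + f * (10 * (w + 1)) ≤ 4 * (f * w ^ 2) := by
    have h3 : 24 ≤ 24 * f := by omega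
    have h4 : 24 + 16 * f * (w + 1) + 10 * (w + 1) ≤ 4 * w ^ 2 := by
      rcases Nat.eq_or_lt_of_le hf with h5 | h5
      · subst h5
        nlinarith only [hw1]
      · have h7 : 25 ≤ w := le_trans (by nlinarith only [h5]) h1
        nlinarith only [h1, h7]
    calc 24 + 4 * (2 * f * (w + 1) * (2 * f)) + f * (10 * (w + 1)) ≤ f * (24 + 16 * f * (w + 1) + 10 * (w + 1)) := by
          linarith only [hf]
      _ ≤ f * (4 * w ^ 2) := Nat.mul_le_mul_left _ h4
      _ = 4 * (f * w ^ 2) := by ring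
  exact h2

end num

section lift

/-- a homomorphism with central kernel -/
theorem exists_sub_of_ker {G : Type*} [Group G] {X : Type*} [Group X] (f : G →* X) (hf : f.ker ≤ Subgroup.center G) :
    ∃ (H : Subgroup X) (π : H →* G ⧸ Subgroup.center G), Function.Surjective π := by
  refine ⟨f.range, (QuotientGroup.map f.ker (Subgroup.center G) (MonoidHom.id G) hf).comp
    (QuotientGroup.quotientKerEquivRange f).symm.toMonoidHom, ?_⟩
  intro x
  obtain ⟨g, rfl⟩ := QuotientGroup.mk_surjective x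
  refine ⟨⟨f g, ⟨g, rfl⟩⟩, ?_⟩
  have h1 : (QuotientGroup.quotientKerEquivRange f).symm ⟨f g, ⟨g, rfl⟩⟩ = (g : G ⧸ f.ker) := by
    rw [MulEquiv.symm_apply_eq]
    rfl
  show QuotientGroup.map f.ker (Subgroup.center G) (MonoidHom.id G) hf
    ((QuotientGroup.quotientKerEquivRange f).symm ⟨f g, ⟨g, rfl⟩⟩) = _
  rw [h1]
  rfl

/-- the kernel of `G → Y → Y / Z(Y)` for an injective `G → Y` is central -/
theorem ker_le {G : Type*} [Group G] {Y : Type*} [Group Y] (φ : G →* Y) (hφ : Function.Injective φ) :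
    ((QuotientGroup.mk' (Subgroup.center Y)).comp φ).ker ≤ Subgroup.center G := by
  intro x hx
  have h1 : φ x ∈ Subgroup.center Y := by
    have h2 : QuotientGroup.mk' (Subgroup.center Y) (φ x) = 1 := hx
    rwa [QuotientGroup.mk'_apply, QuotientGroup.eq_one_iff] at h2
  rw [Subgroup.mem_center_iff]
  intro y
  apply hφ
  rw [map_mul, map_mul]
  exact Subgroup.mem_center_iff.1 h1 (φ y)

end lift

section sp

variable {F : Type} [Field F] [Fintype F] {m : ℕ}

theorem spRho_injective : Function.Injective (spRho m F) := by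
  intro A B h
  apply Subtype.ext
  apply Matrix.mulVec_injective
  funext v
  exact DFunLike.congr_fun h v

/-- the embedding `Sp_{2a} → Sp_{2m}`, `a ≤ m` -/
theorem exists_spEmb {a : ℕ} (h : a ≤ m) :
    ∃ φ : symplecticGroup (Fin a) F →* symplecticGroup (Fin m) F, Function.Injective φ := by
  obtain ⟨c, rfl⟩ := Nat.exists_eq_add_of_le h
  refine ⟨((reidx finSumFinEquiv).comp (blk (Fin a) (Fin c))).comp (MonoidHom.inl _ _), ?_⟩
  refine ((reidx_injective finSumFinEquiv).comp (blk_injective _ _)).comp ?_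
  intro x y hxy
  exact congrArg Prod.fst hxy

/-- the embedding `Sp_{2a} → PSp_{2m}`, `a < m` -/
theorem exists_spEmb' {a : ℕ} (h : a < m) :
    ∃ φ : symplecticGroup (Fin a) F →* PSp m F, Function.Injective φ := by
  obtain ⟨c, rfl⟩ := Nat.exists_eq_add_of_lt h
  let φ : symplecticGroup (Fin a) F →* symplecticGroup (Fin (a + (c + 1))) F :=
    ((reidx finSumFinEquiv).comp (blk (Fin a) (Fin (c + 1)))).comp (MonoidHom.inl _ _)
  have hφ : Function.Injective φ := by
    refine ((reidx_injective finSumFinEquiv).comp (blk_injective _ _)).comp ?_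
    intro x y hxy
    exact congrArg Prod.fst hxy
  refine ⟨(QuotientGroup.mk' (Subgroup.center (symplecticGroup (Fin (a + (c + 1))) F))).comp φ, ?_⟩
  rw [injective_iff_map_eq_one]
  intro A hA
  have h1 : φ A ∈ Subgroup.center (symplecticGroup (Fin (a + (c + 1))) F) := by
    have h2 : QuotientGroup.mk' (Subgroup.center (symplecticGroup (Fin (a + (c + 1))) F)) (φ A) = 1 := hA
    rwa [QuotientGroup.mk'_apply, QuotientGroup.eq_one_iff] at h2
  obtain ⟨t, ht⟩ := (Cfsg.Agent.LieClassical.SympCenter.mem_center_iff _ _).1 h1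
  -- a fixed vector
  have h3 : (φ A).1 (Sum.inl (finSumFinEquiv (Sum.inr 0))) (Sum.inl (finSumFinEquiv (Sum.inr 0))) = 1 := by
    show (blkM A.1 (1 : Matrix (Fin (c + 1) ⊕ Fin (c + 1)) (Fin (c + 1) ⊕ Fin (c + 1)) F)).submatrix
      (Equiv.sumCongr finSumFinEquiv finSumFinEquiv).symm (Equiv.sumCongr finSumFinEquiv finSumFinEquiv).symm
      (Sum.inl (finSumFinEquiv (Sum.inr 0))) (Sum.inl (finSumFinEquiv (Sum.inr 0))) = 1
    simp [blkM, Matrix.toBlocks₁₁]
  have h4 : t = 1 := by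
    rw [ht] at h3
    simpa using h3
  apply hφ
  apply Subtype.ext
  rw [ht, h4, one_smul, map_one]
  rfl

/-- the Levi subgroup `SL_n → PSp_{2m}`, `n < m` -/
theorem exists_levi {n : ℕ} (h : n < m) :
    ∃ l : _root_.Matrix.SpecialLinearGroup (Fin n) F →* PSp m F, Function.Injective l := by
  obtain ⟨φ, hφ⟩ := exists_spEmb' (F := F) h
  refine ⟨(φ.comp (levi (Fin n))).comp SpecialLinearGroup.toGL, (hφ.comp (levi_injective _)).comp ?_⟩
  intro A B hAB
  apply Subtype.ext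
  exact congrArg Units.val hAB

theorem card_psp (hm : 1 ≤ m) : Nat.gcd 2 (Nat.card F - 1) * Nat.card (PSp m F) =
    Nat.card F ^ (m ^ 2) * ∏ i ∈ Finset.range m, (Nat.card F ^ (2 * (i + 1)) - 1) := by
  rw [Nat.card_eq_fintype_card (α := F)]
  have h1 := S0245.result (F := F) rfl m
  have h2 := S0246.result (F := F) rfl m hm
  have h3 := Subgroup.card_mul_index (Subgroup.center ↥(Matrix.symplecticGroup (Fin m) F))
  rw [h1, h2] at h3
  exact h3

variable {p : ℕ} [hp : Fact p.Prime]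

theorem psp_p (hp2 : p ≠ 2) (hm : 1 ≤ m) (hq : ¬ p ∣ Nat.card F) {f : ℕ}
    (hf : orderOf ((Nat.card F : ZMod p) ^ 2) = f) :
    (ordProj[p] (Nat.card (PSp m F))) ^ 2 ≤ (3 * (Nat.card F ^ f + 1) ^ 2) ^ (m / f) :=
  ordProj_le hp2 Finite.one_lt_card hf (not_dvd_pow hq _) (Dvd.intro_left _ (card_psp hm))

theorem not_dvd_center (hp2 : p ≠ 2) (hm : 1 ≤ m) :
    ¬ p ∣ Nat.card (Subgroup.center ↥(Matrix.symplecticGroup (Fin m) F)) := by
  rw [S0246.result (F := F) rfl m hm]
  intro h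
  have h1 := h.trans (Nat.gcd_dvd_left _ _)
  exact hp2 ((Nat.prime_dvd_prime_iff_eq hp.out Nat.prime_two).1 h1)

theorem rpart_psp (hm : 1 ≤ m) {r : ℕ} [hr : Fact r.Prime] [CharP F r] :
    Nat.card F ^ (m * (m - 1)) ≤ ordProj[r] (Nat.card (PSp m F)) := by
  have h1 := card_psp (F := F) hm
  obtain ⟨n, -, hn⟩ := FiniteField.card F r
  have h2 : m ^ 2 = m * (m - 1) + m := by
    obtain ⟨k, rfl⟩ : ∃ k, m = k + 1 := ⟨m - 1, by omega⟩
    simp only [Nat.add_sub_cancel]
    ring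
  rw [h2, pow_add, mul_assoc] at h1
  refine le_ordProj Nat.card_pos ⟨n, by rw [Nat.card_eq_fintype_card, hn]⟩ ?_ h1
  have h3 : Nat.Coprime (Nat.card F) (Nat.card F - 1) :=
    (Nat.coprime_self_sub_right Nat.card_pos).2 (Nat.coprime_one_right _)
  exact Nat.Coprime.coprime_dvd_right (Nat.gcd_dvd_right _ _) h3

theorem psp_out (hm : 3 ≤ m) [IsSimpleGroup (PSp m F)] (hna : ¬ IsMulCommutative (PSp m F)) :
    Nat.card (Cfsg.Out (PSp m F)) ≤ Nat.card F ^ 2 ∧ (Nat.card F = 2 → Nat.card (Cfsg.Out (PSp m F)) ≤ 2) := by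
  obtain ⟨r, hchar⟩ := CharP.exists F
  obtain ⟨f, hr, hf⟩ := FiniteField.card F r
  have hrf : Fact r.Prime := ⟨hr⟩
  have h1 := S0814.result r f f.pos hf m (by omega) (fun h => by omega)
  rw [if_neg (by omega : ¬ (m = 2 ∧ r = 2)), one_mul] at h1
  rw [card_out_eq hna h1]
  have h2 : Nat.gcd 2 (r ^ (f : ℕ) - 1) ≤ 2 := Nat.gcd_le_left _ two_pos
  constructor
  · refine out_arith hr (by rw [Nat.card_eq_fintype_card, hf]) (h2.trans ?_)
    split_ifs <;> norm_num
  · intro h3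
    rw [Nat.card_eq_fintype_card, hf] at h3
    have h4 : r = 2 := by
      have h5 : r ∣ 2 := h3 ▸ dvd_pow_self r f.ne_zero
      exact (Nat.prime_dvd_prime_iff_eq hr Nat.prime_two).1 h5
    subst h4
    have h5 : (f : ℕ) = 1 := by
      have h6 : 2 ^ (f : ℕ) = 2 ^ 1 := by rw [h3]; norm_num
      exact Nat.pow_right_injective le_rfl h6
    rw [h5, mul_one]
    rw [h5] at h2
    exact h2

theorem alpha_psp (hp2 : p ≠ 2) (hm : 1 ≤ m) (hpq : ¬ p ∣ Nat.card F) {k : ℕ} (hk : 0 < k)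
    (hpk : p ∣ Nat.card F ^ k - 1) (hpS : p ∣ Nat.card (PSp m F)) :
    ∃ α : IrrCharacter (PSp m F), InB0 p α ∧ NT α ∧
      charDegree (α : PSp m F → ℂ) < Nat.card F ^ ((2 * m + 0) * k) := by
  have hpG : p ∣ Nat.card (symplecticGroup (Fin m) F) := hpS.trans (Subgroup.card_quotient_dvd_card _)
  let ρ : symplecticGroup (Fin m) F →* ((Fin m ⊕ Fin m → F) →ₗ[F] (Fin m ⊕ Fin m → F)) :=
    (LinearEquiv.automorphismGroup.toLinearMapMonoidHom).comp (spRho m F)
  have hρ : Function.Injective ρ := fun a b h => by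
    apply spRho_injective
    apply LinearEquiv.toLinearMap_injective
    exact h
  obtain ⟨χ, h1, h2, h3⟩ := Cfsg.Agent.H719.BD.alpha_lin hpG ρ hρ hpq hk hpk
    (QuotientGroup.mk' (Subgroup.center (symplecticGroup (Fin m) F))) (QuotientGroup.mk'_surjective _)
    (by
      rw [QuotientGroup.ker_mk']
      exact not_dvd_center hp2 hm)
  refine ⟨χ, h1, ?_, ?_⟩
  · by_contra hcon
    apply h2
    funext g
    by_contra hg
    exact hcon ⟨g, hg⟩
  · refine lt_of_lt_of_eq h3 ?_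
    have h4 : Nat.card (Fin m ⊕ Fin m) = 2 * m + 0 := by
      rw [Nat.card_eq_fintype_card, Fintype.card_sum, Fintype.card_fin]
      omega
    rw [Nat.card_fun, h4, pow_mul]

variable {S : Type u} [Group S] [Finite S] [IsSimpleGroup S]

theorem not_comm {X : Type} [Group X] (hna : ¬ IsMulCommutative S) (e : S ≃* X) : ¬ IsMulCommutative X := fun hc =>
  hna ⟨⟨fun a b => e.injective (by rw [map_mul, map_mul]; exact hc.is_comm.comm _ _)⟩⟩

theorem fam_psp (hp2 : p ≠ 2) (hna : ¬ IsMulCommutative S) (hpS : p ∣ Nat.card S) (hm : 3 ≤ m)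
    (e : S ≃* PSp m F) (hpq : ¬ p ∣ Nat.card F) : Fam0 p F (PSp m F) m 0 := by
  have hX : IsSimpleGroup (PSp m F) := e.symm.isSimpleGroup
  have hnX := not_comm hna e
  have hpX : p ∣ Nat.card (PSp m F) := by rwa [← Nat.card_congr e.toEquiv]
  obtain ⟨r, -, hr, hchar, -⟩ := exists_card F
  have hr' : Fact r.Prime := ⟨hr⟩
  exact ⟨by norm_num, by norm_num, (psp_out hm hnX).1, (psp_out hm hnX).2,
    fun k hk hd => alpha_psp hp2 (by omega) hpq hk hd hpX,
    fun f hf => psp_p hp2 (by omega) hpq hf, fun n hn => exists_levi hn,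
    fun hd => beta_stIn (Cfsg.Agent.H749.Bd.stIn_psp (r := r) (by omega) hp2
      (by rwa [← Nat.card_eq_fintype_card])) (rpart_psp (by omega) (r := r))⟩

/-- the unitary type: the Steinberg character of `Sp_{2w}(q ^ f)` -/
theorem beta_psp (hp2 : p ≠ 2) {f w : ℕ} (hf : 0 < f) (hw : 1 ≤ w) (hwm : f * w ≤ m) (hd : p ∣ Nat.card F ^ f + 1) :
    ∃ β : IrrCharacter (PSp m F), InB0 p β ∧ Nat.card F ^ (f * w ^ 2) ≤ charDegree (β : PSp m F → ℂ) := by
  have : NeZero f := ⟨hf.ne'⟩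
  obtain ⟨r, hr⟩ := CharP.exists F
  have hr' : Fact r.Prime := ⟨CharP.char_is_prime F r⟩
  let L := FiniteField.Extension F r f
  have : Fintype L := Fintype.ofFinite L
  have hL : Nat.card L = Nat.card F ^ f := FiniteField.natCard_extension F r f
  have hL' : Fintype.card L = Fintype.card F ^ f := by
    rw [← Nat.card_eq_fintype_card, hL, Nat.card_eq_fintype_card]
  obtain ⟨φ, hφ⟩ := Cfsg.Agent.H454.SpExt.exists_hom_card (K := L) (F := F) hf.ne' hL' rfl w
  obtain ⟨ψ, hψ⟩ := exists_spEmb (F := F) hwm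
  obtain ⟨χ, h1, h2⟩ := Cfsg.Agent.H719.BD.st_psp (S := PSp w L) hp2 (by rw [hL', ← Nat.card_eq_fintype_card]; exact hd) hw
    (MulEquiv.refl _)
  refine beta_cover (exists_sub_of_ker ((QuotientGroup.mk' (Subgroup.center (symplecticGroup (Fin m) F))).comp
    (ψ.comp φ)) (ker_le _ (hψ.comp hφ))) ⟨χ, h1, ?_⟩
  rw [hL', ← Nat.card_eq_fintype_card, ← pow_mul] at h2
  exact h2

/-- even order -/
theorem kill_psp_even (hp2 : p ≠ 2) (hna : ¬ IsMulCommutative S) (hS : SizeOK S) (hpS : p ∣ Nat.card S)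
    (e : S ≃* PSp m F) (hm : 3 ≤ m) (hpq : ¬ p ∣ Nat.card F) {f : ℕ} (hf : 0 < f)
    (he : orderOf (Nat.card F : ZMod p) = 2 * f) (hw : p ^ 2 * f ≤ m) : Kill p S := by
  have h := fam_psp hp2 hna hpS hm e hpq
  have hq : 1 < Nat.card F := Finite.one_lt_card
  have h9 := _root_.Cfsg.Agent.H674.BD.Rows.nine_le hp2 (p := p)
  have hp2f := le_of_even hpq he
  have hqf := dvd_add_one hq.le hf he
  have hd : p ∣ Nat.card F ^ (2 * f) - 1 := dvd_pow_sub hq.le (by rw [he])
  set w := m / f with hwd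
  have hw' : p ^ 2 ≤ w := (Nat.le_div_iff_mul_le hf).2 hw
  have hwm : f * w ≤ m := Nat.mul_div_le m f
  have hlt : m < f * (w + 1) := by
    have := Nat.lt_mul_div_succ m hf
    rwa [← hwd] at this
  refine kill_om hna hS hpS e (h.alpha (2 * f) (by omega) hd) (beta_psp hp2 hf (by omega) hwm hqf) ?_
  intro a B ha hB
  have hP := h.pp f (orderOf_sq_even he)
  have hm0 : m + 0 / 2 = m := by omega
  rw [hm0, ← hwd] at hP
  by_cases hx : 4 ≤ Nat.card F ^ f
  · refine ineqS hq hx hf hp2f hw' h.out (lt_of_lt_of_le ha ?_) (hP.trans ?_) hB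
    · refine Nat.pow_le_pow_right (by omega) (Nat.mul_le_mul_right _ ?_)
      have h4 : 2 * f * (w + 1) = 2 * (f * (w + 1)) := by ring
      omega
    · exact Nat.pow_le_pow_right (by positivity) (by omega)
  · -- `q = 2`, `p = 3`
    have hq2 : Nat.card F = 2 ∧ f = 1 := by
      have h4 : Nat.card F ≤ Nat.card F ^ f := Nat.le_self_pow hf.ne' _
      have h5 : Nat.card F ≠ 3 := by
        intro h5
        rw [h5] at hx hqf
        have h6 : f = 1 := by
          by_contra h6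
          apply hx
          calc 4 ≤ 3 ^ 2 := by norm_num
            _ ≤ 3 ^ f := Nat.pow_le_pow_right (by norm_num) (by omega)
        rw [h6] at hqf
        have h7 : p ∣ 2 ^ 2 := by simpa using hqf
        exact hp2 ((Nat.prime_dvd_prime_iff_eq hp.out Nat.prime_two).1 (hp.out.dvd_of_dvd_pow h7))
      have h6 : Nat.card F = 2 := by omega
      refine ⟨h6, ?_⟩
      by_contra h7
      apply hx
      rw [h6]
      calc 4 = 2 ^ 2 := by norm_num
        _ ≤ 2 ^ f := Nat.pow_le_pow_right (by norm_num) (by omega)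
    obtain ⟨hq2, rfl⟩ := hq2
    have hwm' : w = m := by rw [hwd, Nat.div_one]
    rw [hwm'] at hw' hP hB
    rw [hq2, pow_one] at hP
    rw [hq2] at ha hB
    have h27 : 3 * (2 + 1) ^ 2 = 27 := by norm_num
    rw [h27] at hP
    refine Cfsg.Agent.H31.BD.ineqD (m := m) (w := m) (Or.inl ⟨rfl, by omega⟩) (h.out2 hq2) ?_ hP (le_trans ?_ hB)
    · exact lt_of_lt_of_le ha (Nat.pow_le_pow_right (by norm_num) (by omega))
    · refine Nat.pow_le_pow_right (by norm_num) ?_
      rw [one_mul, pow_two]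
      exact Nat.mul_le_mul_left _ (Nat.sub_le _ _)

/-- **`PSp_{2m}(q)`.** -/
theorem kill_psp (hp2 : p ≠ 2) (hna : ¬ IsMulCommutative S) (hS : SizeOK S) (hpS : p ∣ Nat.card S)
    (hpF : ¬ p ∣ Fintype.card F) (hw : p ^ 2 * Nat.lcm 2 (orderOf (Fintype.card F : ZMod p)) ≤ 2 * m)
    (e : S ≃* PSp m F) : Kill p S := by
  rw [← Nat.card_eq_fintype_card] at hpF hw
  have h9 := _root_.Cfsg.Agent.H674.BD.Rows.nine_le hp2 (p := p)
  have h0 := orderOf_pos' hpF
  have hm3 : 3 ≤ m := by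
    have h1 : 2 ≤ Nat.lcm 2 (orderOf (Nat.card F : ZMod p)) :=
      Nat.le_of_dvd (Nat.lcm_pos two_pos h0) (Nat.dvd_lcm_left _ _)
    have h2 : 9 * 2 ≤ p ^ 2 * Nat.lcm 2 (orderOf (Nat.card F : ZMod p)) := Nat.mul_le_mul h9 h1
    omega
  rcases Nat.even_or_odd (orderOf (Nat.card F : ZMod p)) with he | ho
  · rw [Nat.lcm_eq_right he.two_dvd] at hw
    obtain ⟨f, hf⟩ := he
    rw [← two_mul] at hf
    rw [hf] at hw
    have h1 : p ^ 2 * (2 * f) = 2 * (p ^ 2 * f) := by ring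
    exact kill_psp_even hp2 hna hS hpS e hm3 hpF (by omega) hf (by omega)
  · rw [Nat.Coprime.lcm_eq_mul (Nat.coprime_two_left.2 ho)] at hw
    have h1 : p ^ 2 * (2 * orderOf (Nat.card F : ZMod p)) = 2 * (p ^ 2 * orderOf (Nat.card F : ZMod p)) := by ring
    have h3 : p ^ 2 * orderOf (Nat.card F : ZMod p) ≤ m := by omega
    have h := fam_psp hp2 hna hpS hm3 e hpF
    by_cases h4 : orderOf (Nat.card F : ZMod p) = 1
    · rw [h4, mul_one] at h3
      exact kill_one hp2 hna hS hpS e h h4 h3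
    · have h5 : orderOf (Nat.card F : ZMod p) ≠ 2 := by
        intro h5
        rw [h5] at ho
        exact absurd ho (by decide)
      exact kill_odd hp2 hna hS hpS e h hpF rfl ho (by omega) h3

end sp

theorem not_dvd_card {p r : ℕ} (hp : p.Prime) (hr : r.Prime) (hpr : p ≠ r) (F : Type) [Field F] [Fintype F]
    [CharP F r] : ¬ p ∣ Fintype.card F := by
  have : Fact r.Prime := ⟨hr⟩
  obtain ⟨n, -, hn⟩ := FiniteField.card F r
  rw [hn]
  intro h
  exact hpr ((Nat.prime_dvd_prime_iff_eq hp hr).1 (hp.dvd_of_dvd_pow h))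

/-- the field `psp` of `TabBig` -/
theorem tab_psp : ∀ p r : ℕ, p.Prime → r.Prime → p ≠ 2 → p ≠ r → ∀ (F : Type) [Field F] [Fintype F] [CharP F r]
    (m : ℕ), 2 ≤ m → bnd p F ≤ 2 * m → RowsOf.{u} p (fun S _ => Nonempty (S ≃* PSp m F)) := by
  intro p r hp hr hp2 hpr F _ _ _ m _ hb S _ _ _ hna hS hpS ⟨e⟩
  have : Fact p.Prime := ⟨hp⟩
  exact Or.inl (kill_psp hp2 hna hS hpS (not_dvd_card hp hr hpr F) hb e)

end Cfsg.Agent.H674.BD.Sp
end

-- part: H719/BD/PsuNine
section
/-!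
# `PSU_9(2)`, `p = 3` (helper719, S4932)
-/

set_option autoImplicit false
set_option linter.unusedSectionVars false

open Cfsg Matrix

namespace Cfsg.Agent.H719.BD.PsuNine

open Cfsg.Agent.LieClassical.HermSiegel Cfsg.Agent.LieClassical.HermBasic Cfsg.Agent.H589.BD

variable {F : Type} [Field F] [Fintype F]

theorem two_eq_zero (hF : Fintype.card F = 2 ^ 2) : (2 : F) = 0 := by
  obtain ⟨r, hr⟩ := CharP.exists F
  obtain ⟨n, hrp, hn⟩ := FiniteField.card F r
  have h1 : r ∣ 2 ^ 2 := by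
    rw [← hF, hn]
    exact dvd_pow_self r n.ne_zero
  have h2 : r = 2 := (Nat.prime_dvd_prime_iff_eq hrp Nat.prime_two).1 (hrp.dvd_of_dvd_pow h1)
  subst h2
  exact_mod_cast CharP.cast_eq_zero F 2

theorem neg_one_eq (hF : Fintype.card F = 2 ^ 2) : (-1 : F) = 1 := by
  have := two_eq_zero hF
  linear_combination -this

/-- the shift -/
noncomputable def sh (hF : Fintype.card F = 2 ^ 2) : SU 9 F 2 :=
  mkSU ((Equiv.addRight (1 : Fin 9)).permMatrix F) (by
    rw [Matrix.det_permutation]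
    rcases Int.units_eq_one_or (Equiv.Perm.sign (Equiv.addRight (1 : Fin 9))) with h | h
    · rw [h]; simp
    · rw [h]
      have := neg_one_eq hF
      simpa using this) (by
    intro u v
    rw [Matrix.permMatrix_mulVec, Matrix.permMatrix_mulVec, herm_def, herm_def]
    exact Equiv.sum_comp (Equiv.addRight (1 : Fin 9)) fun i => u i * v i ^ 2)

theorem act_sh (hF : Fintype.card F = 2 ^ 2) (v : Fin 9 → F) (i : Fin 9) : act (sh hF) v i = v (i + 1) := by
  show ((Equiv.addRight (1 : Fin 9)).permMatrix F *ᵥ v) i = _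
  rw [Matrix.permMatrix_mulVec]
  rfl

theorem ofNat_succ (k : ℕ) : Fin.ofNat 9 (k + 1) = Fin.ofNat 9 k + 1 := by
  apply Fin.ext
  rw [Fin.val_add, Fin.val_ofNat, Fin.val_ofNat]
  show (k + 1) % 9 = (k % 9 + 1) % 9
  omega

theorem act_sh_pow (hF : Fintype.card F = 2 ^ 2) (k : ℕ) (v : Fin 9 → F) (i : Fin 9) :
    act (sh hF ^ k) v i = v (i + Fin.ofNat 9 k) := by
  induction k generalizing v i with
  | zero =>
    rw [pow_zero, act_one]
    congr 1
    exact (add_zero i).symm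
  | succ k ih =>
    rw [pow_succ, act_mul, ih, act_sh, ofNat_succ, add_assoc]

theorem sh_nine (hF : Fintype.card F = 2 ^ 2) : sh hF ^ 9 = 1 := by
  apply ext_act
  intro v
  funext i
  rw [act_sh_pow, act_one]
  congr 1
  exact add_zero i

theorem sh_three (hF : Fintype.card F = 2 ^ 2) : sh hF ^ 3 ≠ 1 := by
  intro h
  have h1 := act_sh_pow hF 3 (Pi.single 3 1) 0
  rw [h, act_one] at h1
  have h2 : (0 : Fin 9) + Fin.ofNat 9 3 = 3 := by decide
  rw [h2, Pi.single_eq_same, Pi.single_eq_of_ne (by decide)] at h1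
  exact zero_ne_one h1

theorem ord_sh (hF : Fintype.card F = 2 ^ 2) :
    3 ∣ orderOf ((sh hF : SU 9 F 2) : PSU 9 F 2) := by
  have h1 : ((sh hF : SU 9 F 2) : PSU 9 F 2) ^ 3 ^ 2 = 1 := by
    rw [← QuotientGroup.mk_pow]
    show (((sh hF ^ 9 : SU 9 F 2)) : PSU 9 F 2) = 1
    rw [sh_nine, QuotientGroup.mk_one]
  obtain ⟨j, -, hj⟩ := (Nat.dvd_prime_pow Nat.prime_three).1 (orderOf_dvd_of_pow_eq_one h1)
  rcases Nat.eq_zero_or_pos j with h0 | h0
  · exfalso
    rw [h0, pow_zero, orderOf_eq_one_iff] at hj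
    have h2 : sh hF ∈ Subgroup.center (SU 9 F 2) := (QuotientGroup.eq_one_iff _).1 hj
    have h3 := orderOf_dvd_natCard (⟨sh hF, h2⟩ : Subgroup.center (SU 9 F 2))
    rw [Subgroup.orderOf_mk, S0279.result hF 9 (by norm_num)] at h3
    exact sh_three hF (orderOf_dvd_iff_pow_eq_one.1 (h3.trans (by norm_num)))
  · rw [hj]
    exact dvd_pow_self 3 h0.ne'

/-- a commuting matrix is a circulant -/
theorem circ (hF : Fintype.card F = 2 ^ 2) {g : SU 9 F 2} (hg : g * sh hF = sh hF * g) (i j : Fin 9) :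
    mat g i j = mat g (i - j) 0 := by
  have h1 : ∀ i j : Fin 9, mat g (i + 1) (j + 1) = mat g i j := by
    intro i j
    rw [← act_single g (j + 1) (i + 1), ← act_single g j i, ← act_sh hF (act g (Pi.single (j + 1) 1)), ← act_mul,
      ← hg, act_mul]
    congr 1
    funext l
    rw [act_sh, Pi.single_apply, Pi.single_apply]
    simp only [add_left_inj]
  have h2 : ∀ k : ℕ, ∀ i j : Fin 9, mat g (i + Fin.ofNat 9 k) (j + Fin.ofNat 9 k) = mat g i j := by
    intro k
    induction k with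
    | zero =>
      intro i j
      have e : Fin.ofNat 9 0 = 0 := rfl
      rw [e, add_zero, add_zero]
    | succ k ih => intro i j; rw [ofNat_succ, ← add_assoc, ← add_assoc, h1, ih]
  have h3 := h2 (j : ℕ) (i - j) 0
  have e : Fin.ofNat 9 (j : ℕ) = j := by
    apply Fin.ext
    rw [Fin.val_ofNat]
    exact Nat.mod_eq_of_lt j.2
  rw [e, sub_add_cancel, zero_add] at h3
  exact h3

/-- the value at `x` -/
def ev (x : F) (a : Fin 9 → F) : F := ∑ i : Fin 9, x ^ (i : ℕ) * a i

theorem pow_add_fin {x : F} (hx : x ^ 9 = 1) (i j : Fin 9) : x ^ ((i + j : Fin 9) : ℕ) = x ^ (i : ℕ) * x ^ (j : ℕ) := by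
  rw [Fin.val_add, ← pow_add]
  conv_rhs => rw [← Nat.mod_add_div ((i : ℕ) + j) 9]
  rw [pow_add, pow_mul, hx, one_pow, mul_one]

theorem ev_ne (hF : Fintype.card F = 2 ^ 2) {x : F} (hx : x ^ 9 = 1) {g : SU 9 F 2} (hg : g * sh hF = sh hF * g) :
    ev x (fun i : Fin 9 => mat g i 0) ≠ 0 := by
  intro h0
  have h1 : (fun i : Fin 9 => x ^ (i : ℕ)) ᵥ* mat g = 0 := by
    funext j
    show ∑ i : Fin 9, x ^ (i : ℕ) * mat g i j = 0
    rw [← Equiv.sum_comp (Equiv.addRight j)]
    have h2 : ∀ i : Fin 9, x ^ ((Equiv.addRight j i : Fin 9) : ℕ) * mat g (Equiv.addRight j i) j =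
        x ^ (j : ℕ) * (x ^ (i : ℕ) * mat g i 0) := by
      intro i
      rw [circ hF hg, Equiv.coe_addRight, add_sub_cancel_right, pow_add_fin hx]
      ring
    rw [Finset.sum_congr rfl fun i _ => h2 i, ← Finset.mul_sum]
    unfold ev at h0
    rw [h0, mul_zero]
  have h2 : (mat g).det = 0 := Matrix.exists_vecMul_eq_zero_iff.1 ⟨_, fun h => by
    have h3 := congrFun h 0
    simp at h3, h1⟩
  rw [det_mat] at h2
  exact one_ne_zero h2

/-- the tuples with nonzero values -/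
def T (ω : F) : Type := {a : Fin 9 → F // ev 1 a ≠ 0 ∧ ev ω a ≠ 0 ∧ ev (ω ^ 2) a ≠ 0}

instance (ω : F) : Finite (T ω) := Subtype.finite

theorem card_T (hF : Fintype.card F = 2 ^ 2) {ω : F} (hω : ω ^ 2 + ω + 1 = 0) : Nat.card (T ω) ≤ 110592 := by
  classical
  have h2 := two_eq_zero hF
  have h1 : Nat.card ((Fˣ × Fˣ × Fˣ) × (Fin 6 → F)) = 110592 := by
    rw [Nat.card_prod, Nat.card_prod, Nat.card_prod, Nat.card_fun, Nat.card_eq_fintype_card (α := Fˣ),
      Fintype.card_units, Nat.card_eq_fintype_card (α := F), hF, Nat.card_eq_fintype_card (α := Fin 6), Fintype.card_fin]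
    norm_num
  rw [← h1]
  refine Nat.card_le_card_of_injective (fun a : T ω => ((Units.mk0 _ a.2.1, Units.mk0 _ a.2.2.1, Units.mk0 _ a.2.2.2),
    fun k : Fin 6 => a.1 (k.natAdd 3))) ?_
  intro a b hab
  simp only [Prod.mk.injEq, Units.mk0_inj] at hab
  obtain ⟨⟨e0, e1, e2⟩, e3⟩ := hab
  have f : ∀ k : Fin 6, a.1 (k.natAdd 3) = b.1 (k.natAdd 3) := fun k => congrFun e3 k
  have f3 := f 0
  have f4 := f 1
  have f5 := f 2
  have f6 := f 3
  have f7 := f 4
  have f8 := f 5
  have e : ∀ x (c : Fin 9 → F), ev x c = c 0 + x * c 1 + x ^ 2 * c 2 + (x ^ 3 * c 3 + x ^ 4 * c 4 + x ^ 5 * c 5 +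
      x ^ 6 * c 6 + x ^ 7 * c 7 + x ^ 8 * c 8) := by
    intro x c
    unfold ev
    rw [Fin.sum_univ_succ, Fin.sum_univ_eight]
    show x ^ 0 * c 0 + (x ^ 1 * c 1 + x ^ 2 * c 2 + x ^ 3 * c 3 + x ^ 4 * c 4 + x ^ 5 * c 5 + x ^ 6 * c 6 +
      x ^ 7 * c 7 + x ^ 8 * c 8) = _
    ring
  rw [e, e] at e0 e1 e2
  have g3 : a.1 3 = b.1 3 := f3
  have g4 : a.1 4 = b.1 4 := f4
  have g5 : a.1 5 = b.1 5 := f5
  have g6 : a.1 6 = b.1 6 := f6
  have g7 : a.1 7 = b.1 7 := f7
  have g8 : a.1 8 = b.1 8 := f8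
  rw [g3, g4, g5, g6, g7, g8, add_left_inj] at e0 e1 e2
  have g0 : a.1 0 = b.1 0 := by
    linear_combination e0 + e1 + e2 - (a.1 1 - b.1 1) * hω - (1 - ω + ω ^ 2) * (a.1 2 - b.1 2) * hω -
      (a.1 0 - b.1 0) * h2
  have g1 : a.1 1 = b.1 1 := by
    linear_combination e0 + ω ^ 2 * e1 + ω * e2 - (a.1 0 - b.1 0) * hω - ω ^ 3 * (a.1 1 - b.1 1) * h2 -
      (ω ^ 3 - ω + 1) * (a.1 2 - b.1 2) * hω
  have g2 : a.1 2 = b.1 2 := by
    linear_combination e0 + ω * e1 + ω ^ 2 * e2 - (a.1 0 - b.1 0) * hω - (1 - ω + ω ^ 2) * (a.1 1 - b.1 1) * hω -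
      ω ^ 3 * (a.1 2 - b.1 2) * h2 - ω ^ 3 * (ω - 1) * (a.1 2 - b.1 2) * hω
  apply Subtype.ext
  funext i
  fin_cases i
  · exact g0
  · exact g1
  · exact g2
  · exact g3
  · exact g4
  · exact g5
  · exact g6
  · exact g7
  · exact g8

theorem ev_const (x c : F) (a : Fin 9 → F) : ev x (fun i => a i + c) = ev x a + c * ∑ i : Fin 9, x ^ (i : ℕ) := by
  unfold ev
  rw [Finset.mul_sum, ← Finset.sum_add_distrib]
  exact Finset.sum_congr rfl fun i _ => by ring

theorem sum_omega {ω : F} (hω : ω ^ 2 + ω + 1 = 0) : ∑ i : Fin 9, ω ^ (i : ℕ) = 0 := by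
  rw [Fin.sum_univ_succ, Fin.sum_univ_eight]
  show ω ^ 0 + (ω ^ 1 + ω ^ 2 + ω ^ 3 + ω ^ 4 + ω ^ 5 + ω ^ 6 + ω ^ 7 + ω ^ 8) = 0
  linear_combination (1 + ω ^ 3 + ω ^ 6) * hω

theorem sum_one (hF : Fintype.card F = 2 ^ 2) : ∑ i : Fin 9, (1 : F) ^ (i : ℕ) = 1 := by
  rw [Finset.sum_congr rfl fun i _ => one_pow _, Finset.sum_const, Finset.card_univ, Fintype.card_fin, nsmul_eq_mul,
    mul_one]
  have := two_eq_zero hF
  push_cast
  linear_combination 4 * this

/-- the sum of a matrix and a constant -/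
theorem const_zero (hF : Fintype.card F = 2 ^ 2) {g g' : SU 9 F 2} (hg : g * sh hF = sh hF * g) {c : F}
    (h : ∀ i j, mat g' i j = mat g i j + c) : c = 0 := by
  set E := ev 1 (fun i : Fin 9 => mat g i 0) with hE
  have hE0 : E ≠ 0 := ev_ne hF (one_pow 9) hg
  -- columns sums
  have hrow : ∀ i, ∑ j, mat g i j = E := by
    intro i
    rw [hE]
    unfold ev
    rw [← Equiv.sum_comp (Equiv.subLeft i)]
    refine Finset.sum_congr rfl fun j _ => ?_
    rw [circ hF hg, Equiv.subLeft_apply, sub_sub_cancel, one_pow, one_mul]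
  have h1 : mat g' = mat g * (1 + Matrix.replicateCol (Fin 1) (fun _ : Fin 9 => c * E⁻¹) *
      Matrix.replicateRow (Fin 1) (fun _ : Fin 9 => (1 : F))) := by
    ext i j
    rw [Matrix.mul_add, Matrix.mul_one, Matrix.add_apply, h i j]
    congr 1
    rw [Matrix.mul_apply]
    have h2 : ∀ l : Fin 9, mat g i l * (Matrix.replicateCol (Fin 1) (fun _ : Fin 9 => c * E⁻¹) *
      Matrix.replicateRow (Fin 1) (fun _ : Fin 9 => (1 : F))) l j = mat g i l * (c * E⁻¹) := by
      intro l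
      rw [Matrix.mul_apply]
      simp
    rw [Finset.sum_congr rfl fun l _ => h2 l, ← Finset.sum_mul, hrow, mul_comm c, mul_inv_cancel_left₀ hE0]
  have h2 := congrArg Matrix.det h1
  rw [Matrix.det_mul, det_mat, det_mat, one_mul, Matrix.det_one_add_mul_comm] at h2
  rw [Matrix.det_unique] at h2
  have h3 : (Matrix.replicateRow (Fin 1) (fun _ : Fin 9 => (1 : F)) *
      Matrix.replicateCol (Fin 1) (fun _ : Fin 9 => c * E⁻¹)) default default = c * E⁻¹ := by
    rw [Matrix.mul_apply]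
    simp only [Matrix.replicateRow_apply, Matrix.replicateCol_apply, one_mul, Finset.sum_const, Finset.card_univ,
      Fintype.card_fin, nsmul_eq_mul]
    have := two_eq_zero hF
    push_cast
    linear_combination (4 * (c * E⁻¹)) * this
  rw [Matrix.add_apply, Matrix.one_apply_eq, h3, left_eq_add] at h2
  rcases mul_eq_zero.1 h2 with h4 | h4
  · exact h4
  · exact absurd (inv_eq_zero.1 h4) hE0

theorem exists_omega (hF : Fintype.card F = 2 ^ 2) : ∃ ω : F, ω ^ 2 + ω + 1 = 0 := by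
  classical
  have h3 : Fact (Nat.Prime 3) := ⟨Nat.prime_three⟩
  obtain ⟨z, hz⟩ := exists_prime_orderOf_dvd_card' (G := Fˣ) 3 (by
    rw [Nat.card_eq_fintype_card, Fintype.card_units, hF]
    norm_num)
  refine ⟨z, ?_⟩
  have h1 : (z : F) ^ 3 = 1 := by rw [← Units.val_pow_eq_pow_val, ← hz, pow_orderOf_eq_one, Units.val_one]
  have h2 : (z : F) - 1 ≠ 0 := by
    intro h
    have h4 : z = 1 := Units.ext (by rw [Units.val_one]; exact sub_eq_zero.1 h)
    rw [h4, orderOf_one] at hz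
    exact absurd hz (by norm_num)
  apply mul_left_cancel₀ h2
  rw [mul_zero]
  linear_combination h1

/-- **The centralizer of the shift.** -/
theorem card_cent (hF : Fintype.card F = 2 ^ 2) : Nat.card (Subgroup.centralizer ({sh hF} : Set (SU 9 F 2))) ≤ 36864 := by
  classical
  have hfin : Finite (SU 9 F 2) := inferInstance
  obtain ⟨ω, hω⟩ := exists_omega hF
  have h2 := two_eq_zero hF
  have hω3 : ω ^ 3 = 1 := by linear_combination (ω - 1) * hω
  have hω9 : ω ^ 9 = 1 := by rw [show ω ^ 9 = (ω ^ 3) ^ 3 by ring, hω3, one_pow]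
  have hω18 : (ω ^ 2) ^ 9 = 1 := by rw [← pow_mul, mul_comm, pow_mul, hω9, one_pow]
  have hω' : (ω ^ 2) ^ 2 + ω ^ 2 + 1 = 0 := by linear_combination (ω ^ 2 - ω + 1) * hω
  have hω1 : ω ≠ 1 := by
    rintro rfl
    apply one_ne_zero (α := F)
    linear_combination hω - h2
  have hω0 : ω ≠ 0 := by
    rintro rfl
    apply one_ne_zero (α := F)
    linear_combination hω
  have hcomm : ∀ g : Subgroup.centralizer ({sh hF} : Set (SU 9 F 2)), (g : SU 9 F 2) * sh hF = sh hF * g := fun g =>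
    Subgroup.mem_centralizer_singleton_iff.1 g.2
  have h1 : Nat.card (Subgroup.centralizer ({sh hF} : Set (SU 9 F 2)) × Fin 3) ≤ Nat.card (T ω) := by
    refine Nat.card_le_card_of_injective (fun x => (⟨fun i => mat (x.1 : SU 9 F 2) i 0 +
      (ω ^ (x.2 : ℕ) - 1) * ev 1 (fun i : Fin 9 => mat (x.1 : SU 9 F 2) i 0), ?_, ?_, ?_⟩ : T ω)) ?_
    · rw [ev_const, sum_one hF]
      have h3 := ev_ne hF (one_pow 9) (hcomm x.1)
      have h4 : ev 1 (fun i : Fin 9 => mat (x.1 : SU 9 F 2) i 0) + (ω ^ (x.2 : ℕ) - 1) *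
          ev 1 (fun i : Fin 9 => mat (x.1 : SU 9 F 2) i 0) * 1 =
          ω ^ (x.2 : ℕ) * ev 1 (fun i : Fin 9 => mat (x.1 : SU 9 F 2) i 0) := by ring
      rw [h4]
      exact mul_ne_zero (pow_ne_zero _ hω0) h3
    · rw [ev_const, sum_omega hω, mul_zero, add_zero]
      exact ev_ne hF hω9 (hcomm x.1)
    · rw [ev_const, sum_omega hω', mul_zero, add_zero]
      exact ev_ne hF hω18 (hcomm x.1)
    · rintro ⟨g, j⟩ ⟨g', j'⟩ hgg
      have h3 := fun i => congrFun (congrArg Subtype.val hgg) i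
      simp only [] at h3
      set c := (ω ^ (j : ℕ) - 1) * ev 1 (fun i : Fin 9 => mat (g : SU 9 F 2) i 0) with hc
      set c' := (ω ^ (j' : ℕ) - 1) * ev 1 (fun i : Fin 9 => mat (g' : SU 9 F 2) i 0) with hc'
      have h4 : c - c' = 0 := by
        refine const_zero hF (hcomm g) (g' := g') ?_
        intro i k
        rw [circ hF (hcomm g), circ hF (hcomm g')]
        linear_combination -(h3 (i - k))
      have h5 : g = g' := by
        apply Subtype.ext
        apply mat_injective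
        ext i k
        rw [circ hF (hcomm g), circ hF (hcomm g')]
        linear_combination (h3 (i - k)) - h4
      subst h5
      have h6 : (ω ^ (j : ℕ) - ω ^ (j' : ℕ)) * ev 1 (fun i : Fin 9 => mat (g : SU 9 F 2) i 0) = 0 := by
        rw [hc, hc'] at h4
        linear_combination h4
      have h7 : ω ^ (j : ℕ) = ω ^ (j' : ℕ) := by
        rcases mul_eq_zero.1 h6 with h7 | h7
        · exact sub_eq_zero.1 h7
        · exact absurd h7 (ev_ne hF (one_pow 9) (hcomm g))
      have h8 : orderOf ω = 3 := by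
        have h3p : Fact (Nat.Prime 3) := ⟨Nat.prime_three⟩
        exact orderOf_eq_prime hω3 hω1
      have h9 : (j : ℕ) = (j' : ℕ) := pow_injOn_Iio_orderOf (by rw [Set.mem_Iio, h8]; exact j.2)
        (by rw [Set.mem_Iio, h8]; exact j'.2) h7
      rw [Fin.ext h9]
  rw [Nat.card_prod, Nat.card_eq_fintype_card (α := Fin 3), Fintype.card_fin] at h1
  have h3 := card_T hF hω
  omega

universe u

/-- **`PSU_9(2)`, `p = 3`** -/
theorem kill_nine {S : Type u} [Group S] [Finite S] [IsSimpleGroup S] (hna : ¬ IsMulCommutative S) (hS : SizeOK S)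
    (hF : Fintype.card F = 2 ^ 2) (e : S ≃* PSU 9 F 2) : Kill 3 S := by
  have h3p : Fact (Nat.Prime 3) := ⟨Nat.prime_three⟩
  have hfin : Finite (SU 9 F 2) := inferInstance
  have hfin : Finite (PSU 9 F 2) := Quotient.finite _
  have hX : IsSimpleGroup (PSU 9 F 2) := e.symm.isSimpleGroup
  have hnX : ¬ IsMulCommutative (PSU 9 F 2) := fun hc =>
    hna ⟨⟨fun a b => e.injective (by rw [map_mul, map_mul]; exact hc.is_comm.comm _ _)⟩⟩
  obtain ⟨β, hβ1, hβ2⟩ := PsuOne.st (p := 3) (n := 9) hF (by norm_num) (by norm_num)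
  obtain ⟨f, -, -, -, h2f, hO⟩ := out_psu (n := 9) hF (by norm_num) hnX
  rw [h2f rfl] at hO
  have hOS : Nat.card (Cfsg.Out S) = 6 := by
    rw [H674.BD.Rows.card_out_congr hna e, hO]
    norm_num
  obtain ⟨v, hv, hv0⟩ : ∃ v : Fin 9 → F, hermForm 9 F 2 v v = 0 ∧ v ≠ 0 := by
    have h1 := Cfsg.Agent.LieClassical.HermCount.card_isotropic hF 9
    have hpos : 1 < Nat.card {v : Fin 9 → F // hermForm 9 F 2 v v = 0} := by
      rw [h1, if_neg (by decide)]
      norm_num
    have h1 := Finite.one_lt_card_iff_nontrivial.1 hpos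
    obtain ⟨x, hx⟩ := exists_ne (⟨0, herm_zero_left _⟩ : {v : Fin 9 → F // hermForm 9 F 2 v v = 0})
    exact ⟨x.1, x.2, fun h => hx (Subtype.ext h)⟩
  obtain ⟨α, hα1, hα2, hα3⟩ := exists_small _ (PsuOne.dvd_index (p := 3) hF (by norm_num) (by norm_num) hv hv0)
  have hα4 : charDegree (α : PSU 9 F 2 → ℂ) ≤ 43604 := by
    have h4 : ((PsuOne.H0 (q := 2) v).map (QuotientGroup.mk' (Subgroup.center (SU 9 F 2)))).index ≤
        (PsuOne.H0 (q := 2) v).index := by
      rw [Subgroup.index_map, MonoidHom.range_eq_top.2 (QuotientGroup.mk'_surjective _), Subgroup.index_top, mul_one]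
      exact Nat.le_of_dvd (Nat.pos_of_ne_zero Subgroup.index_ne_zero_of_finite) (Subgroup.index_dvd_of_le le_sup_left)
    have h5 := PsuOne.index_le hF hv hv0
    rw [Cfsg.Agent.LieClassical.HermCount.card_isotropic hF 9, if_neg (by decide)] at h5
    norm_num at h5
    omega
  set u : PSU 9 F 2 := ((sh hF : SU 9 F 2) : PSU 9 F 2) with hu
  have hcu : Nat.card (Subgroup.centralizer ({u} : Set (PSU 9 F 2))) ≤ 36864 :=
    (Cfsg.Agent.H659.BFC.card_centralizer_quotient_le _ _).trans (card_cent hF)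
  have hcS : Nat.card (Subgroup.centralizer ({e.symm u} : Set S)) ≤ 36864 := by
    refine (Nat.card_le_card_of_injective (fun x : Subgroup.centralizer ({e.symm u} : Set S) =>
      (⟨e x, ?_⟩ : Subgroup.centralizer ({u} : Set (PSU 9 F 2)))) ?_).trans hcu
    · rw [Subgroup.mem_centralizer_singleton_iff]
      have h1 := Subgroup.mem_centralizer_singleton_iff.1 x.2
      have h2 := congrArg e h1
      rwa [map_mul, map_mul, e.apply_symm_apply] at h2
    · intro x y hxy
      exact Subtype.ext (e.injective (congrArg Subtype.val hxy))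
  have hnβ : NT (tr e β) := by
    by_contra hcon
    have h1 : ∀ g, ((tr e β : IrrCharacter S) : S → ℂ) g = 1 := fun g => by
      by_contra hg
      exact hcon ⟨g, hg⟩
    have h2 : charDegree ((tr e β : IrrCharacter S) : S → ℂ) = 1 := by
      rw [charDegree, h1]
      simp
    rw [charDegree_tr] at h2
    rw [h2] at hβ2
    exact absurd hβ2 (by norm_num)
  refine H296.BD.kill_size hna hS (tr e α) (tr e β) (hα1.tr e) (hβ1.tr e) (hα2.tr e) hnβ (e.symm u) ?_ ?_
  · have h1 : orderOf (e.symm u) = orderOf u := orderOf_injective e.symm.toMonoidHom e.symm.injective u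
    rw [h1]
    exact ord_sh hF
  · rw [hOS, charDegree_tr, charDegree_tr]
    refine lt_of_lt_of_le ?_ hβ2
    calc 6 * (1 + 6 * Nat.card (Subgroup.centralizer ({e.symm u} : Set S)) * charDegree (α : PSU 9 F 2 → ℂ)) ≤
        6 * (1 + 6 * 36864 * 43604) := by gcongr
      _ < 2 ^ (9 * (9 - 1) / 2) := by norm_num

end Cfsg.Agent.H719.BD.PsuNine
end

-- part: H510/BD/LeviSU
section
/-!
# `SL_v(F) ≤ PSU_n(q)` for `2 v < n`
-/

set_option autoImplicit false

namespace Cfsg.Agent.H510.BD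

open Cfsg Module Matrix Cfsg.Agent.LieClassical.HermBasic Cfsg.Agent.LieClassical.HermSiegel Cfsg.Agent.H779.DP

universe u

theorem exists_levi_psu {F : Type u} [Field F] [Fintype F] {n q : ℕ} (hF : Fintype.card F = q ^ 2) {v : ℕ}
    (hv : 2 * v < n) :
    ∃ l : Matrix.SpecialLinearGroup (Fin v) F →* PSU n F q, Function.Injective l := by
  rcases Nat.eq_zero_or_pos v with rfl | hv0
  · refine ⟨1, fun a b _ => ?_⟩
    apply Subtype.ext
    ext i
    exact i.elim0
  obtain ⟨e, f, E⟩ := exists_frm (F := F) (n := n) (d := v) hF (by omega)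
  refine ⟨(QuotientGroup.mk' _).comp (lev hF E), ?_⟩
  rw [injective_iff_map_eq_one]
  intro M hM
  have h1 : lev hF E M ∈ Subgroup.center (SU n F q) := (QuotientGroup.eq_one_iff _).1 hM
  obtain ⟨c, -, hc⟩ := Cfsg.Agent.H131.ClassTwo.su_center hF (by omega) h1
  have hact : ∀ w : Fin n → F, act (lev hF E M) w = c • w := by
    intro w
    rw [act_def]
    change (Cfsg.Agent.H131.ClassTwo.toU n F q (lev hF E M)) *ᵥ w = c • w
    rw [hc, smul_mulVec, one_mulVec]
  -- a nonzero vector orthogonal to the frame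
  have hfr := finrank_Rp hF E
  obtain ⟨r, hr, hr0⟩ : ∃ r ∈ Rp q e f, r ≠ 0 := by
    rw [← Submodule.ne_bot_iff]
    intro h
    rw [h, finrank_bot] at hfr
    omega
  have h2 := act_lev_Rp hF E M hr
  rw [hact] at h2
  have hc1 : c = 1 := by
    have h3 : (c - 1) • r = 0 := by rw [sub_smul, h2, one_smul, sub_self]
    rcases smul_eq_zero.1 h3 with h4 | h4
    · exact sub_eq_zero.1 h4
    · exact absurd h4 hr0
  have h3 : ∀ w : Fin v → F, M.1 *ᵥ w = w := by
    intro w
    have h4 := act_lev_cmb_e hF E M w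
    rw [hact, hc1, one_smul] at h4
    exact (cmb_injective E h4).symm
  apply Subtype.ext
  ext i j
  have h5 := congrFun (h3 (Pi.single j 1)) i
  rw [Matrix.mulVec_single_one] at h5
  change M.1 i j = (1 : Matrix (Fin v) (Fin v) F) i j
  rw [Matrix.one_apply]
  have h6 : M.1 i j = (Pi.single j (1 : F) : Fin v → F) i := h5
  rw [h6, Pi.single_apply]

end Cfsg.Agent.H510.BD
end

-- part: H719/BD/PsuTwo
section
/-!
# The `Kill` rows of `PSU_n(q)`, `p ∤ q (q + 1)` (helper719, S4932)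
-/

set_option autoImplicit false
set_option linter.unusedSectionVars false

namespace Cfsg.Agent.H719.BD

open Cfsg Cfsg.Agent.H589.BD Cfsg.Agent.H674.BD.Parts Cfsg.Agent.H674.BD.Rows Cfsg.Agent.H674.BD.OmNum

universe u

section num

theorem combine' {q o A P B a b c : ℕ} (hq : 2 ≤ q) (ho : o ≤ q ^ 3) (hA : A ≤ q ^ a) (hP : P ^ 6 ≤ q ^ b)
    (hB : q ^ c ≤ B) (h : 34 + 4 * a + b ≤ 4 * c) : 4 * o ^ 5 * A ^ 2 * P ^ 3 ≤ B ^ 2 := by
  have h0 : 4 * o ^ 5 ≤ q ^ 17 := by
    calc 4 * o ^ 5 ≤ q ^ 2 * (q ^ 3) ^ 5 := by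
          refine Nat.mul_le_mul ?_ (Nat.pow_le_pow_left ho 5)
          nlinarith only [hq]
      _ = q ^ 17 := by ring
  have h1 : (4 * o ^ 5 * A ^ 2 * P ^ 3) ^ 2 ≤ (B ^ 2) ^ 2 := by
    calc (4 * o ^ 5 * A ^ 2 * P ^ 3) ^ 2 = (4 * o ^ 5) ^ 2 * A ^ 4 * P ^ 6 := by ring
      _ ≤ (q ^ 17) ^ 2 * (q ^ a) ^ 4 * q ^ b := by gcongr
      _ = q ^ (34 + 4 * a + b) := by rw [← pow_mul, ← pow_mul, ← pow_add, ← pow_add]; ring_nf
      _ ≤ q ^ (4 * c) := Nat.pow_le_pow_right (by omega) h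
      _ = (q ^ c) ^ 4 := by rw [← pow_mul]; ring_nf
      _ ≤ B ^ 4 := Nat.pow_le_pow_left hB 4
      _ = (B ^ 2) ^ 2 := by ring
  exact le_of_pow_le_pow_left₀ two_ne_zero (Nat.zero_le _) h1

theorem two_mul_half (v : ℕ) : 2 * (v * (v - 1) / 2) = v * (v - 1) := by
  have h4 : 2 ∣ v * (v - 1) := (Nat.even_mul_pred_self v).two_dvd
  omega

/-- `d = 2 f`, `f ≥ 2` -/
theorem num_even {f w : ℕ} (hf : 2 ≤ f) (hw : (2 * f + 1) ^ 2 ≤ w) :
    34 + 4 * (4 * f ^ 2 * (w + 1)) + f * (10 * w) ≤ 4 * (f * ((w - 1) * (w - 2))) := by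
  have hw25 : 25 ≤ w := le_trans (by nlinarith only [hf]) hw
  have h1 : 25 * f ≤ 2 * w := by
    obtain ⟨k, rfl⟩ := Nat.exists_eq_add_of_le hf
    nlinarith only [hw]
  obtain ⟨u, rfl⟩ := Nat.exists_eq_add_of_le hw25
  have e1 : 25 + u - 1 = 24 + u := by omega
  have e2 : 25 + u - 2 = 23 + u := by omega
  rw [e1, e2]
  -- 17 + 16 f (w + 1) + 10 w ≤ 4 (w - 1) (w - 2)
  have h2 : 17 + 16 * (f * (26 + u)) + 10 * (25 + u) ≤ 4 * ((24 + u) * (23 + u)) := by
    have h3 : 25 * (f * (26 + u)) ≤ 2 * ((25 + u) * (26 + u)) := by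
      calc 25 * (f * (26 + u)) = 25 * f * (26 + u) := by ring
        _ ≤ 2 * (25 + u) * (26 + u) := Nat.mul_le_mul_right _ h1
        _ = 2 * ((25 + u) * (26 + u)) := by ring
    nlinarith only [h3]
  have h3 := Nat.mul_le_mul_left f h2
  have h4 : f * (17 + 16 * (f * (26 + u)) + 10 * (25 + u)) =
      17 * f + 4 * (4 * f ^ 2 * (25 + u + 1)) + f * (10 * (25 + u)) := by ring
  have h5 : f * (4 * ((24 + u) * (23 + u))) = 4 * (f * ((24 + u) * (23 + u))) := by ring
  (clear * - hf h3 h4 h5; omega)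

/-- `d` odd -/
theorem num_odd {d w : ℕ} (hd : 3 ≤ d) (hw : (2 * d + 1) ^ 2 ≤ w) :
    34 + 4 * (2 * d ^ 2 * (w + 1)) + d * (8 * w) ≤ 4 * (d * ((w - 1) / 2 * ((w - 1) / 2 - 1))) := by
  have hw49 : 49 ≤ w := le_trans (by nlinarith only [hd]) hw
  have h1 : 49 * d ≤ 3 * w := by
    obtain ⟨k, rfl⟩ := Nat.exists_eq_add_of_le hd
    nlinarith only [hw]
  obtain ⟨v, hv⟩ : ∃ v, (w - 1) / 2 = v + 1 := ⟨(w - 1) / 2 - 1, by omega⟩
  have hv2 : w ≤ 2 * v + 4 := by omega
  have hv23 : 23 ≤ v := by omega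
  rw [hv, Nat.add_sub_cancel]
  have h2 : 12 + 8 * (d * (w + 1)) + 8 * w ≤ 4 * ((v + 1) * v) := by
    have h3 : 49 * (d * (w + 1)) ≤ 3 * (w * (w + 1)) := by
      calc 49 * (d * (w + 1)) = 49 * d * (w + 1) := by ring
        _ ≤ 3 * w * (w + 1) := Nat.mul_le_mul_right _ h1
        _ = 3 * (w * (w + 1)) := by ring
    have h4 : w * (w + 1) ≤ (2 * v + 4) * (2 * v + 5) := Nat.mul_le_mul hv2 (by omega)
    nlinarith only [hw49, hv2, h3]
  have h3 := Nat.mul_le_mul_left d h2
  have h4 : d * (12 + 8 * (d * (w + 1)) + 8 * w) = 12 * d + 4 * (2 * d ^ 2 * (w + 1)) + d * (8 * w) := by ring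
  have h5 : d * (4 * ((v + 1) * v)) = 4 * (d * ((v + 1) * v)) := by ring
  (clear * - hd h3 h4 h5; omega)

end num

variable {p : ℕ} [hp : Fact p.Prime] {S : Type u} [Group S] [Finite S] [IsSimpleGroup S] {F : Type} [Field F]
  [Fintype F] {n q : ℕ}

/-- **A small degree.** -/
theorem alpha_su (hF : Fintype.card F = q ^ 2) (hpq : ¬ p ∣ q) (hpq1 : ¬ p ∣ q + 1) (hn : 3 ≤ n)
    (hpS : p ∣ Nat.card (PSU n F q)) {k : ℕ} (hk : 0 < k) (hpk : p ∣ Nat.card F ^ k - 1) :
    ∃ α : IrrCharacter (PSU n F q), InB0 p α ∧ NT α ∧ charDegree (α : PSU n F q → ℂ) < q ^ (2 * n * k) := by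
  have hfin : Finite (SU n F q) := inferInstance
  have hfin : Finite (PSU n F q) := Quotient.finite _
  have hcF : Nat.card F = q ^ 2 := by rw [Nat.card_eq_fintype_card, hF]
  obtain ⟨χ, h1, h2, h3⟩ := alpha_lin (K := F) (V := Fin n → F) (p := p)
    (hpS.trans (Subgroup.card_quotient_dvd_card (Subgroup.center (SU n F q)))) (PsuOne.rho n q F)
    PsuOne.rho_injective (by rw [hcF]; exact fun h => hpq (hp.out.dvd_of_dvd_pow h)) hk hpk
    (QuotientGroup.mk' (Subgroup.center (SU n F q))) (QuotientGroup.mk'_surjective _) (by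
      rw [QuotientGroup.ker_mk', S0279.result hF n hn]
      exact fun h => hpq1 (h.trans (Nat.gcd_dvd_right _ _)))
  refine ⟨χ, h1, ?_, ?_⟩
  · by_contra hcon
    apply h2
    funext g
    by_contra hg
    exact hcon ⟨g, hg⟩
  · refine lt_of_lt_of_eq h3 ?_
    rw [Nat.card_fun, Nat.card_eq_fintype_card (α := Fin n), Fintype.card_fin, hcF, ← pow_mul, ← pow_mul, mul_assoc]

theorem order_dvd (hpq : ¬ p ∣ q) : orderOf (-(q : ZMod p)) ∣ p - 1 := by
  apply orderOf_dvd_of_pow_eq_one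
  refine ZMod.pow_card_sub_one_eq_one ?_
  intro h
  exact hpq ((ZMod.natCast_eq_zero_iff _ _).1 (neg_eq_zero.1 h))

theorem dvd_card_pow (hF : Fintype.card F = q ^ 2) {k : ℕ} (h : (-(q : ZMod p)) ^ (2 * k) = 1) :
    p ∣ Nat.card F ^ k - 1 := by
  have hq := two_le_q hF
  rw [Nat.card_eq_fintype_card, hF, ← pow_mul, ← ZMod.natCast_eq_zero_iff, Nat.cast_sub (Nat.one_le_pow _ _ (by omega)),
    Nat.cast_pow, Nat.cast_one, ← Even.neg_pow (even_two_mul k), h, sub_self]

theorem not_dvd_add (hd1 : orderOf (-(q : ZMod p)) ≠ 1) : ¬ p ∣ q + 1 := by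
  intro h
  apply hd1
  rw [orderOf_eq_one_iff, neg_eq_iff_add_eq_zero]
  have h1 := (ZMod.natCast_eq_zero_iff (q + 1) p).2 h
  push_cast at h1
  exact h1

/-- **`p ∣ q - 1`** -/
theorem kill_psu_two (hna : ¬ IsMulCommutative S) (hS : SizeOK S) (hpS : p ∣ Nat.card S)
    (hF : Fintype.card F = q ^ 2) (hp2 : p ≠ 2) (hpq : ¬ p ∣ q) (e : S ≃* PSU n F q)
    (hd : orderOf (-(q : ZMod p)) = 2) (hn : p ^ 2 * 2 ≤ n) : Kill p S := by
  have hq := two_le_q hF
  have h9 := nine_le (p := p) hp2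
  have hfin : Finite (PSU n F q) := Quotient.finite _
  have hX : IsSimpleGroup (PSU n F q) := e.symm.isSimpleGroup
  have hnX : ¬ IsMulCommutative (PSU n F q) := fun hc =>
    hna ⟨⟨fun a b => e.injective (by rw [map_mul, map_mul]; exact hc.is_comm.comm _ _)⟩⟩
  have hpX : p ∣ Nat.card (PSU n F q) := by rwa [← Nat.card_congr e.toEquiv]
  have hq1 := not_dvd_add (p := p) (q := q) (by rw [hd]; norm_num)
  have h1 : (-(q : ZMod p)) ^ 2 = 1 := hd ▸ pow_orderOf_eq_one _
  have hqm : p ∣ q - 1 := by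
    have h2 := dvd_card_pow (p := p) (k := 1) hF (by rw [mul_one]; exact h1)
    rw [pow_one, Nat.card_eq_fintype_card, hF, show q ^ 2 - 1 = (q + 1) * (q - 1) by
      have := Nat.sq_sub_sq q 1
      rwa [one_pow] at this] at h2
    exact (hp.out.dvd_mul.1 h2).resolve_left hq1
  have hq4 : 4 ≤ q := _root_.Cfsg.Agent.H674.BD.Rows.four_le hp2 hq hqm
  obtain ⟨r, hchar⟩ := CharP.exists F
  obtain ⟨k, hrp, hk⟩ := FiniteField.card F r
  have hr : Fact r.Prime := ⟨hrp⟩
  refine kill_om hna hS hpS e (alpha_su hF hpq hq1 (by omega) hpX one_pos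
    (dvd_card_pow hF (by rw [mul_one]; exact h1)))
    (beta_stIn (Cfsg.Agent.H749.Bd.stIn_psu (r := r) hp2 (by omega) hF hqm) (PsuOne.rpart (r := r) hF (by omega))) ?_
  intro a B ha hB
  have hP := psu_p (p := p) (n := n) hp2 hF hpq (by omega) hd (vp_even hp2 hq (f := 1) one_pos)
  rw [pow_one] at hP
  rw [mul_one] at ha
  refine combine' hq (out_psu_le hF (by omega) hnX) ha.le
    (Cfsg.Agent.H31.BD.P6 (Cfsg.Agent.H31.BD.pow10 hq4) hP rfl) hB ?_
  have h2 : 10 * (n / 2) ≤ 5 * n := by omega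
  have h3 := two_mul_half n
  obtain ⟨u, rfl⟩ := Nat.exists_eq_add_of_le (show 18 ≤ n by omega)
  have e1 : 18 + u - 1 = 17 + u := by omega
  rw [e1] at h3 ⊢
  have h4 : 4 * ((18 + u) * (17 + u) / 2) = 2 * ((18 + u) * (17 + u)) := by omega
  rw [h4]
  nlinarith only [h2]

/-- **`ord_p (-q) ≥ 3`** -/
theorem kill_psu_levi (hna : ¬ IsMulCommutative S) (hS : SizeOK S) (hpS : p ∣ Nat.card S)
    (hF : Fintype.card F = q ^ 2) (hp2 : p ≠ 2) (hpq : ¬ p ∣ q) (e : S ≃* PSU n F q) {d : ℕ}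
    (hd : orderOf (-(q : ZMod p)) = d) (hd3 : 3 ≤ d) (hn : p ^ 2 * d ≤ n) : Kill p S := by
  have hq := two_le_q hF
  have h9 := nine_le (p := p) hp2
  have hfin : Finite (PSU n F q) := Quotient.finite _
  have hX : IsSimpleGroup (PSU n F q) := e.symm.isSimpleGroup
  have hnX : ¬ IsMulCommutative (PSU n F q) := fun hc =>
    hna ⟨⟨fun a b => e.injective (by rw [map_mul, map_mul]; exact hc.is_comm.comm _ _)⟩⟩
  have hpX : p ∣ Nat.card (PSU n F q) := by rwa [← Nat.card_congr e.toEquiv]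
  have hq1 := not_dvd_add (p := p) (q := q) (by rw [hd]; omega)
  have h1 : (-(q : ZMod p)) ^ d = 1 := hd ▸ pow_orderOf_eq_one _
  have hdp := order_dvd (p := p) hpq
  rw [hd] at hdp
  have hp1 := hp.out.one_lt
  have hn4 : 4 ≤ n := by nlinarith only [hd3, hn, h9]
  have hcF : Nat.card F = q ^ 2 := by rw [Nat.card_eq_fintype_card, hF]
  set w := n / d with hw
  have hwp : p ^ 2 ≤ w := (Nat.le_div_iff_mul_le (by omega)).2 hn
  have hwn : w * d ≤ n := Nat.div_mul_le_self n d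
  have hnw : n < d * (w + 1) := Nat.lt_mul_div_succ n (by omega)
  rcases Nat.even_or_odd d with he | ho
  · obtain ⟨f, hf⟩ := he
    rw [← two_mul] at hf
    subst hf
    have hf2 : 2 ≤ f := by omega
    have hpf : 2 * f + 1 ≤ p := by
      have := Nat.le_of_dvd (by omega) hdp
      omega
    have hwf : (2 * f + 1) ^ 2 ≤ w := (Nat.pow_le_pow_left hpf 2).trans hwp
    have hpF : p ∣ Nat.card F ^ f - 1 := dvd_card_pow hF h1
    obtain ⟨l, hl⟩ := Cfsg.Agent.H510.BD.exists_levi_psu (n := n) hF (v := (w - 1) * f) (by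
      have h2 : 2 * ((w - 1) * f) + 2 * f = w * (2 * f) := by
        obtain ⟨u, hu⟩ : ∃ u, w = u + 1 := ⟨w - 1, by omega⟩
        rw [hu, Nat.add_sub_cancel]
        ring
      omega)
    refine kill_om hna hS hpS e (alpha_su hF hpq hq1 (by omega) hpX (by omega) hpF)
      (beta_levi hp2 (D := f) (v := w - 1) (by omega) (by omega) hpF ⟨l, hl⟩) ?_
    intro a B ha hB
    have hP := psu_p (p := p) (n := n) hp2 hF hpq (by omega) hd (vp_even hp2 hq (f := f) (by omega))
    have hx : 4 ≤ q ^ f := by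
      calc 4 = 2 ^ 2 := by norm_num
        _ ≤ q ^ 2 := Nat.pow_le_pow_left hq 2
        _ ≤ q ^ f := Nat.pow_le_pow_right (by omega) hf2
    have h6 := Cfsg.Agent.H31.BD.P6 (Cfsg.Agent.H31.BD.pow10 hx) hP rfl
    rw [← pow_mul q f, ← hw] at h6
    rw [hcF, ← pow_mul] at hB
    have ha' : a ≤ q ^ (4 * f ^ 2 * (w + 1)) := by
      refine ha.le.trans (Nat.pow_le_pow_right (by omega) ?_)
      calc 2 * n * f ≤ 2 * (2 * f * (w + 1)) * f := by gcongr
        _ = 4 * f ^ 2 * (w + 1) := by ring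
    refine combine' hq (out_psu_le hF (by omega) hnX) ha' h6 hB ?_
    have h7 := two_mul_half (w - 1)
    have h8 : 4 * (2 * (f * ((w - 1) * (w - 1 - 1) / 2))) = 4 * (f * ((w - 1) * (w - 2))) := by
      have e1 : w - 1 - 1 = w - 2 := by (clear * - hp h9 hwp; omega)
      rw [e1] at h7 ⊢
      generalize (w - 1) * (w - 2) / 2 = y at h7 ⊢
      rw [← h7]
      ring
    rw [h8]
    exact num_even hf2 hwf
  · have hpd : 2 * d + 1 ≤ p := by
      have h2 : 2 ∣ p - 1 := by
        have := hp.out.odd_of_ne_two hp2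
        obtain ⟨c, hc⟩ := this
        exact ⟨c, by omega⟩
      have h3 : 2 * d ∣ p - 1 := Nat.Coprime.mul_dvd_of_dvd_of_dvd (Nat.coprime_two_left.2 ho) h2 hdp
      have := Nat.le_of_dvd (by omega) h3
      omega
    have hwd : (2 * d + 1) ^ 2 ≤ w := (Nat.pow_le_pow_left hpd 2).trans hwp
    have hw49 : 49 ≤ w := le_trans (by nlinarith only [hd3]) hwd
    have hpF : p ∣ Nat.card F ^ d - 1 := dvd_card_pow hF (by rw [mul_comm, pow_mul, h1, one_pow])
    set v := (w - 1) / 2 with hv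
    obtain ⟨l, hl⟩ := Cfsg.Agent.H510.BD.exists_levi_psu (n := n) hF (v := v * d) (by
      have h2 : 2 * v + 1 ≤ w := by omega
      have h3 := Nat.mul_le_mul_right d h2
      have h4 : (2 * v + 1) * d = 2 * (v * d) + d := by ring
      omega)
    refine kill_om hna hS hpS e (alpha_su hF hpq hq1 (by omega) hpX (by omega) hpF)
      (beta_levi hp2 (D := d) (v := v) (by omega) (by omega) hpF ⟨l, hl⟩) ?_
    intro a B ha hB
    have hP := psu_p (p := p) (n := n) hp2 hF hpq (by omega) hd (vp_odd ho)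
    have hx : 8 ≤ q ^ d := by
      calc 8 = 2 ^ 3 := by norm_num
        _ ≤ q ^ 3 := Nat.pow_le_pow_left hq 3
        _ ≤ q ^ d := Nat.pow_le_pow_right (by omega) hd3
    have h6 := Cfsg.Agent.H31.BD.P6 (Cfsg.Agent.H31.BD.pow8 hx) hP rfl
    rw [← pow_mul q d, ← hw] at h6
    rw [hcF, ← pow_mul] at hB
    have ha' : a ≤ q ^ (2 * d ^ 2 * (w + 1)) := by
      refine ha.le.trans (Nat.pow_le_pow_right (by omega) ?_)
      calc 2 * n * d ≤ 2 * (d * (w + 1)) * d := by gcongr
        _ = 2 * d ^ 2 * (w + 1) := by ring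
    refine combine' hq (out_psu_le hF (by omega) hnX) ha' h6 hB ?_
    have h7 := two_mul_half v
    have h8 : 4 * (2 * (d * (v * (v - 1) / 2))) = 4 * (d * (v * (v - 1))) := by
      generalize v * (v - 1) / 2 = y at h7 ⊢
      rw [← h7]
      ring
    rw [h8]
    exact num_odd hd3 hwd

end Cfsg.Agent.H719.BD
end

-- part: H719/BD/TabPsu
section
/-!
# The field `psu` of `TabBig` (helper719, S4932)
-/

set_option autoImplicit false
set_option linter.style.haveILetI false

namespace Cfsg.Agent.H719.BD.TabPsu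

open Cfsg Cfsg.Agent.H246.Dl Cfsg.Agent.H589.BD Cfsg.Agent.H585.BD Cfsg.Agent.H133.FibPce Cfsg.Agent.H51.Mult
  Cfsg.Agent.H787.BD Cfsg.Agent.H719.BD

universe u

/-- **`PSU_n(q)`, `n < p ^ 3`, no outer `p`-elements** -/
theorem tame_psu_three {F : Type} [Field F] [Fintype F] {S : Type u} [Group S] [Finite S] [IsSimpleGroup S]
    {p : ℕ} [hp : Fact p.Prime] (hna : ¬ IsMulCommutative S) {n q : ℕ} (hn : 7 ≤ n) (hnp : n < p ^ 3)
    (hF : Fintype.card F = q ^ 2) (e : S ≃* PSU n F q) (hpF : ¬ p ∣ q) (hO : OutPrime p S) : Tame p S := by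
  haveI : Finite (Matrix.SpecialLinearGroup (Fin n) F) := inferInstance
  haveI : Finite (SU n F q) := inferInstance
  have hpF' : ¬ p ∣ Fintype.card F := by
    rw [hF]
    exact fun h => hpF (hp.out.dvd_of_dvd_pow h)
  have hlog : Nat.log p n + 1 ≤ 3 := by
    have := Nat.log_lt_of_lt_pow' (b := p) (x := 3) (y := n) (by norm_num) hnp
    omega
  have h1 : DlLe p 3 (SU n F q) := (dlLe_su (F := F) (p := p) (n := n) (q := q) (cast_ne_of hpF')).mono hlog
  have hg : Nat.gcd n (q + 1) ≠ 0 := fun h => absurd (Nat.gcd_eq_zero_iff.1 h).1 (by omega)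
  haveI : NeZero (Nat.gcd n (q + 1)) := ⟨hg⟩
  have hperf : commutator (SU n F q) = ⊤ :=
    Cfsg.Agent.LieClassical.HermPerfect.commutator_SU_eq_top hF (by omega) (by omega)
  let π : SU n F q →* S := e.symm.toMonoidHom.comp (QuotientGroup.mk' _)
  have hk : π.ker = Subgroup.center (SU n F q) := by
    ext x
    rw [MonoidHom.mem_ker]
    change e.symm (QuotientGroup.mk' _ x) = 1 ↔ _
    rw [map_eq_one_iff _ e.symm.injective]
    exact QuotientGroup.eq_one_iff x
  have hπ : PCE π := ⟨e.symm.surjective.comp (QuotientGroup.mk'_surjective _), hk.le, hperf⟩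
  have hck : Nat.card π.ker = Nat.gcd n (q + 1) := by
    rw [hk, S0279.result hF n (by omega)]
  have hM : HasCyclicSchurMultiplier S (Nat.gcd n (q + 1)) :=
    H487.HasSchurMultiplier.congr_left (S2089.result n q hF (by omega) (by omega) (by
      simp only [Set.mem_insert_iff, Set.mem_singleton_iff, Prod.mk.injEq]
      omega)) e.symm
  haveI : Finite (Multiplicative (ZMod (Nat.gcd n (q + 1)))) := inferInstanceAs (Finite (ZMod _))
  refine tame_three (center_simple hna) (covDl_of_cover hM hπ (m := 1) (by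
    intro h
    exact hp.out.one_lt.ne' (Nat.dvd_one.1 h)) ?_ h1) hO
  rw [hck, mul_one]
  exact (Nat.card_zmod _).dvd

theorem not_dvd_q {p r : ℕ} (hp : p.Prime) (hr : r.Prime) (hpr : p ≠ r) (F : Type) [Field F] [Fintype F]
    [CharP F r] {q : ℕ} (hF : Fintype.card F = q ^ 2) : ¬ p ∣ q := by
  have : Fact r.Prime := ⟨hr⟩
  intro h
  obtain ⟨f, -, hf⟩ := PsuOne.exists_q (r := r) hF
  rw [hf] at h
  exact hpr ((Nat.prime_dvd_prime_iff_eq hp hr).1 (hp.dvd_of_dvd_pow h))

/-- **The literal field.** -/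
theorem tab_psu : ∀ p r : ℕ, p.Prime → r.Prime → p ≠ 2 → p ≠ r → ∀ (F : Type) [Field F] [Fintype F] [CharP F r] (n q : ℕ),
    Fintype.card F = q ^ 2 → 4 ≤ n → (p ^ 2 * orderOf (-(q : ZMod p)) ≤ n ∨ (p ∣ n ∧ p ∣ q + 1)) →
      RowsOf.{u} p (fun S _ => Nonempty (S ≃* PSU n F q)) := by
  intro p r hp hr hp2 hpr F _ _ _ n q hF hn hb S _ _ _ hna hS hpS ⟨e⟩
  have hpf : Fact p.Prime := ⟨hp⟩
  have hpq := not_dvd_q hp hr hpr F hF
  have hp3 : 3 ≤ p := by
    have := hp.two_le
    omega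
  have hdp : 0 < orderOf (-(q : ZMod p)) :=
    Nat.pos_of_dvd_of_pos (order_dvd hpq) (Nat.sub_pos_of_lt hp.one_lt)
  by_cases hn2 : n < p ^ 2
  · have h1 : p ∣ n ∧ p ∣ q + 1 := by
      rcases hb with h | h
      · exfalso
        have : p ^ 2 * 1 ≤ p ^ 2 * orderOf (-(q : ZMod p)) := Nat.mul_le_mul_left _ hdp
        omega
      · exact h
    have hn4 : n ≠ 4 := by
      rintro rfl
      have h2 : p ∣ 2 ^ 2 := by norm_num; exact h1.1
      exact hp2 ((Nat.prime_dvd_prime_iff_eq hp Nat.prime_two).1 (hp.dvd_of_dvd_pow h2))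
    exact Or.inr (Cfsg.Agent.H978.BD.tame_psu hna hn hn2 hF e hpq (by (clear * - hn4; tauto)) (by (clear * - hn4; tauto)) hp2)
  push Not at hn2
  by_cases hd1 : p ∣ q + 1
  · by_cases hex : q = 2 ∧ n ≤ 11
    · obtain ⟨rfl, hn11⟩ := hex
      have hp3' : p = 3 := (Nat.prime_dvd_prime_iff_eq hp Nat.prime_three).1 hd1
      subst hp3'
      have h9 : 9 ≤ n := hn2
      by_cases hn9 : n = 9
      · subst hn9
        exact Or.inl (PsuNine.kill_nine hna hS hF e)
      · refine Or.inr (tame_psu_three hna (by omega) (by omega) hF e hpq ?_)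
        have hfin : Finite (PSU n F 2) := Quotient.finite _
        have hX : IsSimpleGroup (PSU n F 2) := e.symm.isSimpleGroup
        have hnX : ¬ IsMulCommutative (PSU n F 2) := fun hc =>
          hna ⟨⟨fun a b => e.injective (by rw [map_mul, map_mul]; exact hc.is_comm.comm _ _)⟩⟩
        obtain ⟨f, -, -, -, h2f, hO⟩ := out_psu (n := n) hF hn hnX
        show ¬ 3 ∣ Nat.card (Out S)
        rw [H674.BD.Rows.card_out_congr hna e, hO, h2f rfl]
        have : n = 10 ∨ n = 11 := by omega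
        rcases this with rfl | rfl <;> norm_num
    · exact Or.inl (kill_psu_one hna hS hpS hF hp2 hd1 e hn2 hex)
  · have hb' : p ^ 2 * orderOf (-(q : ZMod p)) ≤ n := by (clear * - p n q hb hpf hd1; tauto)
    have hd : orderOf (-(q : ZMod p)) ≠ 1 := by
      intro h
      apply hd1
      rw [orderOf_eq_one_iff, neg_eq_iff_add_eq_zero] at h
      apply (ZMod.natCast_eq_zero_iff (q + 1) p).1
      push_cast
      exact h
    by_cases hd2 : orderOf (-(q : ZMod p)) = 2
    · rw [hd2] at hb'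
      exact Or.inl (kill_psu_two hna hS hpS hF hp2 hpq e hd2 hb')
    · exact Or.inl (kill_psu_levi hna hS hpS hF hp2 hpq e rfl (by omega) hb')

end Cfsg.Agent.H719.BD.TabPsu
end

-- part: H787/BD/Final
section
/-!
# S4932 / S4953: all rows (helper787)

`rows_of` : all rows, from the classification and `SizeOK`.
-/

set_option autoImplicit false

namespace Cfsg.Agent.H787.BD

open Cfsg Cfsg.Agent.H589.BD

universe u

/-- The table `TabBig`. -/
theorem tabBig : TabBig.{u} where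
  psl := fun _ _ hp hr h2 hpr F _ _ _ _ hn _ => psl_all hp hr h2 hpr F (by omega) (fun h => by omega)
  psp := H674.BD.Sp.tab_psp
  psu := H719.BD.TabPsu.tab_psu
  odd := H674.BD.Table.tab_odd
  plus := H674.BD.Table.tab_plus
  minus := H674.BD.Table.tab_minus
  e6 := H726.BD.e6
  e7 := H726.BD.e7
  e8 := H726.BD.e8
  te := H726.BD.te

/-- **All rows.** -/
theorem rows_of
    (hK : ∀ (S : Type u) [Group S] [Finite S] [IsSimpleGroup S], IsKnownSimple' S)
    (hS : ∀ (S : Type u) [Group S] [Finite S] [IsSimpleGroup S], ¬ IsMulCommutative S → SizeOK S) :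
    Rows.{u} := by
  intro S _ _ _ hna
  have hz := hS S hna
  refine ⟨hz, fun p hp hd => ?_⟩
  rcases OddHalf.Known.classify' hna (hK S) with h | ⟨r, hr, h⟩ | h | h
  · exact alt_row hp S hna hz hd h
  · by_cases hpr : p = r
    · subst hpr
      exact own_row hp S hna hz hd h
    · by_cases h2 : p = 2
      · subst h2
        exact two_row hr (fun h0 => hpr h0.symm) S hna hz hd h
      · exact tabBig.row tabSmall hp hr h2 hpr S hna hz hd h
  · exact H619.BD.row_tits hna hz h hp hd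
  · exact H619.BD.row_sporadic hna hz h hp hd

end Cfsg.Agent.H787.BD
end

-- part: H654/BD/SizeOK
section
/-!
# `SizeOK S` for all known simple groups (S4932 / S4953)

From helper954's `OL S` : `|Out S| < χ(1)` for all irreducible characters of degree `≠ 1`.
-/

set_option autoImplicit false

namespace Cfsg.Agent.H654.BD

open Cfsg Cfsg.Agent.H589.BD Cfsg.Agent.H954.OutDeg Cfsg.Agent.Characters

universe u

/-- A nontrivial irreducible character of a nonabelian simple group has degree `≠ 1`. -/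
theorem degree_ne_one {S : Type u} [Group S] [Finite S] [IsSimpleGroup S] (hna : ¬ IsMulCommutative S)
    {χ : IrrCharacter S} (h : ∃ g : S, (χ : S → ℂ) g ≠ 1) : charDegree (χ : S → ℂ) ≠ 1 := by
  intro h1
  have h2 : (χ : S → ℂ) 1 = 1 := by
    rw [Cfsg.Agent.Blocks.Basic.irr_one_eq_charDegree χ.2, h1, Nat.cast_one]
  obtain ⟨f, hf⟩ := Linear.exists_hom_of_isIrrCharacter χ.2 h2
  rcases (inferInstance : f.ker.Normal).eq_bot_or_eq_top with h3 | h3
  · apply hna
    have hi : Function.Injective f := (MonoidHom.ker_eq_bot_iff f).1 h3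
    exact ⟨⟨fun a b => hi (by rw [map_mul, map_mul, mul_comm])⟩⟩
  · obtain ⟨g, hg⟩ := h
    apply hg
    have h4 : f g = 1 := by
      have : g ∈ f.ker := by rw [h3]; trivial
      exact this
    have h5 := congrFun hf g
    rw [h4] at h5
    simpa using h5

/-- `SizeOK` for all known simple groups. -/
theorem sizeOK {S : Type u} [Group S] [Finite S] [IsSimpleGroup S] (hna : ¬ IsMulCommutative S)
    (h : Cfsg.IsKnownSimple' S) : SizeOK S :=
  fun χ hχ => Cfsg.Agent.H954.OutAllL.ol hna h χ (degree_ne_one hna hχ)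

end Cfsg.Agent.H654.BD
end
end
end
end
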